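import Cfsg.Agent.CentralRankOne.Basic
import Cfsg.Agent.Comp.Fitting
import Cfsg.Agent.GWApps.Tools
import Cfsg.Agent.Zassenhaus.ComplementType
import Cfsg.Agent.DGroup.Fusion
import Cfsg.Agent.PushL2.Setup
import Cfsg.Agent.S3742
import Cfsg.Agent.S0205
import Cfsg.Agent.Char.Burnside

/-!
# Intersections of Sylow 2-subgroups of rank at most one: first consequences

Notation: `P = O₂(G)`; it lies in every Sylow 2-subgroup, so has rank at most one when there are two of
them.
-/

set_option autoImplicit false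
set_option linter.unusedSectionVars false
set_option linter.style.haveILetI false

namespace CfsgLib.RankOneMeet

open Subgroup

universe u

/-- Distinct Sylow 2-subgroups meet in a group of 2-rank at most one. -/
def Rk (G : Type u) [Group G] : Prop :=
  ∀ S T : Sylow 2 G, S ≠ T → Cfsg.PRankLE 2 1 ↥((S : Subgroup G) ⊓ (T : Subgroup G))

variable {G : Type u} [Group G] [Finite G]

theorem Rk.meets (h : Rk G) : CentralRankOne.Meets G := fun S T hST _ _ _ => h S T hST

/-- A four-group lies in only one Sylow 2-subgroup. -/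
theorem Rk.unique (h : Rk G) {S T : Sylow 2 G} {a b : G} (ha : a * a = 1) (hb : b * b = 1)
    (hc : a * b = b * a) (ha1 : a ≠ 1) (hb1 : b ≠ 1) (hne : a ≠ b) (haS : a ∈ (S : Subgroup G))
    (hbS : b ∈ (S : Subgroup G)) (haT : a ∈ (T : Subgroup G)) (hbT : b ∈ (T : Subgroup G)) : S = T := by
  by_contra hST
  exact hne (congrArg Subtype.val (CentralRankOne.eq_of_rank_one (h S T hST)
    (a := ⟨a, haS, haT⟩) (b := ⟨b, hbS, hbT⟩) (Subtype.ext ha) (Subtype.ext hb) (Subtype.ext hc)
    (fun e => ha1 (congrArg Subtype.val e)) fun e => hb1 (congrArg Subtype.val e)))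

/-- An element moving a four-group of `S` into `S` normalizes `S`. -/
theorem Rk.mem_normalizer (h : Rk G) {S : Sylow 2 G} {a b n : G} (ha : a * a = 1) (hb : b * b = 1)
    (hc : a * b = b * a) (ha1 : a ≠ 1) (hb1 : b ≠ 1) (hne : a ≠ b) (haS : a ∈ (S : Subgroup G))
    (hbS : b ∈ (S : Subgroup G)) (hna : n * a * n⁻¹ ∈ (S : Subgroup G))
    (hnb : n * b * n⁻¹ ∈ (S : Subgroup G)) : n ∈ normalizer ((S : Subgroup G) : Set G) := by
  have hmem : ∀ x : G, n * x * n⁻¹ ∈ (S : Subgroup G) →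
      x ∈ ((n⁻¹ • S : Sylow 2 G) : Subgroup G) := by
    intro x hx
    rw [Sylow.coe_subgroup_smul]
    exact ⟨_, hx, by show n⁻¹ * (n * x * n⁻¹) * n⁻¹⁻¹ = x; group⟩
  have e := h.unique ha hb hc ha1 hb1 hne haS hbS (hmem a hna) (hmem b hnb)
  simpa using inv_mem (Sylow.smul_eq_iff_mem_normalizer.1 e.symm)

/-- Elements normalizing a subgroup of rank two of `S` normalize `S`. -/
theorem Rk.normalizer_le (h : Rk G) {S : Sylow 2 G} {R : Subgroup G} (hR : R ≤ (S : Subgroup G))
    {a b : G} (ha : a * a = 1) (hb : b * b = 1) (hc : a * b = b * a) (ha1 : a ≠ 1) (hb1 : b ≠ 1)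
    (hne : a ≠ b) (haR : a ∈ R) (hbR : b ∈ R) :
    normalizer (R : Set G) ≤ normalizer ((S : Subgroup G) : Set G) := fun n hn =>
  h.mem_normalizer ha hb hc ha1 hb1 hne (hR haR) (hR hbR) (hR ((mem_normalizer_iff.1 hn a).1 haR))
    (hR ((mem_normalizer_iff.1 hn b).1 hbR))

/-- Subgroups inherit the hypothesis. -/
theorem Rk.subgroup (h : Rk G) (K : Subgroup G) : Rk K := by
  intro P R hPR
  haveI : Fact (Nat.Prime 2) := ⟨Nat.prime_two⟩
  obtain ⟨S, hS⟩ := (P.2.map K.subtype).exists_le_sylow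
  obtain ⟨T, hT⟩ := (R.2.map K.subtype).exists_le_sylow
  intro A hA hA2
  have hne : S ≠ T := by
    rintro rfl
    refine hPR (Sylow.ext ?_)
    have h1 : (S : Subgroup G).comap K.subtype = (P : Subgroup K) :=
      P.3 S.2.comap_subtype fun p hp => hS ⟨p, hp, rfl⟩
    have h2 : (S : Subgroup G).comap K.subtype = (R : Subgroup K) :=
      R.3 S.2.comap_subtype fun p hp => hT ⟨p, hp, rfl⟩
    exact h1.symm.trans h2
  let f : ↥((P : Subgroup K) ⊓ (R : Subgroup K)) →* ↥((S : Subgroup G) ⊓ (T : Subgroup G)) :=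
    (K.subtype.comp ((P : Subgroup K) ⊓ (R : Subgroup K)).subtype).codRestrict _ fun x =>
      ⟨hS ⟨_, x.2.1, rfl⟩, hT ⟨_, x.2.2, rfl⟩⟩
  have hf : Function.Injective f := fun x y e =>
    Subtype.ext (Subtype.ext (congrArg (fun w : ↥((S : Subgroup G) ⊓ (T : Subgroup G)) => (w : G)) e))
  have := h S T hne (A.map f) ⟨⟨by
      rintro ⟨_, x, hx, rfl⟩ ⟨_, y, hy, rfl⟩
      exact Subtype.ext (by
        show f x * f y = f y * f x
        rw [← map_mul, ← map_mul]
        exact congrArg f (congrArg Subtype.val (hA.is_comm.comm ⟨x, hx⟩ ⟨y, hy⟩)))⟩⟩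
    (by rintro _ ⟨x, hx, rfl⟩; rw [← map_pow, hA2 x hx, map_one])
  rwa [card_map_of_injective hf] at this

theorem exists_two_sylow (hns : ¬ Group.IsSolvable G) : ∃ S T : Sylow 2 G, S ≠ T := by
  haveI : Fact (Nat.Prime 2) := ⟨Nat.prime_two⟩
  by_contra hno
  push Not at hno
  obtain ⟨S⟩ : Nonempty (Sylow 2 G) := inferInstance
  haveI : (S : Subgroup G).Normal := normalizer_eq_top_iff.1 (eq_top_iff.2 fun g _ =>
    Sylow.smul_eq_iff_mem_normalizer.1 (hno (g • S) S))
  haveI : Group.IsNilpotent (S : Subgroup G) := S.2.isNilpotent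
  haveI : Group.IsSolvable (G ⧸ (S : Subgroup G)) := Cfsg.Agent.S0205.result (by
    rw [← Subgroup.index_eq_card, ← Nat.not_even_iff_odd, even_iff_two_dvd]
    exact S.not_dvd_index)
  exact hns ((Group.isSolvable_iff_subgroup_quotient (S : Subgroup G)).2 ⟨inferInstance, this⟩)

theorem pCore_pgroup : IsPGroup 2 (Cfsg.pCore 2 G) := by
  haveI : Fact (Nat.Prime 2) := ⟨Nat.prime_two⟩
  exact Comp.pCore_isPGroup' 2

theorem pCore_le (S : Sylow 2 G) : Cfsg.pCore 2 G ≤ (S : Subgroup G) := by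
  haveI : Fact (Nat.Prime 2) := ⟨Nat.prime_two⟩
  have h := S.3 (pCore_pgroup.to_sup_of_normal_left S.2) le_sup_right
  rw [← h]
  exact le_sup_left

theorem le_pCore {N : Subgroup G} (hn : N.Normal) (hp : IsPGroup 2 N) : N ≤ Cfsg.pCore 2 G :=
  le_sSup ⟨hn, hp⟩

theorem pCore_rank (h : Rk G) (hns : ¬ Group.IsSolvable G) {a b : G} (ha : a ∈ Cfsg.pCore 2 G)
    (hb : b ∈ Cfsg.pCore 2 G) (ha2 : a * a = 1) (hb2 : b * b = 1) (hc : a * b = b * a) (ha1 : a ≠ 1)
    (hb1 : b ≠ 1) : a = b := by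
  obtain ⟨S, T, hST⟩ := exists_two_sylow hns
  by_contra hne
  exact hST (h.unique ha2 hb2 hc ha1 hb1 hne (pCore_le S ha) (pCore_le S hb) (pCore_le T ha)
    (pCore_le T hb))

/-- `O₂(G)` is cyclic or quaternion. -/
theorem pCore_type (h : Rk G) (hns : ¬ Group.IsSolvable G) :
    IsCyclic (Cfsg.pCore 2 G) ∨
      ∃ n : ℕ, 1 ≤ n ∧ Nonempty (Cfsg.pCore 2 G ≃* QuaternionGroup (2 ^ n)) := by
  haveI : Fact (Nat.Prime 2) := ⟨Nat.prime_two⟩
  have hu : ∀ x y : Cfsg.pCore 2 G, orderOf x = 2 → orderOf y = 2 → y ∈ zpowers x := by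
    intro x y hx hy
    haveI : Nontrivial (Cfsg.pCore 2 G) :=
      ⟨⟨x, 1, fun e => by rw [e, orderOf_one] at hx; omega⟩⟩
    haveI := IsPGroup.center_nontrivial (p := 2) (pCore_pgroup (G := G))
    obtain ⟨c, hc⟩ := exists_prime_orderOf_dvd_card' (G := center (Cfsg.pCore 2 G)) 2
      (((pCore_pgroup.to_subgroup _).card_eq_or_dvd).resolve_left Finite.one_lt_card.ne')
    have hc2 : orderOf ((c : Cfsg.pCore 2 G)) = 2 := by rw [Subgroup.orderOf_coe, hc]
    have key : ∀ w : Cfsg.pCore 2 G, orderOf w = 2 → w = c := fun w hw => Subtype.ext (by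
      have hw' : orderOf (w : G) = 2 := by rw [Subgroup.orderOf_coe, hw]
      have hc' : orderOf ((c : Cfsg.pCore 2 G) : G) = 2 := by rw [Subgroup.orderOf_coe, hc2]
      exact pCore_rank h hns w.2 (c : Cfsg.pCore 2 G).2 (CentralRankOne.mul_self_of_order_two hw')
        (CentralRankOne.mul_self_of_order_two hc')
        (congrArg Subtype.val (mem_center_iff.1 c.2 w))
        (CentralRankOne.ne_one_of_order_two hw') (CentralRankOne.ne_one_of_order_two hc'))
    rw [key x hx, key y hy]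
    exact mem_zpowers _
  rcases UniqueInvol.cyclic_or_quaternion pCore_pgroup hu with h | ⟨-, h⟩
  · exact Or.inl h
  · exact Or.inr h

theorem isSolvable_mulAut_pCore (h : Rk G) (hns : ¬ Group.IsSolvable G) :
    Group.IsSolvable (MulAut (Cfsg.pCore 2 G)) := by
  haveI : Fact (Nat.Prime 2) := ⟨Nat.prime_two⟩
  rcases pCore_type h hns with hc | ⟨n, hn, ⟨e⟩⟩
  · haveI := (ComplType.isPGroup_mulAut_cyclic (F := Cfsg.pCore 2 G) pCore_pgroup).isNilpotent
    infer_instance
  rcases (show n = 1 ∨ 2 ≤ n by omega) with rfl | hn2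
  · obtain ⟨σ⟩ := Cfsg.Agent.S3742.result
    have e' : Cfsg.pCore 2 G ≃* QuaternionGroup 2 := e
    let f : MulAut (Cfsg.pCore 2 G) ≃* Equiv.Perm (Fin 4) := (MulAut.congr e').trans σ
    haveI : Group.IsSolvable (Equiv.Perm (Fin 4)) := CfsgLib.Char.isSolvable_of_card_eq 2 3 3 1
      Nat.prime_two Nat.prime_three (by rw [Nat.card_perm, Nat.card_fin]; rfl)
    exact Group.isSolvable_of_isSolvable_injective (f := f.toMonoidHom) f.injective
  · haveI := ((ComplType.isPGroup_mulAut_quaternion hn2).of_equiv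
      (MulAut.congr e).symm).isNilpotent
    infer_instance

/-- The Fitting subgroup is `O₂(G)` when `O(G) = 1`. -/
theorem fitting_eq (hO : Cfsg.oddCore G = ⊥) : Cfsg.fittingSubgroup G = Cfsg.pCore 2 G := by
  haveI : Fact (Nat.Prime 2) := ⟨Nat.prime_two⟩
  refine le_antisymm ?_ (Comp.pCore_le_fitting 2)
  rw [Comp.fitting_eq_iSup_pCore]
  refine iSup_le fun q => ?_
  haveI : Fact (q : ℕ).Prime := ⟨Nat.prime_of_mem_primeFactors q.2⟩
  rcases eq_or_ne (q : ℕ) 2 with e | e
  · rw [e]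
  · refine le_trans ?_ (hO.le.trans bot_le)
    refine DGroup.le_oddCore inferInstance ?_
    obtain ⟨k, hk⟩ := IsPGroup.iff_card.1 (Comp.pCore_isPGroup' (G := G) (q : ℕ))
    rw [hk]
    exact ((Fact.out : (q : ℕ).Prime).odd_of_ne_two e).pow

/-- A component exists. -/
theorem exists_component (h : Rk G) (hO : Cfsg.oddCore G = ⊥) (hns : ¬ Group.IsSolvable G) :
    ∃ M : Subgroup G, Cfsg.IsComponent M := by
  by_contra hno
  push Not at hno
  have hlayer : Cfsg.layer G = ⊥ := le_bot_iff.1 (Comp.layer_le fun L hL => (hno L hL).elim)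
  have hF : Cfsg.generalizedFittingSubgroup G = Cfsg.pCore 2 G := by
    rw [Cfsg.generalizedFittingSubgroup, hlayer, fitting_eq hO, bot_sup_eq]
  have hc := Comp.centralizer_Fstar_le (G := G)
  rw [hF] at hc
  haveI := (pCore_pgroup (G := G)).isNilpotent
  haveI := isSolvable_mulAut_pCore h hns
  refine hns (Group.isSolvable_of_ker_le_range (Cfsg.pCore 2 G).subtype
    (MulAut.conjNormal : G →* MulAut (Cfsg.pCore 2 G)) fun x hx => ?_)
  rw [Subgroup.range_subtype]
  refine hc (mem_centralizer_iff.2 fun y hy => ?_)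
  have h1 := congrArg Subtype.val (MulEquiv.congr_fun (MonoidHom.mem_ker.1 hx) ⟨y, hy⟩)
  change x * y * x⁻¹ = y at h1
  exact (mul_inv_eq_iff_eq_mul.1 h1).symm

theorem component_centralizes (hO : Cfsg.oddCore G = ⊥) {M : Subgroup G} (hM : Cfsg.IsComponent M) :
    ∀ m ∈ M, ∀ p ∈ Cfsg.pCore 2 G, m * p = p * m := fun _ hm p hp =>
  (mem_centralizer_iff.1 (Comp.component_le_centralizer_fitting hM hm) p (fitting_eq hO ▸ hp)).symm

theorem component_commute {M N : Subgroup G} (hM : Cfsg.IsComponent M) (hN : Cfsg.IsComponent N)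
    (hne : M ≠ N) : ∀ m ∈ M, ∀ n ∈ N, m * n = n * m := fun _ hm _ hn =>
  ((mem_centralizer_iff.1 (commutator_eq_bot_iff_le_centralizer.1
    ((Comp.component_eq_or_commute hM hN).resolve_left hne) hm) _ hn)).symm

/-- A normal subgroup without components, outside the components, lies in a solvable subgroup. -/
theorem solvable_of_no_component {K : Subgroup G} [K.Normal] (h : Rk G)
    (hO : Cfsg.oddCore G = ⊥) (hno : ∀ M : Subgroup G, Cfsg.IsComponent M → ¬ M ≤ K) :
    Group.IsSolvable K := by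
  by_contra hns
  have hOK : Cfsg.oddCore K = ⊥ := by
    haveI := DGroup.normal_oddCore K
    haveI : (Cfsg.oddCore K).Characteristic := characteristic_iff_map_le.2 fun φ => by
      refine DGroup.le_oddCore (Normal.map inferInstance _ φ.surjective) ?_
      rw [card_map_of_injective (show Function.Injective φ.toMonoidHom from φ.injective)]
      exact DGroup.odd_oddCore K
    have h1 := DGroup.le_oddCore (N := (Cfsg.oddCore K).map K.subtype) inferInstance (by
      rw [card_map_of_injective K.subtype_injective]; exact DGroup.odd_oddCore K)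
    rw [hO, le_bot_iff, map_eq_bot_iff_of_injective _ K.subtype_injective] at h1
    exact h1
  obtain ⟨M, hM⟩ := exists_component (h.subgroup K) hOK hns
  exact hno _ (Comp.component_map_subtype (Normal.isSubnormal inferInstance) hM) (map_subtype_le M)

end CfsgLib.RankOneMeet
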