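import Cfsg.Agent.RankOneMeet.Basic
import Cfsg.Agent.Comp.Layer
import Cfsg.Agent.SmallCent.Dichotomy

/-!
# Intersections of Sylow 2-subgroups of rank at most one: the components
-/

set_option autoImplicit false
set_option linter.unusedSectionVars false
set_option linter.style.haveILetI false

namespace CfsgLib.RankOneMeet

open Subgroup

universe u

variable {G : Type u} [Group G] [Finite G]

/-- The involution of `O₂(G)`. -/
theorem exists_pCore_invol (h : Rk G) (hns : ¬ Group.IsSolvable G) (hP : Cfsg.pCore 2 G ≠ ⊥) :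
    ∃ z ∈ Cfsg.pCore 2 G, z * z = 1 ∧ z ≠ 1 ∧ z ∈ center G ∧
      ∀ d ∈ Cfsg.pCore 2 G, d * d = 1 → d ≠ 1 → d = z := by
  haveI : Fact (Nat.Prime 2) := ⟨Nat.prime_two⟩
  haveI : Nontrivial (Cfsg.pCore 2 G) := (Subgroup.nontrivial_iff_ne_bot _).2 hP
  haveI := IsPGroup.center_nontrivial (p := 2) (pCore_pgroup (G := G))
  obtain ⟨c, hc⟩ := exists_prime_orderOf_dvd_card' (G := center (Cfsg.pCore 2 G)) 2
    (((pCore_pgroup.to_subgroup _).card_eq_or_dvd).resolve_left Finite.one_lt_card.ne')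
  set z : G := ((c : Cfsg.pCore 2 G) : G) with hz
  have hz2 : orderOf z = 2 := by rw [hz, Subgroup.orderOf_coe, Subgroup.orderOf_coe, hc]
  have huniq : ∀ d ∈ Cfsg.pCore 2 G, d * d = 1 → d ≠ 1 → d = z := fun d hd hd2 hd1 =>
    pCore_rank h hns hd (c : Cfsg.pCore 2 G).2 hd2 (CentralRankOne.mul_self_of_order_two hz2)
      (congrArg Subtype.val (mem_center_iff.1 c.2 ⟨d, hd⟩)) hd1
      (CentralRankOne.ne_one_of_order_two hz2)
  refine ⟨z, (c : Cfsg.pCore 2 G).2, CentralRankOne.mul_self_of_order_two hz2,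
    CentralRankOne.ne_one_of_order_two hz2, mem_center_iff.2 fun g => ?_, huniq⟩
  have h1 := huniq _ ((inferInstance : (Cfsg.pCore 2 G).Normal).conj_mem z (c : Cfsg.pCore 2 G).2 g)
    (by rw [show g * z * g⁻¹ * (g * z * g⁻¹) = g * (z * z) * g⁻¹ by group,
      CentralRankOne.mul_self_of_order_two hz2, mul_one, mul_inv_cancel])
    (fun e => CentralRankOne.ne_one_of_order_two hz2 (by
      have := congrArg (fun x => g⁻¹ * x * g) e
      simpa [mul_assoc] using this))
  exact mul_inv_eq_iff_eq_mul.1 h1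

variable {z : G}

/-- An involution other than `z` lies in only one Sylow 2-subgroup. -/
theorem Rk.unique_of_ne (h : Rk G) (hz : z * z = 1) (hz1 : z ≠ 1) (hzc : z ∈ center G)
    (hzP : z ∈ Cfsg.pCore 2 G) (S T : Sylow 2 G) (d : G) (hd : d * d = 1) (hd1 : d ≠ 1)
    (hdz : d ≠ z) (hdS : d ∈ (S : Subgroup G)) (hdT : d ∈ (T : Subgroup G)) : S = T :=
  h.unique hd hz (mem_center_iff.1 hzc d) hd1 hz1 hdz hdS (pCore_le S hzP) hdT (pCore_le T hzP)

/-- An element moving an involution other than `z` of `S` into `S` normalizes `S`. -/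
theorem Rk.move (h : Rk G) (hz : z * z = 1) (hz1 : z ≠ 1) (hzc : z ∈ center G)
    (hzP : z ∈ Cfsg.pCore 2 G) {S : Sylow 2 G} {d n : G} (hd : d * d = 1) (hd1 : d ≠ 1) (hdz : d ≠ z)
    (hdS : d ∈ (S : Subgroup G)) (hn : n * d * n⁻¹ ∈ (S : Subgroup G)) :
    n ∈ normalizer ((S : Subgroup G) : Set G) :=
  h.mem_normalizer hd hz (mem_center_iff.1 hzc d) hd1 hz1 hdz hdS (pCore_le S hzP) hn
    (by rw [mem_center_iff.1 hzc n, mul_inv_cancel_right]; exact pCore_le S hzP)

/-- A nonsolvable subgroup centralizes no four-group. -/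
theorem Rk.no_four_comm (h : Rk G) {N : Subgroup G} (hN : ¬ Group.IsSolvable N) {a b : G}
    (ha : a * a = 1) (hb : b * b = 1) (hc : a * b = b * a) (ha1 : a ≠ 1) (hb1 : b ≠ 1) (hne : a ≠ b)
    (haN : ∀ n ∈ N, n * a = a * n) (hbN : ∀ n ∈ N, n * b = b * n) : False := by
  haveI : Fact (Nat.Prime 2) := ⟨Nat.prime_two⟩
  obtain ⟨A, B, hAB⟩ := exists_two_sylow hN
  obtain ⟨V, hV4, -, hVmem⟩ := SmallCent.exists_four ha hb hc ha1 hb1 hne
  have hV : IsPGroup 2 V := IsPGroup.of_card (n := 2) (by rw [hV4]; norm_num)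
  have hVN : ∀ v ∈ V, ∀ n ∈ N, n * v = v * n := by
    intro v hv n hn
    rcases (hVmem v).1 hv with rfl | rfl | rfl | rfl
    · rw [one_mul, mul_one]
    · exact haN n hn
    · exact hbN n hn
    · exact ((show Commute n a from haN n hn).mul_right (hbN n hn)).eq
  have hex : ∀ R : Sylow 2 N, ∃ U : Sylow 2 G, a ∈ (U : Subgroup G) ∧ b ∈ (U : Subgroup G) ∧
      (R : Subgroup N).map N.subtype ≤ (U : Subgroup G) := by
    intro R
    obtain ⟨U, hU⟩ := (hV.to_sup_of_normal_right' (R.2.map N.subtype) (fun v hv =>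
      mem_normalizer_iff.2 fun y => by
        constructor
        · rintro ⟨r, hr, rfl⟩
          exact ⟨r, hr, by
            show (r : G) = v * r * v⁻¹
            rw [← hVN v hv r r.2, mul_inv_cancel_right]⟩
        · rintro ⟨r, hr, e⟩
          refine ⟨r, hr, ?_⟩
          have e' : (r : G) = v * y * v⁻¹ := e
          show (r : G) = y
          calc (r : G) = v⁻¹ * ((r : G) * v) := by rw [hVN v hv r r.2, inv_mul_cancel_left]
            _ = v⁻¹ * (v * y * v⁻¹ * v) := by rw [← e']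
            _ = y := by group)).exists_le_sylow
    exact ⟨U, hU (mem_sup_left ((hVmem a).2 (Or.inr (Or.inl rfl)))),
      hU (mem_sup_left ((hVmem b).2 (Or.inr (Or.inr (Or.inl rfl))))), le_sup_right.trans hU⟩
  obtain ⟨U, haU, hbU, hAU⟩ := hex A
  obtain ⟨U', haU', hbU', hBU⟩ := hex B
  have e := h.unique ha hb hc ha1 hb1 hne haU hbU haU' hbU'
  subst e
  have hA' : (U : Subgroup G).comap N.subtype = (A : Subgroup N) :=
    A.3 U.2.comap_subtype fun p hp => hAU ⟨p, hp, rfl⟩
  have hB' : (U : Subgroup G).comap N.subtype = (B : Subgroup N) :=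
    B.3 U.2.comap_subtype fun p hp => hBU ⟨p, hp, rfl⟩
  exact hAB (Sylow.ext (hA'.symm.trans hB'))

/-- The centre of a component lies in `O₂(G)`. -/
theorem center_component_le (hO : Cfsg.oddCore G = ⊥) {M : Subgroup G} (hM : Cfsg.IsComponent M) :
    (center M).map M.subtype ≤ Cfsg.pCore 2 G := by
  rw [← fitting_eq hO]
  refine Comp.subnormal_nilpotent_le_fitting
    (Comp.isSubnormal_map_subtype hM.1 inferInstance) ?_
  letI : CommGroup ↥((center M).map M.subtype) :=
    { (inferInstance : Group ↥((center M).map M.subtype)) with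
      mul_comm := by
        rintro ⟨_, a, ha, rfl⟩ ⟨_, b, -, rfl⟩
        exact Subtype.ext (congrArg (fun w : M => (w : G)) (mem_center_iff.1 ha b).symm) }
  infer_instance

/-- A component meets the centralizer of its own elements in `O₂(G)`. -/
theorem component_inter_centralizer (hO : Cfsg.oddCore G = ⊥) {M : Subgroup G}
    (hM : Cfsg.IsComponent M) {x : G} (hx : x ∈ M) (hc : ∀ m ∈ M, m * x = x * m) :
    x ∈ Cfsg.pCore 2 G :=
  center_component_le hO hM ⟨⟨x, hx⟩, mem_center_iff.2 fun m => Subtype.ext (hc m m.2), rfl⟩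

/-- The only component is normal. -/
theorem normal_of_unique {M : Subgroup G} (hM : Cfsg.IsComponent M)
    (hu : ∀ N : Subgroup G, Cfsg.IsComponent N → N = M) : M.Normal :=
  ⟨fun m hm g => (hu _ (Comp.component_conj g hM)).le ⟨m, hm, rfl⟩⟩

/-- With one component, `C(M) ∩ C(O₂(G)) ≤ O₂(G)`. -/
theorem centralizer_inf_le (hO : Cfsg.oddCore G = ⊥) {M : Subgroup G} [M.Normal]
    (hM : Cfsg.IsComponent M) (hu : ∀ N : Subgroup G, Cfsg.IsComponent N → N = M) {x : G}
    (hxM : ∀ m ∈ M, m * x = x * m) (hxP : ∀ p ∈ Cfsg.pCore 2 G, p * x = x * p) :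
    x ∈ Cfsg.pCore 2 G := by
  have hlayer : Cfsg.layer G = M :=
    le_antisymm (Comp.layer_le fun L hL => (hu L hL).le) (Comp.component_le_layer hM)
  have hF : Cfsg.generalizedFittingSubgroup G = M ⊔ Cfsg.pCore 2 G := by
    rw [Cfsg.generalizedFittingSubgroup, hlayer, fitting_eq hO]
  have hx : x ∈ M ⊔ Cfsg.pCore 2 G := by
    rw [← hF]
    refine Comp.centralizer_Fstar_le ?_
    rw [hF]
    refine mem_centralizer_iff.2 fun y hy => ?_
    obtain ⟨m, hm, p, hp, rfl⟩ := mem_sup_of_normal_left.1 hy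
    rw [mul_assoc, hxP p hp, ← mul_assoc, hxM m hm, mul_assoc]
  obtain ⟨m, hm, p, hp, rfl⟩ := mem_sup_of_normal_left.1 hx
  refine mul_mem (component_inter_centralizer hO hM hm fun m' hm' => ?_) hp
  have h1 := hxM m' hm'
  rw [← mul_assoc, mul_assoc m p m', ← component_centralizes hO hM m' hm' p hp, ← mul_assoc] at h1
  exact mul_right_cancel h1

end CfsgLib.RankOneMeet
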