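import Cfsg.Agent.CentralRankOne.Basic
import Cfsg.Agent.InvChar.UniqueInvolution
import Cfsg.Agent.Invol.Dihedral
import Cfsg.Agent.Solvable.Basics
import Cfsg.Agent.Solvable.Fitting

/-!
# A normal four group next to a central involution with a cyclic 2-core

When every involution other than the central involution `z` lies in one Sylow 2-subgroup only, such
a Sylow subgroup `S` has an involution `t` whose conjugates in `S` lie in `{t, t * z}`, or
`S ⊓ C(O₂(G))` is cyclic.
-/

set_option autoImplicit false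
set_option linter.unusedSectionVars false
set_option linter.unusedVariables false
set_option linter.style.haveILetI false

namespace CfsgLib.RankOneMeet

open Subgroup
open scoped Pointwise

universe u

theorem mul_self_mul_self {G : Type u} [Group G] (x : G) : x * x * (x * x) = x ^ 4 := by
  simp [pow_succ, mul_assoc]

theorem conj_mul_self {G : Type u} [Group G] (g s : G) :
    g * s * g⁻¹ * (g * s * g⁻¹) = g * (s * s) * g⁻¹ := by group

/-- Powers of a two-power element with fourth power one. -/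
theorem zpow_mem_quarter {G : Type u} [Group G] {a : G} {n : ℕ} (hn : orderOf a = 2 ^ n) (hn2 : 2 ≤ n)
    {j : ℤ} (h : (a ^ j) ^ 4 = 1) : a ^ j ∈ zpowers (a ^ 2 ^ (n - 2)) := by
  have h' : a ^ (j * 4) = 1 := by
    rw [zpow_mul, show (4 : ℤ) = (4 : ℕ) from rfl, zpow_natCast]; exact h
  rw [← orderOf_dvd_iff_zpow_eq_one, hn] at h'
  have e : ((2 ^ n : ℕ) : ℤ) = (2 : ℤ) ^ (n - 2) * 4 := by
    push_cast
    rw [show (4 : ℤ) = 2 ^ 2 by norm_num, ← pow_add, Nat.sub_add_cancel hn2]
  rw [e] at h'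
  obtain ⟨l, hl⟩ := (mul_dvd_mul_iff_right (show (4 : ℤ) ≠ 0 by norm_num)).1 h'
  refine mem_zpowers_iff.2 ⟨l, ?_⟩
  rw [← zpow_natCast, ← zpow_mul, hl]
  push_cast
  rfl

/-- The maximal abelian normal subgroup is cyclic when there is no normal four group. -/
theorem exists_cyclic_self_centralizing {G : Type u} [Group G] [Finite G] (S : Sylow 2 G) {z : G}
    (hzS : z ∈ (S : Subgroup G)) (hz : z * z = 1) (hz1 : z ≠ 1)
    (hzc : ∀ s ∈ (S : Subgroup G), s * z = z * s)
    (hleft : ∀ t ∈ (S : Subgroup G), t * t = 1 → t ≠ 1 →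
      (∀ s ∈ (S : Subgroup G), s * t * s⁻¹ = t ∨ s * t * s⁻¹ = t * z) → t = z) :
    ∃ (a : G) (n : ℕ), a ∈ (S : Subgroup G) ∧ orderOf a = 2 ^ n ∧
      (∀ s ∈ (S : Subgroup G), s * a * s⁻¹ ∈ zpowers a) ∧
      (∀ s ∈ (S : Subgroup G), s * a = a * s → s ∈ zpowers a) ∧
      (∀ x ∈ zpowers a, x * x = 1 → x = 1 ∨ x = z) ∧ z ∈ zpowers a := by
  haveI : Fact (Nat.Prime 2) := ⟨Nat.prime_two⟩
  obtain ⟨A, hAn, hAc, hAself⟩ := CfsgLib.UniqueInvol.exists_self_centralizing (p := 2) S.2
  haveI := hAn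
  set z' : (S : Subgroup G) := ⟨z, hzS⟩
  have hz'A : z' ∈ A := hAself (mem_centralizer_iff.2 fun x _ => Subtype.ext (hzc x x.2))
  have hΩ : ∀ x ∈ A, x * x = 1 → x = 1 ∨ x = z' := by
    by_contra hcon
    push Not at hcon
    obtain ⟨x₀, hx₀A, hx₀, hx₁, hx₂⟩ := hcon
    let W : Subgroup (S : Subgroup G) :=
      { carrier := {x | x ∈ A ∧ x * x = 1}
        one_mem' := ⟨one_mem A, one_mul 1⟩
        mul_mem' := fun {x y} hx hy => ⟨mul_mem hx.1 hy.1, by
          calc x * y * (x * y) = x * (y * x) * y := by group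
            _ = (x * x) * (y * y) := by rw [hAc y hy.1 x hx.1]; group
            _ = 1 := by rw [hx.2, hy.2, one_mul]⟩
        inv_mem' := fun {x} hx => ⟨inv_mem hx.1, by rw [← mul_inv_rev, hx.2, inv_one]⟩ }
    haveI : W.Normal := ⟨fun x hx g => ⟨hAn.conj_mem x hx.1 g, by
      rw [show g * x * g⁻¹ * (g * x * g⁻¹) = g * (x * x) * g⁻¹ by group, hx.2, mul_one,
        mul_inv_cancel]⟩⟩
    set Z' := zpowers z'
    have hZmem : ∀ {y : (S : Subgroup G)}, y ∈ Z' → y = 1 ∨ y = z' := by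
      intro y hy
      obtain ⟨i, rfl⟩ := mem_zpowers_iff.1 hy
      have ho : orderOf z' = 2 := orderOf_eq_prime (Subtype.ext (by simp [sq, z', hz]))
        fun e => hz1 (congrArg Subtype.val e)
      rw [← zpow_mod_orderOf, ho]
      rcases Int.emod_two_eq_zero_or_one i with h | h <;> push_cast <;> rw [h]
      · exact Or.inl (zpow_zero _)
      · exact Or.inr (zpow_one _)
    haveI : Z'.Normal := ⟨fun y hy g => by
      have hg : g * z' * g⁻¹ = z' := mul_inv_eq_iff_eq_mul.2 (Subtype.ext (hzc g g.2))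
      rcases hZmem hy with rfl | rfl
      · simp
      · rw [hg]; exact mem_zpowers z'⟩
    set f := QuotientGroup.mk' Z'
    haveI : (W.map f).Normal := Subgroup.Normal.map inferInstance f (QuotientGroup.mk'_surjective _)
    obtain ⟨_, ⟨t, ht, rfl⟩, hc1, hcc⟩ := CfsgLib.UniqueInvol.exists_central (p := 2)
      (S.2.to_quotient Z') (W.map f) fun h => by
        have : f x₀ ∈ (⊥ : Subgroup _) := h ▸ ⟨x₀, ⟨hx₀A, hx₀⟩, rfl⟩
        rcases hZmem ((QuotientGroup.eq_one_iff x₀).1 (mem_bot.1 this)) with e | e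
        · exact hx₁ e
        · exact hx₂ e
    have ht' : (t : G) = z := hleft t t.2 (congrArg Subtype.val ht.2)
      (fun e => hc1 (by rw [show t = 1 from Subtype.ext e, map_one])) fun s hs => by
      have h := mem_center_iff.1 hcc (f ⟨s, hs⟩)
      rw [← map_mul, ← map_mul] at h
      have hmem : (t * ⟨s, hs⟩)⁻¹ * (⟨s, hs⟩ * t) ∈ Z' := QuotientGroup.eq.1 h.symm
      rcases hZmem hmem with e | e
      · have h' := congrArg Subtype.val (inv_mul_eq_one.1 e)
        simp only [Subgroup.coe_mul] at h'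
        exact Or.inl (by rw [← h', mul_inv_cancel_right])
      · have h' := congrArg Subtype.val (inv_mul_eq_iff_eq_mul.1 e)
        simp only [Subgroup.coe_mul, z'] at h'
        refine Or.inr ?_
        rw [h', mul_assoc (t : G) s z, hzc s hs, ← mul_assoc (t : G) z s, mul_inv_cancel_right]
    refine hc1 ((QuotientGroup.eq_one_iff t).2 ?_)
    rw [show t = z' from Subtype.ext ht']
    exact mem_zpowers z'
  obtain ⟨a₀, ha₀⟩ := CfsgLib.UniqueInvol.exists_generator_of_comm (p := 2) (S.2.to_subgroup A)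
    (A := (⊤ : Subgroup A)) (fun x _ y _ => Subtype.ext (hAc x x.2 y y.2)) fun x y hx hy => by
      have key : ∀ w : A, orderOf w = 2 → (w : (S : Subgroup G)) = z' := fun w hw => by
        refine (hΩ w w.2 ?_).resolve_left ?_
        · exact congrArg Subtype.val (show w * w = 1 from (sq w).symm.trans (orderOf_dvd_iff_pow_eq_one.1 (dvd_of_eq hw)))
        · intro e
          rw [show w = 1 from Subtype.ext e, orderOf_one] at hw
          omega
      rw [show y = x from Subtype.ext ((key y hy).trans (key x hx).symm)]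
      exact mem_zpowers x
  set a : G := ((a₀ : (S : Subgroup G)) : G)
  have hgen : ∀ y : (S : Subgroup G), y ∈ A ↔ (y : G) ∈ zpowers a := by
    intro y
    constructor
    · intro hy
      obtain ⟨i, hi⟩ := mem_zpowers_iff.1 (ha₀ ▸ mem_top (⟨y, hy⟩ : A))
      exact mem_zpowers_iff.2 ⟨i, by simpa using congrArg (fun w : A => ((w : (S : Subgroup G)) : G)) hi⟩
    · intro hy
      obtain ⟨i, hi⟩ := mem_zpowers_iff.1 hy
      rw [show y = (a₀ : (S : Subgroup G)) ^ i from Subtype.ext (by simpa using hi.symm)]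
      exact zpow_mem a₀.2 i
  obtain ⟨n, hn⟩ := IsPGroup.iff_orderOf.1 S.2 (a₀ : (S : Subgroup G))
  refine ⟨a, n, (a₀ : (S : Subgroup G)).2, by rw [← hn]; exact Subgroup.orderOf_coe _, ?_, ?_, ?_, ?_⟩
  · intro s hs
    exact (hgen _).1 (hAn.conj_mem _ a₀.2 ⟨s, hs⟩)
  · intro s hs hsa
    refine (hgen ⟨s, hs⟩).1 (hAself (mem_centralizer_iff.2 fun y hy => Subtype.ext ?_))
    obtain ⟨i, hi⟩ := mem_zpowers_iff.1 ((hgen y).1 hy)
    show (y : G) * s = s * (y : G)
    rw [← hi]
    exact ((show Commute s a from hsa).zpow_right i).eq.symm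
  · intro x hx hxx
    have hxS : x ∈ (S : Subgroup G) := (zpowers_le.2 (a₀ : (S : Subgroup G)).2) hx
    rcases hΩ ⟨x, hxS⟩ ((hgen _).2 hx) (Subtype.ext hxx) with e | e
    · exact Or.inl (congrArg Subtype.val e)
    · exact Or.inr (congrArg Subtype.val e)
  · exact (hgen z').1 hz'A

/-- A normal four group through `z`, or a cyclic centralizer of the 2-core. -/
theorem exists_normal_four.{v} {G : Type v} [Group G] [Finite G] (hO : Cfsg.oddCore G = ⊥) {z : G}
    (hz : orderOf z = 2) (hzc : z ∈ center G) (hzP : z ∈ Cfsg.pCore 2 G) (hP : IsCyclic (Cfsg.pCore 2 G))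
    (hu : ∀ (S T : Sylow 2 G) (d : G), d * d = 1 → d ≠ 1 → d ≠ z → d ∈ (S : Subgroup G) →
      d ∈ (T : Subgroup G) → S = T)
    (S : Sylow 2 G) {d : G} (hdS : d ∈ (S : Subgroup G)) (hd : d * d = 1) (hd1 : d ≠ 1) (hdz : d ≠ z) :
    (∃ t ∈ (S : Subgroup G), t * t = 1 ∧ t ≠ 1 ∧ t ≠ z ∧
      ∀ s ∈ (S : Subgroup G), s * t * s⁻¹ = t ∨ s * t * s⁻¹ = t * z) ∨
    IsCyclic ↥((S : Subgroup G) ⊓ centralizer (Cfsg.pCore 2 G : Set G)) := by
  haveI : Fact (Nat.Prime 2) := ⟨Nat.prime_two⟩
  set P := Cfsg.pCore 2 G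
  have hPn : P.Normal := (CfsgLib.Solvable.pCore_spec (G := G) 2).1
  have hPS : P ≤ (S : Subgroup G) := CfsgLib.Fitting.pCore_le_sylow S
  have hzz : z * z = 1 := CfsgLib.CentralRankOne.mul_self_of_order_two hz
  have hz1 : z ≠ 1 := CfsgLib.CentralRankOne.ne_one_of_order_two hz
  have hzS : z ∈ (S : Subgroup G) := hPS hzP
  have hzcS : ∀ s : G, s * z = z * s := fun s => mem_center_iff.1 hzc s
  refine or_iff_not_imp_left.2 fun hno => ?_
  have hleft : ∀ t ∈ (S : Subgroup G), t * t = 1 → t ≠ 1 →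
      (∀ s ∈ (S : Subgroup G), s * t * s⁻¹ = t ∨ s * t * s⁻¹ = t * z) → t = z :=
    fun t h1 h2 h3 h4 => by_contra fun h5 => hno ⟨t, h1, h2, h3, h5, h4⟩
  obtain ⟨a, n, haS, hn, hnorm, hself, hA2, hzA⟩ :=
    exists_cyclic_self_centralizing S hzS hzz hz1 (fun s _ => hzcS s) hleft
  have hAS : zpowers a ≤ (S : Subgroup G) := zpowers_le.2 haS
  have hdA : d ∉ zpowers a := fun h => (hA2 d h hd).elim hd1 hdz
  have hn2 : 2 ≤ n := by
    by_contra hlt
    refine hdA (hself d hdS ?_)
    have haa : a * a = 1 := by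
      rw [← sq, ← orderOf_dvd_iff_pow_eq_one, hn]
      exact pow_dvd_pow 2 (show n ≤ 1 by omega)
    rcases hA2 a (mem_zpowers a) haa with h | h <;> rw [h]
    · rw [mul_one, one_mul]
    · exact hzcS d
  set i := a ^ 2 ^ (n - 2)
  have hiA : i ∈ zpowers a := npow_mem_zpowers a _
  have hiS : i ∈ (S : Subgroup G) := hAS hiA
  have hi4 : orderOf i = 4 := by
    rw [orderOf_pow' a (by positivity), hn, Nat.gcd_eq_right (pow_dvd_pow 2 (Nat.sub_le n 2)),
      Nat.pow_div (Nat.sub_le n 2) two_pos, show n - (n - 2) = 2 by omega]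
    rfl
  have hii1 : i * i ≠ 1 := by
    intro h
    have := orderOf_dvd_of_pow_eq_one ((sq i).trans h)
    rw [hi4] at this
    norm_num at this
  have hi41 : i ^ 4 = 1 := hi4 ▸ pow_orderOf_eq_one i
  have hii : i * i = z := by
    refine (hA2 _ (mul_mem hiA hiA) ?_).resolve_left hii1
    rw [mul_self_mul_self]
    exact hi41
  have hiinv : i⁻¹ * i⁻¹ = z := by
    rw [← mul_inv_rev, hii, inv_eq_of_mul_eq_one_right hzz]
  have himem : ∀ x ∈ zpowers a, x ^ 4 = 1 → x ∈ zpowers i := by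
    intro x hx hx4
    obtain ⟨j, rfl⟩ := mem_zpowers_iff.1 hx
    exact zpow_mem_quarter hn hn2 hx4
  -- an element of `S` fixes or inverts `i`
  have hflip : ∀ g ∈ (S : Subgroup G), g * i * g⁻¹ = i ∨ g * i * g⁻¹ = i⁻¹ := by
    intro g hg
    obtain ⟨r, hr⟩ := mem_zpowers_iff.1 (hnorm g hg)
    have hgi : g * i * g⁻¹ = i ^ r := by
      show g * a ^ 2 ^ (n - 2) * g⁻¹ = (a ^ 2 ^ (n - 2)) ^ r
      rw [← conj_pow, ← hr, ← zpow_natCast, ← zpow_natCast, ← zpow_mul, ← zpow_mul, mul_comm]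
    rw [hgi]
    have ho : orderOf (i ^ r) = 4 := by
      rw [← hgi, ← hi4]
      exact (MulAut.conj g).orderOf_eq i
    rw [← zpow_mod_orderOf, hi4] at ho ⊢
    rcases (show r % 4 = 0 ∨ r % 4 = 1 ∨ r % 4 = 2 ∨ r % 4 = 3 by omega) with h | h | h | h <;>
      push_cast at ho ⊢ <;> rw [h] at ho ⊢
    · simp at ho
    · exact Or.inl (zpow_one i)
    · exfalso
      rw [show (2 : ℤ) = ((2 : ℕ) : ℤ) from rfl, zpow_natCast, sq, hii, hz] at ho
      omega
    · refine Or.inr (eq_inv_of_mul_eq_one_left ?_)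
      rw [← zpow_add_one, show (3 : ℤ) + 1 = ((4 : ℕ) : ℤ) from rfl, zpow_natCast]
      exact hi41
  have hpow_fix : ∀ {g : G}, g * i * g⁻¹ = i → ∀ x ∈ zpowers i, g * x * g⁻¹ = x := by
    intro g hg x hx
    obtain ⟨j, rfl⟩ := mem_zpowers_iff.1 hx
    rw [← conj_zpow, hg]
  -- an involution fixing `i` is `z`
  have hinv1 : ∀ s ∈ (S : Subgroup G), s * s = 1 → s * i * s⁻¹ = i → s = 1 ∨ s = z := by
    intro s hs hss hsi
    have key : ∀ x ∈ (S : Subgroup G), x * x = 1 → x * i * x⁻¹ = i →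
        x * a * x⁻¹ = a ∨ x * a * x⁻¹ = a * z := by
      intro x hx hxx hxi
      -- the commutator has square one
      have hb : x * a * x⁻¹ * a⁻¹ ∈ zpowers a := mul_mem (hnorm x hx) (inv_mem (mem_zpowers a))
      obtain ⟨r, hr⟩ := mem_zpowers_iff.1 (hnorm x hx)
      have h1 : a ^ (r * r) = a := by
        rw [zpow_mul, hr, conj_zpow, hr,
          show x * (x * a * x⁻¹) * x⁻¹ = (x * x) * a * (x * x)⁻¹ by group, hxx]
        group
      have h4 : (a ^ 2 ^ (n - 2)) ^ r = a ^ 2 ^ (n - 2) := by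
        rw [← zpow_natCast, ← zpow_mul, mul_comm, zpow_mul, hr, conj_zpow, zpow_natCast]
        exact hxi
      have d1 : ((2 ^ n : ℕ) : ℤ) ∣ (r - 1) * (r + 1) := by
        rw [← hn, orderOf_dvd_iff_zpow_eq_one, show (r - 1) * (r + 1) = r * r + (-1) by ring,
          zpow_add, h1, zpow_neg_one, mul_inv_cancel]
      have d4 : (4 : ℤ) ∣ r - 1 := by
        have : ((orderOf i : ℕ) : ℤ) ∣ r - 1 := by
          rw [orderOf_dvd_iff_zpow_eq_one, zpow_sub, zpow_one, mul_inv_eq_one]
          exact h4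
        rwa [hi4] at this
      obtain ⟨l, hl⟩ := d4
      have d2 : ((2 ^ n : ℕ) : ℤ) ∣ (r - 1) * 2 := by
        have hcop : IsCoprime ((2 ^ n : ℕ) : ℤ) (2 * l + 1) := by
          push_cast
          exact IsCoprime.pow_left ⟨-l, 1, by ring⟩
        refine hcop.dvd_of_dvd_mul_right ?_
        rwa [show (r - 1) * 2 * (2 * l + 1) = (r - 1) * (r + 1) by
          rw [show r + 1 = (r - 1) + 2 by ring, hl]; ring]
      rcases hA2 _ hb (by
        rw [← hr, show a ^ r * a⁻¹ = a ^ (r - 1) by rw [zpow_sub, zpow_one], ← zpow_add,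
          ← orderOf_dvd_iff_zpow_eq_one, hn]
        rwa [← mul_two]) with e | e
      · exact Or.inl (mul_inv_eq_one.1 e)
      · exact Or.inr (by rw [mul_inv_eq_iff_eq_mul.1 e, hzcS])
    rcases key s hs hss hsi with h | h
    · exact hA2 s (hself s hs (mul_inv_eq_iff_eq_mul.1 h)) hss
    by_cases hs1 : s = 1
    · exact Or.inl hs1
    refine Or.inr (hleft s hs hss hs1 fun g hg => ?_)
    set x := g * s * g⁻¹
    have hxS : x ∈ (S : Subgroup G) := mul_mem (mul_mem hg hs) (inv_mem hg)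
    have hxx : x * x = 1 := by
      rw [conj_mul_self, hss, mul_one, mul_inv_cancel]
    have hxi : x * i * x⁻¹ = i := by
      have hgi : g⁻¹ * i * g ∈ zpowers i := by
        rcases hflip g⁻¹ (inv_mem hg) with e | e <;> rw [inv_inv] at e <;> rw [e]
        · exact mem_zpowers i
        · exact inv_mem (mem_zpowers i)
      rw [show g * s * g⁻¹ * i * (g * s * g⁻¹)⁻¹ = g * (s * (g⁻¹ * i * g) * s⁻¹) * g⁻¹ by group, hpow_fix hsi _ hgi]
      group
    rcases key x hxS hxx hxi with hx | hx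
    · rcases hA2 x (hself x hxS (mul_inv_eq_iff_eq_mul.1 hx)) hxx with e | e
      · exact absurd (conj_eq_one_iff.1 e) hs1
      · have hsz : s = z := by
          rw [show s = g⁻¹ * (g * s * g⁻¹) * g by group, show g * s * g⁻¹ = z from e, hzcS, mul_assoc, inv_mul_cancel, mul_one]
        exact Or.inl (by rw [show x = z from e, hsz])
    -- `x * s` is a fourth root of one in the cyclic group
    have hb : x * s ∈ zpowers a := by
      refine hself _ (mul_mem hxS hs) (mul_inv_eq_iff_eq_mul.1 ?_)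
      calc x * s * a * (x * s)⁻¹ = x * (s * a * s⁻¹) * x⁻¹ := by group
        _ = x * a * x⁻¹ * (x * z * x⁻¹) := by rw [h]; group
        _ = a := by rw [hx, hzcS x, mul_inv_cancel_right, mul_assoc, hzz, mul_one]
    have hsb : s * (x * s) * s⁻¹ = (x * s)⁻¹ := by
      rw [mul_inv_rev, inv_eq_of_mul_eq_one_right hxx, inv_eq_of_mul_eq_one_right hss,
        show s * (x * s) * s = s * x * (s * s) by group, hss, mul_one]
    obtain ⟨j, hj⟩ := mem_zpowers_iff.1 hb
    have hsq : (x * s) * (x * s) = 1 := by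
      have h1 : s * (x * s) * s⁻¹ = (x * s) * z ^ j := by
        rw [← hj, ← conj_zpow, h]
        exact (show Commute a z from hzcS a).mul_zpow j
      rw [hsb] at h1
      have hz2 : (x * s) * (x * s) = (z ^ j)⁻¹ :=
        eq_inv_of_mul_eq_one_left (by rw [mul_assoc, ← h1, mul_inv_cancel])
      have h4 : (x * s) ^ 4 = 1 := by
        rw [← mul_self_mul_self (x * s), hz2, ← mul_inv_rev,
          ← (show Commute z z from Commute.refl z).mul_zpow, hzz, one_zpow, inv_one]
      have h5 := hpow_fix hsi _ (himem _ hb h4)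
      rw [hsb] at h5
      calc x * s * (x * s) = (x * s)⁻¹ * (x * s) := by rw [h5]
        _ = 1 := inv_mul_cancel _
    rcases hA2 _ hb hsq with e | e
    · exact Or.inl (by rw [eq_inv_of_mul_eq_one_left e, inv_eq_of_mul_eq_one_right hss])
    · exact Or.inr (by rw [show x = x * s * s by rw [mul_assoc, hss, mul_one], e, hzcS s])
  -- only `⟨a⟩` fixes `i`
  have hCi : ∀ g ∈ (S : Subgroup G), g * i * g⁻¹ = i → g ∈ zpowers a := by
    intro g₀ hg₀ hgi₀
    by_contra hg₀A
    obtain ⟨k, hk⟩ := S.2 ⟨g₀, hg₀⟩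
    have hk' : g₀ ^ 2 ^ k = 1 := congrArg Subtype.val hk
    obtain ⟨j, hj1, hj2⟩ : ∃ j, g₀ ^ 2 ^ j ∉ zpowers a ∧ g₀ ^ 2 ^ (j + 1) ∈ zpowers a := by
      by_contra hcon
      push Not at hcon
      have hall : ∀ j, g₀ ^ 2 ^ j ∉ zpowers a := fun j => by
        induction j with
        | zero => simpa using hg₀A
        | succ j ih => exact hcon j ih
      exact hall k (hk' ▸ one_mem _)
    set S₁ := (S : Subgroup G) ⊓ centralizer ({i} : Set G)
    have hmem : ∀ g ∈ (S : Subgroup G), g * i * g⁻¹ = i → g ∈ S₁ := fun g hg hgi =>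
      ⟨hg, mem_centralizer_iff.2 fun y hy => by
        rw [Set.mem_singleton_iff.1 hy]; exact (mul_inv_eq_iff_eq_mul.1 hgi).symm⟩
    have hmem' : ∀ g : S₁, (g : G) * i * (g : G)⁻¹ = i := fun g =>
      mul_inv_eq_iff_eq_mul.2 (mem_centralizer_iff.1 g.2.2 i (Set.mem_singleton i)).symm
    have hS1 : IsPGroup 2 S₁ := S.2.to_le inf_le_left
    have hai : a * i * a⁻¹ = i := mul_inv_eq_iff_eq_mul.2 (Commute.self_pow a _).eq
    set a' : S₁ := ⟨a, hmem a haS hai⟩
    set g' : S₁ := ⟨g₀ ^ 2 ^ j, hmem _ (pow_mem hg₀ _) (by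
      have : Commute g₀ i := mul_inv_eq_iff_eq_mul.1 hgi₀
      exact mul_inv_eq_iff_eq_mul.2 (this.pow_left _).eq)⟩
    have hz' : ∀ x : S₁, orderOf x = 2 → (x : G) = z := fun x hx => by
      refine (hinv1 x x.2.1 ?_ (hmem' x)).resolve_left fun e => ?_
      · exact congrArg Subtype.val (show x * x = 1 from (sq x).symm.trans (orderOf_dvd_iff_pow_eq_one.1 (dvd_of_eq hx)))
      · rw [show x = 1 from Subtype.ext e, orderOf_one] at hx
        omega
    have hlift : ∀ x : S₁, (x : G) ∈ zpowers a → x ∈ zpowers a' := fun x hx => by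
      obtain ⟨l, hl⟩ := mem_zpowers_iff.1 hx
      exact mem_zpowers_iff.2 ⟨l, Subtype.ext (by simpa [a'] using hl)⟩
    have hdrop : ∀ x : S₁, x ∈ zpowers a' → (x : G) ∈ zpowers a := fun x hx => by
      obtain ⟨l, hl⟩ := mem_zpowers_iff.1 hx
      exact mem_zpowers_iff.2 ⟨l, by rw [← hl]; simp [a']⟩
    obtain ⟨-, hinv, -⟩ := CfsgLib.UniqueInvol.local_step (p := 2) hS1
      (fun x y hx hy => by
        rw [show y = x from Subtype.ext ((hz' y hy).trans (hz' x hx).symm)]; exact mem_zpowers x)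
      (a := a') (n := n) (by rw [← hn]; exact (Subgroup.orderOf_coe a').symm) (by omega)
      (fun x hx => hlift x (hself x x.2.1 (congrArg Subtype.val
        (mem_centralizer_iff.1 hx a' (mem_zpowers a'))).symm))
      (g := g') (fun h => hj1 (hdrop g' h))
      (hlift _ (by simpa [g', ← pow_mul, ← pow_succ] using hj2))
      (hlift _ (hnorm _ (pow_mem hg₀ _)))
    have hinv' : g₀ ^ 2 ^ j * a * (g₀ ^ 2 ^ j)⁻¹ = a⁻¹ := congrArg Subtype.val hinv
    have h1 := hmem' g'
    change g₀ ^ 2 ^ j * a ^ 2 ^ (n - 2) * (g₀ ^ 2 ^ j)⁻¹ = i at h1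
    rw [← conj_pow, hinv', inv_pow] at h1
    exact hii1 (by rw [mul_eq_one_iff_eq_inv]; exact h1.symm)
  have hout : ∀ g ∈ (S : Subgroup G), g ∉ zpowers a → g * i * g⁻¹ = i⁻¹ := fun g hg hgA =>
    (hflip g hg).resolve_left fun e => hgA (hCi g hg e)
  have htwo : ∀ g ∈ (S : Subgroup G), ∀ h ∈ (S : Subgroup G), g ∉ zpowers a → h ∉ zpowers a →
      g * h ∈ zpowers a := by
    intro g hg h hh hgA hhA
    refine hCi _ (mul_mem hg hh) ?_
    rw [show g * h * i * (g * h)⁻¹ = g * (h * i * h⁻¹) * g⁻¹ by group, hout h hh hhA, ← conj_inv,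
      hout g hg hgA, inv_inv]
  -- elements of `⟨a⟩` almost fixed from outside
  have hcomm : ∀ g ∈ (S : Subgroup G), g ∉ zpowers a → ∀ b ∈ zpowers a,
      (g * b * g⁻¹ * b⁻¹) * (g * b * g⁻¹ * b⁻¹) = 1 → b ∈ zpowers i := by
    intro g hg hgA b hb hsq
    obtain ⟨r, hr⟩ := mem_zpowers_iff.1 (hnorm g hg)
    obtain ⟨j, hj⟩ := mem_zpowers_iff.1 hb
    have h4 : (4 : ℤ) ∣ r + 1 := by
      have : ((orderOf i : ℕ) : ℤ) ∣ r + 1 := by
        rw [orderOf_dvd_iff_zpow_eq_one, zpow_add_one]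
        refine mul_eq_one_iff_eq_inv.2 ?_
        show (a ^ 2 ^ (n - 2)) ^ r = _
        rw [← zpow_natCast, ← zpow_mul, mul_comm, zpow_mul, hr, conj_zpow, zpow_natCast]
        exact hout g hg hgA
      rwa [hi4] at this
    obtain ⟨l, hl⟩ := h4
    refine himem b hb ?_
    rw [← hj, ← zpow_natCast, ← zpow_mul, ← orderOf_dvd_iff_zpow_eq_one, hn]
    rw [← hj, ← conj_zpow, ← hr, ← zpow_mul, ← zpow_neg, ← zpow_add, ← zpow_add,
      ← orderOf_dvd_iff_zpow_eq_one, hn,
      show r * j + -j + (r * j + -j) = j * 4 * (2 * l - 1) by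
        rw [show r = 4 * l - 1 by linarith]; ring] at hsq
    have hcop : IsCoprime ((2 ^ n : ℕ) : ℤ) (2 * l - 1) := by
      push_cast
      exact IsCoprime.pow_left ⟨l, -1, by ring⟩
    push_cast at hsq hcop ⊢
    exact hcop.dvd_of_dvd_mul_right hsq
  have hn3 : ¬ a ∈ zpowers i := by
    intro hai
    have hA4 : ∀ x ∈ zpowers a, x * x = 1 ∨ x * x = z := by
      intro x hx
      have h4 : x ^ 4 = 1 := by
        obtain ⟨l, hl⟩ := mem_zpowers_iff.1 ((zpowers_le.2 hai) hx)
        rw [← hl, ← zpow_natCast, ← zpow_mul, mul_comm, zpow_mul, zpow_natCast, hi41, one_zpow]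
      exact hA2 _ (mul_mem hx hx) (by rw [mul_self_mul_self]; exact h4)
    have key : ∀ b ∈ zpowers a, b * d * b⁻¹ = d ∨ b * d * b⁻¹ = d * z := by
      intro b hb
      have hdb : d * b * d⁻¹ = b⁻¹ := by
        obtain ⟨l, hl⟩ := mem_zpowers_iff.1 ((zpowers_le.2 hai) hb)
        rw [← hl, ← conj_zpow, hout d hdS hdA, inv_zpow]
      have hb' : d * b⁻¹ * d⁻¹ = b := by rw [← conj_inv, hdb, inv_inv]
      have e : b * d * b⁻¹ = d * (b⁻¹ * b⁻¹) := by
        calc b * d * b⁻¹ = d * b⁻¹ * d⁻¹ * d * b⁻¹ := by rw [hb']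
          _ = d * (b⁻¹ * b⁻¹) := by group
      rw [e, ← mul_inv_rev]
      rcases hA4 b hb with h | h <;> rw [h]
      · exact Or.inl (by rw [inv_one, mul_one])
      · exact Or.inr (by rw [inv_eq_of_mul_eq_one_right hzz])
    refine hdz (hleft d hdS hd hd1 fun s hs => ?_)
    by_cases hsA : s ∈ zpowers a
    · exact key s hsA
    · have := key (s * d) (htwo s hs d hdS hsA hdA)
      rwa [show s * d * d * (s * d)⁻¹ = s * d * s⁻¹ by
        rw [mul_assoc s d d, hd, mul_one, mul_inv_rev, inv_eq_of_mul_eq_one_right hd, ← mul_assoc]] at this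
  by_cases hP2 : ∃ w ∈ P, w * w ≠ 1
  · -- the 2-core is not `⟨z⟩`
    obtain ⟨w₀, hw₀, hw₀2⟩ := hP2
    obtain ⟨k, hk⟩ := IsPGroup.iff_orderOf.1 S.2 ⟨w₀, hPS hw₀⟩
    rw [Subgroup.orderOf_mk] at hk
    have hk2 : 2 ≤ k := by
      by_contra hlt
      apply hw₀2
      rw [← sq, ← orderOf_dvd_iff_pow_eq_one, hk]
      exact pow_dvd_pow 2 (show k ≤ 1 by omega)
    set w := w₀ ^ 2 ^ (k - 2)
    have hwP : w ∈ P := pow_mem hw₀ _
    have hwS : w ∈ (S : Subgroup G) := hPS hwP
    have hw4 : orderOf w = 4 := by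
      rw [orderOf_pow' w₀ (by positivity), hk, Nat.gcd_eq_right (pow_dvd_pow 2 (Nat.sub_le k 2)),
        Nat.pow_div (Nat.sub_le k 2) two_pos, show k - (k - 2) = 2 by omega]
      rfl
    have hw2 : orderOf (w * w) = 2 := by
      rw [← sq, orderOf_pow_of_dvd two_ne_zero (by rw [hw4]; norm_num), hw4]
    have huniqP : ∀ x ∈ P, x * x = 1 → x = 1 ∨ x = z := by
      intro x hx hxx
      by_cases hx1 : x = 1
      · exact Or.inl hx1
      refine Or.inr ?_
      classical
      haveI := hP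
      haveI : Fintype P := Fintype.ofFinite P
      by_contra hne
      have h3 : ({(1 : P), ⟨x, hx⟩, ⟨z, hzP⟩} : Finset P).card = 3 := by
        rw [Finset.card_insert_of_notMem, Finset.card_pair]
        · exact fun e => hne (congrArg Subtype.val e)
        · simp only [Finset.mem_insert, Finset.mem_singleton]
          rintro (e | e)
          · exact hx1 (congrArg Subtype.val e).symm
          · exact hz1 (congrArg Subtype.val e).symm
      have hsub : ({(1 : P), ⟨x, hx⟩, ⟨z, hzP⟩} : Finset P) ⊆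
          Finset.univ.filter fun y : P => y ^ 2 = 1 := by
        intro y hy
        refine Finset.mem_filter.2 ⟨Finset.mem_univ _, ?_⟩
        simp only [Finset.mem_insert, Finset.mem_singleton] at hy
        rcases hy with rfl | rfl | rfl
        · exact one_pow 2
        · exact Subtype.ext (by simp [sq, hxx])
        · exact Subtype.ext (by simp [sq, hzz])
      have h2 := (Finset.card_le_card hsub).trans (IsCyclic.card_pow_eq_one_le two_pos)
      omega
    have hwz : w * w = z := by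
      refine (huniqP _ (mul_mem hwP hwP) ?_).resolve_left fun e => ?_
      · rw [mul_self_mul_self, ← hw4, pow_orderOf_eq_one]
      · rw [e, orderOf_one] at hw2; omega
    by_cases hwA : w ∈ zpowers a
    · have hwi : w ∈ zpowers i := himem w hwA (hw4 ▸ pow_orderOf_eq_one w)
      have hiw : i ∈ zpowers w := by
        have : zpowers w = zpowers i := eq_of_le_of_card_ge (zpowers_le.2 hwi)
          (by rw [Nat.card_zpowers, Nat.card_zpowers, hw4, hi4])
        exact this ▸ mem_zpowers i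
      have hle : (S : Subgroup G) ⊓ centralizer (P : Set G) ≤ zpowers a := by
        rintro g ⟨hg, hgc⟩
        refine hCi g hg ?_
        have hc : Commute g w := (mem_centralizer_iff.1 hgc w hwP).symm
        obtain ⟨l, hl⟩ := mem_zpowers_iff.1 hiw
        rw [← hl]
        exact mul_inv_eq_iff_eq_mul.2 (hc.zpow_right l).eq
      exact isCyclic_of_injective _ (Subgroup.inclusion_injective hle)
    · exfalso
      apply hn3
      refine hcomm w hwS hwA a (mem_zpowers a) ?_
      -- `a * w * a⁻¹` lies in the 2-core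
      haveI := hP
      set v := a * w⁻¹ * a⁻¹
      have hvP : v ∈ P := hPn.conj_mem _ (inv_mem hwP) a
      have hc : Commute w v := congrArg Subtype.val
        ((IsCyclic.isMulCommutative (α := P)).is_comm.comm (⟨w, hwP⟩ : P) ⟨v, hvP⟩)
      have e : w * a * w⁻¹ * a⁻¹ = w * (a * w⁻¹ * a⁻¹) := by group
      rw [e, show w * v * (w * v) = w * (v * w) * v by group, ← hc.eq,
        show w * (w * v) * v = (w * w) * (v * v) by group, hwz,
        show v * v = a * (w * w)⁻¹ * a⁻¹ by rw [mul_inv_rev]; exact conj_mul_self a w⁻¹, hwz, inv_eq_of_mul_eq_one_right hzz,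
        show a * z * a⁻¹ = z by rw [hzcS, mul_inv_cancel_right]]
      exact hzz
  -- the 2-core is `⟨z⟩`
  exfalso
  push Not at hP2
  set Z := zpowers z
  have hZ : ∀ {x : G}, x ∈ Z → x = 1 ∨ x = z := by
    intro x hx
    obtain ⟨l, rfl⟩ := mem_zpowers_iff.1 hx
    rw [← zpow_mod_orderOf, hz]
    rcases Int.emod_two_eq_zero_or_one l with h | h <;> push_cast <;> rw [h]
    · exact Or.inl (zpow_zero _)
    · exact Or.inr (zpow_one _)
  haveI : Z.Normal := ⟨fun x hx g => by
    rcases hZ hx with e | e <;> rw [e]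
    · simp
    · rw [hzcS, mul_inv_cancel_right]; exact mem_zpowers z⟩
  set π := QuotientGroup.mk' Z
  have hπ : ∀ {x : G}, π x = 1 ↔ x = 1 ∨ x = z := fun {x} => by
    refine (QuotientGroup.eq_one_iff x).trans ⟨hZ, ?_⟩
    rintro (rfl | rfl)
    · exact one_mem _
    · exact mem_zpowers _
  -- square roots of one modulo `Z` commuting with an outside involution
  have keyA : ∀ d' ∈ (S : Subgroup G), d' ∉ zpowers a → d' * d' = 1 → ∀ y : G, π y * π y = 1 →
      Commute (π y) (π d') → y ∈ zpowers i ∨ (y ∈ (S : Subgroup G) ∧ y * d' ∈ zpowers i) := by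
    intro d' hd'S hd'A hd' y hy hc
    have hd'1 : d' ≠ 1 := fun e => hd'A (e ▸ one_mem _)
    have hd'z : d' ≠ z := fun e => hd'A (e ▸ hzA)
    have hy4 : y ^ 2 ^ 2 = 1 := by
      rw [← map_mul, hπ] at hy
      rw [show y ^ 2 ^ 2 = (y * y) * (y * y) from (mul_self_mul_self y).symm]
      rcases hy with e | e <;> rw [e]
      · exact one_mul 1
      · exact hzz
    have hconj : y * d' * y⁻¹ = d' ∨ y * d' * y⁻¹ = d' * z := by
      have h1 : π (y * d' * y⁻¹ * d'⁻¹) = 1 := by
        rw [map_mul, map_mul, map_mul, map_inv, map_inv, hc.eq, mul_inv_cancel_right, mul_inv_cancel]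
      rcases hπ.1 h1 with e | e
      · exact Or.inl (mul_inv_eq_one.1 e)
      · exact Or.inr (by rw [mul_inv_eq_iff_eq_mul.1 e, hzcS])
    have hST : S = y • S := by
      refine hu S (y • S) (y * d' * y⁻¹) ?_ (fun e => hd'1 (conj_eq_one_iff.1 e)) (fun e => hd'z ?_) ?_ ?_
      · rw [show y * d' * y⁻¹ * (y * d' * y⁻¹) = y * (d' * d') * y⁻¹ by group, hd', mul_one,
          mul_inv_cancel]
      · rw [show d' = y⁻¹ * (y * d' * y⁻¹) * y by group, e, hzcS, mul_assoc, inv_mul_cancel, mul_one]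
      · rcases hconj with e | e <;> rw [e]
        · exact hd'S
        · exact mul_mem hd'S hzS
      · rw [Sylow.coe_subgroup_smul]
        exact ⟨d', hd'S, rfl⟩
    have hyS : y ∈ (S : Subgroup G) :=
      CfsgLib.FTRows.CyclicMeet.mem_of_normalizes S
        (CfsgLib.FTRows.CyclicMeet.isPGroup_zpowers hy4) (Sylow.smul_eq_iff_mem_normalizer.1 hST.symm)
    have hsq : ∀ b : G, (b * d' * b⁻¹ = d' ∨ b * d' * b⁻¹ = d' * z) →
        (d' * b * d'⁻¹ * b⁻¹) * (d' * b * d'⁻¹ * b⁻¹) = 1 := by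
      intro b hb
      rw [show d' * b * d'⁻¹ * b⁻¹ = d' * (b * d' * b⁻¹) by
        rw [inv_eq_of_mul_eq_one_right hd']; group]
      rcases hb with e | e <;> rw [e]
      · rw [hd', one_mul]
      · rw [← mul_assoc d' d' z, hd', one_mul, hzz]
    by_cases hyA : y ∈ zpowers a
    · exact Or.inl (hcomm d' hd'S hd'A y hyA (hsq y hconj))
    · refine Or.inr ⟨hyS, hcomm d' hd'S hd'A _ (htwo y hyS d' hd'S hyA hd'A) (hsq _ ?_)⟩
      rwa [show y * d' * d' * (y * d')⁻¹ = y * d' * y⁻¹ by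
        rw [mul_assoc y d' d', hd', mul_one, mul_inv_rev, inv_eq_of_mul_eq_one_right hd', ← mul_assoc]]
  -- involutions outside are inverse
  have hinvol : ∀ g ∈ (S : Subgroup G), g * g = 1 → g ∉ zpowers a → ∀ x ∈ zpowers i,
      (x * g) * (x * g) = 1 := by
    intro g hg hgg hgA x hx
    obtain ⟨l, rfl⟩ := mem_zpowers_iff.1 hx
    rw [show i ^ l * g * (i ^ l * g) = i ^ l * (g * i ^ l * g⁻¹) * (g * g) by group, hgg, mul_one,
      ← conj_zpow, hout g hg hgA, inv_zpow, mul_inv_cancel]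
  have hπi : ∀ x ∈ zpowers i, π x = 1 ∨ π x = π i := by
    intro x hx
    obtain ⟨l, rfl⟩ := mem_zpowers_iff.1 hx
    have h2 : π i ^ 2 = 1 := by rw [sq, ← map_mul, hπ, hii]; exact Or.inr rfl
    obtain ⟨l', rfl | rfl⟩ := l.even_or_odd' <;> rw [map_zpow]
    · exact Or.inl (by rw [zpow_mul, zpow_ofNat, h2, one_zpow])
    · exact Or.inr (by rw [zpow_add_one, zpow_mul, zpow_ofNat, h2, one_zpow, one_mul])
  have hord : ∀ {x : G}, π x * π x = 1 → π x ≠ 1 → orderOf (π x) = 2 := fun h h1 =>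
    orderOf_eq_prime (by rw [sq]; exact h) h1
  have main : ∀ g : G, Commute (π i) (π (g * i * g⁻¹)) := by
    intro g
    set y := g * i * g⁻¹
    have hyy : y * y = z := by
      rw [conj_mul_self, hii, hzcS, mul_inv_cancel_right]
    have hy2 : π y * π y = 1 := by rw [← map_mul, hπ, hyy]; exact Or.inr rfl
    have hy1 : π y ≠ 1 := fun e => by
      rcases hπ.1 e with e' | e' <;> rw [e'] at hyy
      · exact hz1 ((one_mul 1).symm.trans hyy).symm
      · exact hz1 (hzz.symm.trans hyy).symm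
    have hdd : π d * π d = 1 := by rw [← map_mul, hd, map_one]
    have hd1' : π d ≠ 1 := fun e => (hπ.1 e).elim hd1 hdz
    have hnc : ¬ IsConj (π d) (π y) := by
      rintro hc
      obtain ⟨c, hc⟩ := isConj_iff.1 hc
      obtain ⟨h, rfl⟩ := QuotientGroup.mk'_surjective Z c
      change π h * π d * (π h)⁻¹ = π y at hc
      rw [← map_inv, ← map_mul, ← map_mul] at hc
      have h1 : π ((h * d * h⁻¹)⁻¹ * y) = 1 := by rw [map_mul, map_inv, hc, inv_mul_cancel]
      have h2 : (h * d * h⁻¹) * (h * d * h⁻¹) = 1 := by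
        rw [show h * d * h⁻¹ * (h * d * h⁻¹) = h * (d * d) * h⁻¹ by group, hd, mul_one, mul_inv_cancel]
      rcases hπ.1 h1 with e | e <;> rw [inv_mul_eq_iff_eq_mul] at e <;> rw [e] at hyy
      · rw [mul_one, h2] at hyy; exact hz1 hyy.symm
      · rw [show h * d * h⁻¹ * z * (h * d * h⁻¹ * z) = h * d * h⁻¹ * (z * (h * d * h⁻¹)) * z by group,
          ← hzcS, ← mul_assoc, h2, one_mul, hzz] at hyy
        exact hz1 hyy.symm
    obtain ⟨e, he, hed, hey⟩ := CfsgLib.Invol.exists_commuting_invol (hord hdd hd1') (hord hy2 hy1) hnc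
    obtain ⟨w, rfl⟩ := QuotientGroup.mk'_surjective Z e
    change orderOf (π w) = 2 at he
    change Commute (π w) (π d) at hed
    change Commute (π w) (π y) at hey
    have hw2 : π w * π w = 1 := by rw [← sq, ← he]; exact pow_orderOf_eq_one _
    have hw1 : π w ≠ 1 := fun e => by rw [e, orderOf_one] at he; omega
    rcases keyA d hdS hdA hd w hw2 hed with hwi | ⟨hwS, hwd⟩
    · rw [← (hπi w hwi).resolve_left hw1]
      exact hey
    have hwA : w ∉ zpowers a := fun h => hdA ((mul_mem_cancel_left h).1 ((zpowers_le.2 hiA) hwd))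
    have hww : w * w = 1 := by
      have := hinvol d hdS hd hdA (w * d) hwd
      rwa [mul_assoc w d d, hd, mul_one] at this
    rcases keyA w hwS hwA hww y hy2 hey.symm with hyi | ⟨-, hyw⟩
    · rcases hπi y hyi with e | e
      · exact absurd e hy1
      · rw [e]
    · have := hinvol w hwS hww hwA (y * w) hyw
      rw [mul_assoc y w w, hww, mul_one, hyy] at this
      exact absurd this hz1
  -- the conjugates of `i` generate a normal 2-subgroup
  set C := π '' Group.conjugatesOfSet ({i} : Set G)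
  have hCmem : ∀ c ∈ C, ∃ g : G, c = π (g * i * g⁻¹) := by
    rintro _ ⟨x, hx, rfl⟩
    obtain ⟨i', hi', hx'⟩ := Group.mem_conjugatesOfSet_iff.1 hx
    rw [Set.mem_singleton_iff.1 hi'] at hx'
    obtain ⟨g, hg⟩ := isConj_iff.1 hx'
    exact ⟨g, by rw [hg]⟩
  have hCc : ∀ x ∈ C, ∀ y ∈ C, x * y = y * x := by
    intro x hx y hy
    obtain ⟨g, rfl⟩ := hCmem x hx
    obtain ⟨h, rfl⟩ := hCmem y hy
    have := (main (g⁻¹ * h)).map (MulAut.conj (π g)).toMonoidHom
    have e1 : MulAut.conj (π g) (π i) = π (g * i * g⁻¹) := by simp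
    have e2 : MulAut.conj (π g) (π (g⁻¹ * h * i * (g⁻¹ * h)⁻¹)) = π (h * i * h⁻¹) := by
      simp [mul_assoc]
    simp only [MulEquiv.coe_toMonoidHom] at this
    rw [e1, e2] at this
    exact this.eq
  haveI : IsMulCommutative (closure C) := Subgroup.isMulCommutative_closure hCc
  have hK : ∀ x ∈ closure C, x * x = 1 := by
    intro x hx
    refine closure_induction (p := fun x _ => x * x = 1) ?_ (one_mul 1) ?_ ?_ hx
    · intro c hc
      obtain ⟨g, rfl⟩ := hCmem c hc
      rw [← map_mul, hπ, show g * i * g⁻¹ * (g * i * g⁻¹) = g * (i * i) * g⁻¹ by group, hii, hzcS,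
        mul_inv_cancel_right]
      exact Or.inr rfl
    · intro x y hx hy h1 h2
      rw [show x * y * (x * y) = x * (y * x) * y by group, setLike_mul_comm hy hx,
        show x * (x * y) * y = (x * x) * (y * y) by group, h1, h2, one_mul]
    · intro x _ h1
      rw [← mul_inv_rev, h1, inv_one]
  have hN : IsPGroup 2 (normalClosure ({i} : Set G)) := by
    rintro ⟨x, hx⟩
    refine ⟨2, Subtype.ext ?_⟩
    have hxK : π x ∈ closure C := by
      rw [← MonoidHom.map_closure]
      exact mem_map_of_mem _ hx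
    have := hK _ hxK
    rw [← map_mul, hπ] at this
    show x ^ 2 ^ 2 = 1
    rw [show x ^ 2 ^ 2 = (x * x) * (x * x) from (mul_self_mul_self x).symm]
    rcases this with e | e <;> rw [e]
    · exact one_mul 1
    · exact hzz
  exact hii1 (hP2 i (CfsgLib.Solvable.le_pCore 2 normalClosure_normal hN
    (subset_normalClosure (Set.mem_singleton i))))

end CfsgLib.RankOneMeet
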