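import Cfsg.Agent.RankOneMeet.CyclicOneQuat
import Cfsg.Agent.RankOneMeet.NormalFour
import Cfsg.Agent.S0215

/-!
# One component and a cyclic 2-core
-/

set_option autoImplicit false
set_option linter.unusedSectionVars false
set_option linter.style.haveILetI false

namespace CfsgLib.RankOneMeet

open Subgroup
open CfsgLib.Bender

namespace Ctx

universe v

variable {G : Type v} [Group G] [Finite G] {z : G} {S : Sylow 2 G} (C : Ctx z S)
include C

/-- An element of square `z` isolated modulo `z` is absurd. -/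
theorem isolated_false (hO : Cfsg.oddCore G = ⊥) (hzP : z ∈ Cfsg.pCore 2 G)
    (hPz : ∀ p ∈ Cfsg.pCore 2 G, p = 1 ∨ p = z)
    (hcent : ∀ s ∈ (S : Subgroup G), s * s = z → ∀ u ∈ (S : Subgroup G),
      u * s * u⁻¹ = s ∨ u * s * u⁻¹ = s * z)
    {w w' : G} (hwS : w ∈ (S : Subgroup G)) (hww : w * w = z) (Q : G → Prop) (hQw : Q w)
    (hQn : ∀ n ∈ normalizer ((S : Subgroup G) : Set G), ∀ s, Q s → Q (n * s * n⁻¹))
    (hQ : ∀ s, Q s → (s = w ∨ s = w * z) ∨ (s = w' ∨ s = w' * z)) : False := by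
  haveI : Fact (Nat.Prime 2) := ⟨Nat.prime_two⟩
  set N := Cfsg.pCore 2 G with hNdef
  haveI : N.Normal := (CfsgLib.Solvable.pCore_spec (G := G) 2).1
  set π := QuotientGroup.mk' N with hπ
  have hker : ∀ g : G, π g = 1 ↔ g = 1 ∨ g = z := fun g => by
    rw [← MonoidHom.mem_ker, QuotientGroup.ker_mk']
    exact ⟨hPz g, fun h => h.elim (fun e => e ▸ one_mem _) fun e => e ▸ hzP⟩
  have hπz : π z = 1 := (hker z).2 (Or.inr rfl)
  have hπc : ∀ {s w : G}, s = w ∨ s = w * z → π s = π w := fun {s w} h => by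
    rcases h with e | e <;> rw [e]
    rw [map_mul, hπz, mul_one]
  -- the normalizer fixes the class of `w`
  have hfix : ∀ n ∈ normalizer ((S : Subgroup G) : Set G), π (n * w * n⁻¹) = π w := by
    intro n hn
    obtain ⟨j, o, ho, hjo⟩ := Nat.exists_eq_pow_mul_and_not_dvd (orderOf_pos n).ne' 2 (by norm_num)
    have hoS : n ^ o ∈ (S : Subgroup G) := CentralMeet.mem_sylow_of_pow (pow_mem hn o) (k := j)
      (by rw [← pow_mul, mul_comm, ← hjo, pow_orderOf_eq_one])
    have hQi : ∀ i : ℕ, Q (n ^ i * w * (n ^ i)⁻¹) := by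
      intro i
      induction i with
      | zero => rwa [pow_zero, one_mul, inv_one, mul_one]
      | succ i ih =>
        rw [show n ^ (i + 1) * w * (n ^ (i + 1))⁻¹ = n * (n ^ i * w * (n ^ i)⁻¹) * n⁻¹ by
          rw [pow_succ']; group]
        exact hQn n hn _ ih
    have h2 : ∀ i : ℕ, π (n ^ i * w * (n ^ i)⁻¹) = π w ∨ π (n ^ i * w * (n ^ i)⁻¹) = π w' :=
      fun i => (hQ _ (hQi i)).imp hπc hπc
    by_contra h1
    have h1' : π (n * w * n⁻¹) = π w' := by
      have := h2 1
      rw [pow_one] at this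
      exact this.resolve_left h1
    have hstep : ∀ i : ℕ, π (n ^ (i + 1) * w * (n ^ (i + 1))⁻¹) =
        π n * π (n ^ i * w * (n ^ i)⁻¹) * (π n)⁻¹ := fun i => by
      rw [← map_inv, ← map_mul, ← map_mul, pow_succ']
      exact congrArg π (by group)
    have halt : ∀ i : ℕ, (Even i → π (n ^ i * w * (n ^ i)⁻¹) = π w) ∧
        (Odd i → π (n ^ i * w * (n ^ i)⁻¹) = π w') := by
      intro i
      induction i with
      | zero => exact ⟨fun _ => by rw [pow_zero, one_mul, inv_one, mul_one], fun h => absurd h (by decide)⟩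
      | succ i ih =>
        refine ⟨fun h => ?_, fun h => ?_⟩
        · have hi := ih.2 (Nat.not_even_iff_odd.1 (Nat.even_add_one.1 h))
          refine (h2 (i + 1)).resolve_right fun e => ?_
          rw [hstep, hi] at e
          have e2 : π n * π w * (π n)⁻¹ = π w' := by rw [← h1', map_mul, map_mul, map_inv]
          have e3 : π w' = π w := mul_left_cancel (mul_right_cancel (e.trans e2.symm))
          exact h1 (h1'.trans e3)
        · rw [hstep, ih.1 (Nat.not_odd_iff_even.1 (Nat.odd_add_one.1 h)), ← map_inv, ← map_mul,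
            ← map_mul]
          exact h1'
    have h3 := (halt o).2 (Nat.not_even_iff_odd.1 fun h => ho (even_iff_two_dvd.1 h))
    rw [hπc (hcent w hwS hww _ hoS)] at h3
    exact h1 (h1'.trans h3.symm)
  -- isolation
  set Sb := S.mapSurjective (f := π) (QuotientGroup.mk'_surjective N)
  have hw1 : π w ≠ 1 := fun h => by
    rcases (hker w).1 h with e | e <;> rw [e] at hww
    · exact C.z1 (by rw [← hww, one_mul])
    · exact C.z1 (by rw [← hww, C.zz])
  have hπS : ∀ {g : G}, π g ∈ (Sb : Subgroup (G ⧸ N)) → g ∈ (S : Subgroup G) := by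
    rintro g ⟨s, hs, e⟩
    have h := (hker (s⁻¹ * g)).1 (by rw [map_mul, map_inv, e, inv_mul_cancel])
    rcases h with h | h
    · rwa [← inv_mul_eq_one.1 h]
    · rw [inv_mul_eq_iff_eq_mul.1 h]; exact mul_mem hs C.zS
  obtain ⟨K, hK, hKodd, hKc⟩ := Cfsg.Agent.S0215.result Sb (π w)
    (CentralRankOne.orderOf_two (by rw [← map_mul, hww, hπz]) hw1) (mem_map_of_mem π hwS)
    (fun g' hg' => by
      obtain ⟨g, rfl⟩ := QuotientGroup.mk'_surjective N g'
      rw [← map_inv, ← map_mul, ← map_mul] at hg' ⊢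
      have hgS := hπS hg'
      obtain ⟨n, hn, hne⟩ := C.fusion N
        (fun y => ⟨hPz y, fun h => h.elim (fun e => e ▸ one_mem _) fun e => e ▸ hzP⟩) hwS
        (hcent w hwS hww) hgS (hcent _ hgS (by rw [conj_mul_self, hww, C.conj_z]))
      rw [← hfix n hn]
      exact (hπc hne).symm)
  have hY : Cfsg.oddCore (G ⧸ N) = ⊥ := CentralMeet.oddCore_quotient_of_central pCore_pgroup
    (fun p hp => by
      rcases hPz p hp with e | e <;> rw [e]
      exacts [one_mem _, C.zc]) hO
  have hwc : π w ∈ center (G ⧸ N) := mem_center_iff.2 fun g => by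
    have h1 := DGroup.le_oddCore hK hKodd (hKc g)
    rw [hY, mem_bot, mul_inv_eq_one, mul_inv_eq_iff_eq_mul] at h1
    exact h1.symm
  set W := (zpowers (π w)).comap π
  have hWn : W.Normal := ⟨fun a ha g => by
    show π (g * a * g⁻¹) ∈ zpowers (π w)
    rw [map_mul, map_mul, map_inv, mem_center_iff.1 (zpowers_le.2 hwc ha) (π g), mul_inv_cancel_right]
    exact ha⟩
  have hWS : W ≤ (S : Subgroup G) := fun a ha =>
    hπS (zpowers_le.2 (mem_map_of_mem π hwS) ha)
  have hwP : w ∈ Cfsg.pCore 2 G := le_pCore hWn (S.2.to_le hWS) (mem_zpowers _)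
  exact hw1 ((QuotientGroup.eq_one_iff w).2 hwP)

/-- At most one class of involutions in the centralizer: absurd. -/
theorem alpha_false (hO : Cfsg.oddCore G = ⊥) (hzP : z ∈ Cfsg.pCore 2 G)
    (hPz : ∀ p ∈ Cfsg.pCore 2 G, p = 1 ∨ p = z) {x r : G} (P : Pair z S x r) (hF : ¬ Four z S r) :
    False := by
  classical
  haveI : Fact (Nat.Prime 2) := ⟨Nat.prime_two⟩
  set Cz : G → Prop := fun s => ∀ u ∈ (S : Subgroup G), u * s * u⁻¹ = s ∨ u * s * u⁻¹ = s * z
    with hCzdef
  have hCzmul : ∀ a b, Cz a → Cz b → Cz (a * b) := by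
    intro a b ha hb u hu
    rw [show u * (a * b) * u⁻¹ = (u * a * u⁻¹) * (u * b * u⁻¹) by group]
    rcases ha u hu with e | e <;> rcases hb u hu with e' | e' <;> rw [e, e']
    · exact Or.inl rfl
    · exact Or.inr (mul_assoc a b z).symm
    · exact Or.inr (C.mul_z_mul a b)
    · refine Or.inl ?_
      rw [C.mul_z_mul, ← mul_assoc, mul_assoc _ z z, C.zz, mul_one]
  have hCzk : ∀ k ∈ zpowers r, Cz k := by
    intro k hk u hu
    rcases C.four_cases P.rr hk with e | e | e | e <;> rw [e]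
    · exact Or.inl (by rw [mul_one, mul_inv_cancel])
    · exact Or.inl (C.conj_z u)
    · exact P.rconj u hu
    · exact hCzmul r z (P.rconj) (fun u _ => Or.inl (C.conj_z u)) u hu
  have hdd : ∀ d ∈ (S : Subgroup G), d * d = 1 → d ≠ 1 → d ≠ z → d * r = r * d →
      ∀ d' ∈ (S : Subgroup G), d' * d' = 1 → d' ≠ 1 → d' ≠ z → d' * r = r * d' →
      d' = d ∨ d' = d * z := by
    intro d hdS h1 h2 h3 h4 d' hdS' h1' h2' h3' h4'
    by_contra hno
    push Not at hno
    exact hF ⟨d, hdS, d', hdS', h1, h2, h3, h4, h1', h2', h3', h4', hno.1, hno.2⟩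
  have hcomk : ∀ {g : G}, g * r = r * g → ∀ k ∈ zpowers r, g * k = k * g := by
    rintro g hg _ ⟨i, rfl⟩
    exact ((show Commute g r from hg).zpow_right i).eq
  have hxk : ∀ k ∈ zpowers r, x * k * x⁻¹ * k = 1 := by
    intro k hk
    rcases C.four_cases P.rr hk with e | e | e | e <;> rw [e]
    · group
    · rw [C.conj_z, C.zz]
    · rw [P.xr, C.mul_z_mul, P.rr, C.zz]
    · rw [show x * (r * z) * x⁻¹ = (x * r * x⁻¹) * (x * z * x⁻¹) by group, P.xr, C.conj_z,
        mul_assoc r z z, C.zz, mul_one, ← mul_assoc, P.rr, C.zz]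
  have hsqk : ∀ k ∈ zpowers r, k * k = z → k = r ∨ k = r * z := by
    intro k hk hkk
    rcases C.four_cases P.rr hk with e | e | e | e
    · rw [e, one_mul] at hkk; exact absurd hkk.symm C.z1
    · rw [e, C.zz] at hkk; exact absurd hkk.symm C.z1
    · exact Or.inl e
    · exact Or.inr e
  -- elements of the centralizer squaring into `⟨z⟩`
  have hRcls : ∀ m ∈ (S : Subgroup G), m * r = r * m → (m * m = 1 ∨ m * m = z) →
      m ∈ zpowers r ∨ ∃ d ∈ (S : Subgroup G), d * d = 1 ∧ d ≠ 1 ∧ d ≠ z ∧ d * r = r * d ∧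
        ∃ k ∈ zpowers r, m = d * k := by
    intro m hm hmr hmm
    refine or_iff_not_imp_left.2 fun hout => ?_
    obtain ⟨d, hdS, h1, h2, h3, h4, hcase⟩ := C.lift P hm hmr (by
      rcases hmm with e | e <;> rw [e]
      exacts [one_mem _, P.rr ▸ mul_mem (mem_zpowers r) (mem_zpowers r)]) hout
    refine ⟨d, hdS, h1, h2, h3, h4, ?_⟩
    rcases hcase with e | e
    · exact ⟨1, one_mem _, by rw [e, mul_one]⟩
    · exact ⟨r⁻¹, inv_mem (mem_zpowers r), by rw [e, mul_inv_cancel_right]⟩
  -- elements outside the centralizer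
  have hout : ∀ s ∈ (S : Subgroup G), (s * s = 1 ∨ s * s = z) → s * r ≠ r * s →
      ∃ m ∈ (S : Subgroup G), m * r = r * m ∧ (m * m = 1 ∨ m * m = z) ∧ s = x * m ∧
        s * s = x * m * x⁻¹ * m := by
    intro s hs hss hsr
    refine ⟨x * s, mul_mem P.xS hs, ?_, ?_, by rw [← mul_assoc, P.xx, one_mul], ?_⟩
    · refine mul_inv_eq_iff_eq_mul.1 ?_
      rw [show x * s * r * (x * s)⁻¹ = x * (s * r * s⁻¹) * x⁻¹ by group,
        (P.rconj s hs).resolve_left fun e => hsr (mul_inv_eq_iff_eq_mul.1 e),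
        show x * (r * z) * x⁻¹ = (x * r * x⁻¹) * (x * z * x⁻¹) by group, P.xr, C.conj_z, mul_assoc,
        C.zz, mul_one]
    · have hxi : x⁻¹ = x := inv_eq_of_mul_eq_one_right P.xx
      have e : x * s * (x * s) = (x * s * x⁻¹) * s := by rw [hxi]; group
      rw [e]
      rcases C.x_fix P hs with e' | e' <;> rw [e']
      · exact hss
      · rw [C.mul_z_mul]
        rcases hss with e'' | e'' <;> rw [e'']
        exacts [Or.inr (one_mul z), Or.inl C.zz]
    · have hxi : x⁻¹ = x := inv_eq_of_mul_eq_one_right P.xx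
      rw [show x * (x * s) * x⁻¹ * (x * s) = x * x * s * (x⁻¹ * x) * s by group, P.xx, one_mul,
        inv_mul_cancel, mul_one]
  have hdconj : ∀ d ∈ (S : Subgroup G), d * d = 1 → d ≠ 1 → d ≠ z → d * r = r * d → Cz d := by
    intro d hdS h1 h2 h3 h4 u hu
    refine hdd d hdS h1 h2 h3 h4 _ (mul_mem (mul_mem hu hdS) (inv_mem hu))
      (by rw [conj_mul_self, h1, mul_one, mul_inv_cancel]) (fun e => h2 (conj_eq_one_iff.1 e))
      (fun e => h3 ?_) ?_
    · rw [show d = u⁻¹ * (u * d * u⁻¹) * u by group, e, C.comm, mul_assoc, inv_mul_cancel, mul_one]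
    · have h5 : Commute (u * d * u⁻¹) (u * r * u⁻¹) :=
        (show Commute d r from h4).map (MulAut.conj u).toMonoidHom
      rcases P.rconj u hu with e | e <;> rw [e] at h5
      · exact h5
      · have h6 := h5.mul_right (show Commute (u * d * u⁻¹) z from C.comm _)
        rwa [mul_assoc r z z, C.zz, mul_one] at h6
  have hCzR : ∀ m ∈ (S : Subgroup G), m * r = r * m → (m * m = 1 ∨ m * m = z) → Cz m := by
    intro m hm hmr hmm
    rcases hRcls m hm hmr hmm with h | ⟨d, hdS, h1, h2, h3, h4, k, hk, e⟩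
    · exact hCzk m h
    · rw [e]; exact hCzmul d k (hdconj d hdS h1 h2 h3 h4) (hCzk k hk)
  have hcent : ∀ s ∈ (S : Subgroup G), s * s = z → Cz s := by
    intro s hs hss
    by_cases hsr : s * r = r * s
    · exact hCzR s hs hsr (Or.inr hss)
    · obtain ⟨m, hm, hmr, hmm, e, -⟩ := hout s hs (Or.inr hss) hsr
      rw [e]
      exact hCzmul x m P.xconj (hCzR m hm hmr hmm)
  have hinv : ∀ n ∈ normalizer ((S : Subgroup G) : Set G), ∀ s, s ∈ (S : Subgroup G) ∧ s * s = z →
      n * s * n⁻¹ ∈ (S : Subgroup G) ∧ n * s * n⁻¹ * (n * s * n⁻¹) = z := fun n hn s hs =>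
    ⟨(mem_normalizer_iff.1 hn s).1 hs.1, by rw [conj_mul_self, hs.2, C.conj_z]⟩
  by_cases hex : ∃ d ∈ (S : Subgroup G), d * d = 1 ∧ d ≠ 1 ∧ d ≠ z ∧ d * r = r * d
  swap
  · -- only `r`
    refine C.isolated_false hO hzP hPz hcent (w := r) (w' := r) P.rS P.rr
      (fun s => s ∈ (S : Subgroup G) ∧ s * s = z) ⟨P.rS, P.rr⟩ hinv fun s hs => Or.inl ?_
    have hk : ∀ m ∈ (S : Subgroup G), m * r = r * m → (m * m = 1 ∨ m * m = z) → m ∈ zpowers r :=
      fun m hm hmr hmm => (hRcls m hm hmr hmm).resolve_right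
        fun ⟨d, hdS, h1, h2, h3, h4, _⟩ => hex ⟨d, hdS, h1, h2, h3, h4⟩
    by_cases hsr : s * r = r * s
    · exact hsqk s (hk s hs.1 hsr (Or.inr hs.2)) hs.2
    · obtain ⟨m, hm, hmr, hmm, -, e⟩ := hout s hs.1 (Or.inr hs.2) hsr
      rw [hxk m (hk m hm hmr hmm), hs.2] at e
      exact absurd e C.z1
  obtain ⟨d, hdS, hd, hd1, hdz, hdr⟩ := hex
  have hRform : ∀ m ∈ (S : Subgroup G), m * r = r * m → (m * m = 1 ∨ m * m = z) →
      m ∈ zpowers r ∨ ∃ k ∈ zpowers r, m = d * k := by
    intro m hm hmr hmm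
    refine (hRcls m hm hmr hmm).imp id fun ⟨d', hdS', h1, h2, h3, h4, k, hk, e⟩ => ?_
    rcases hdd d hdS hd hd1 hdz hdr d' hdS' h1 h2 h3 h4 with e' | e' <;> rw [e, e']
    · exact ⟨k, hk, rfl⟩
    · exact ⟨z * k, mul_mem (P.rr ▸ mul_mem (mem_zpowers r) (mem_zpowers r)) hk, mul_assoc d z k⟩
  have hdk : ∀ k ∈ zpowers r, (d * k) * (d * k) = k * k := fun k hk => by
    rw [(show Commute k d from (hcomk hdr k hk).symm).mul_mul_mul_comm, hd, one_mul]
  rcases C.x_fix P hdS with hxd | hxd
  · -- `x` centralizes `d`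
    refine C.isolated_false hO hzP hPz hcent (w := r) (w' := d * r) P.rS P.rr
      (fun s => s ∈ (S : Subgroup G) ∧ s * s = z) ⟨P.rS, P.rr⟩ hinv fun s hs => ?_
    by_cases hsr : s * r = r * s
    · rcases hRform s hs.1 hsr (Or.inr hs.2) with h | ⟨k, hk, e⟩
      · exact Or.inl (hsqk s h hs.2)
      · have h1 := hsqk k hk (by rw [← hdk k hk, ← e]; exact hs.2)
        refine Or.inr ?_
        rcases h1 with e1 | e1 <;> rw [e, e1]
        · exact Or.inl rfl
        · exact Or.inr (mul_assoc d r z).symm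
    · obtain ⟨m, hm, hmr, hmm, -, e⟩ := hout s hs.1 (Or.inr hs.2) hsr
      exfalso
      rw [hs.2] at e
      rcases hRform m hm hmr hmm with h | ⟨k, hk, em⟩
      · exact C.z1 (e.trans (hxk m h))
      · refine C.z1 (e.trans ?_)
        rw [em, show x * (d * k) * x⁻¹ * (d * k) = (x * d * x⁻¹) * (x * k * x⁻¹) * d * k by group,
          hxd, mul_assoc d _ d,
          show x * k * x⁻¹ * d = d * (x * k * x⁻¹) from by
            rw [eq_inv_of_mul_eq_one_left (hxk k hk)]
            exact ((show Commute k d from (hcomk hdr k hk).symm).inv_left).eq,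
          ← mul_assoc, hd, one_mul, hxk k hk]
  · -- `x` moves `d`
    have hxm : ∀ k ∈ zpowers r, x * (d * k) * x⁻¹ = d * z * (x * k * x⁻¹) := fun k _ => by
      rw [← hxd]; group
    set E : G → Prop := fun e => e ∈ (S : Subgroup G) ∧ (e * e = 1 ∨ e * e = z)
    have hwE : ∀ e, E e → (d * r) * e = e * (d * r) := by
      have hwx : Commute (d * r) x := by
        refine (mul_inv_eq_iff_eq_mul.1 ?_).symm
        rw [hxm r (mem_zpowers r), P.xr, C.mul_z_mul, ← mul_assoc, mul_assoc _ z z, C.zz, mul_one]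
      have hwd : Commute (d * r) d := (Commute.refl d).mul_left (show Commute r d from hdr.symm)
      have hwk : ∀ k ∈ zpowers r, Commute (d * r) k := fun k hk =>
        (show Commute d k from hcomk hdr k hk).mul_left (show Commute r k from hcomk rfl k hk)
      have hwR : ∀ m ∈ (S : Subgroup G), m * r = r * m → (m * m = 1 ∨ m * m = z) →
          Commute (d * r) m := fun m hm hmr hmm => by
        rcases hRform m hm hmr hmm with h | ⟨k, hk, em⟩
        · exact hwk m h
        · rw [em]; exact hwd.mul_right (hwk k hk)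
      rintro e ⟨heS, hee⟩
      by_cases her : e * r = r * e
      · exact (hwR e heS her hee).eq
      · obtain ⟨m, hm, hmr, hmm, em, -⟩ := hout e heS hee her
        rw [em]
        exact (hwx.mul_right (hwR m hm hmr hmm)).eq
    refine C.isolated_false hO hzP hPz hcent (w := d * r) (w' := d * r) (mul_mem hdS P.rS)
      (by rw [hdk r (mem_zpowers r), P.rr])
      (fun s => (s ∈ (S : Subgroup G) ∧ s * s = z) ∧ ∀ e, E e → s * e = e * s)
      ⟨⟨mul_mem hdS P.rS, by rw [hdk r (mem_zpowers r), P.rr]⟩, hwE⟩ ?_ ?_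
    · intro n hn s ⟨hs, hse⟩
      refine ⟨hinv n hn s hs, fun e he => ?_⟩
      have h1 : E (n⁻¹ * e * n) := by
        refine ⟨(mem_normalizer_iff''.1 hn e).1 he.1, ?_⟩
        rw [show n⁻¹ * e * n * (n⁻¹ * e * n) = n⁻¹ * (e * e) * n by group]
        rcases he.2 with h | h <;> rw [h]
        · exact Or.inl (by rw [mul_one, inv_mul_cancel])
        · exact Or.inr (by rw [mul_assoc, ← C.comm n, inv_mul_cancel_left])
      have h2 := congrArg (fun g => n * g * n⁻¹) (hse _ h1)
      simp only [mul_assoc, mul_inv_cancel_left, inv_mul_cancel_left] at h2 ⊢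
      simpa [mul_assoc] using h2
    · rintro s ⟨hs, hse⟩
      refine Or.inl ?_
      have hsx := hse x ⟨P.xS, Or.inl P.xx⟩
      have hfx : x * s * x⁻¹ = s := mul_inv_eq_iff_eq_mul.2 hsx.symm
      rcases hRform s hs.1 (hse r ⟨P.rS, Or.inr P.rr⟩) (Or.inr hs.2) with h | ⟨k, hk, e⟩
      · exact absurd hfx (C.x_moves P (hsqk s h hs.2))
      · rcases hsqk k hk (by rw [← hdk k hk, ← e]; exact hs.2) with e1 | e1 <;> rw [e, e1]
        · exact Or.inl rfl
        · exact Or.inr (mul_assoc d r z).symm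

end Ctx

/-- One component and a cyclic nontrivial 2-core. -/
theorem cyclic_one_component_false.{u} {G : Type u} [Group G] [Finite G] (h : Rk G)
    (hO : Cfsg.oddCore G = ⊥) (hns : ¬ Group.IsSolvable G)
    (hnC : ∃ S T : Sylow 2 G, S ≠ T ∧ ¬ IsCyclic ↥((S : Subgroup G) ⊓ (T : Subgroup G)))
    (hnQ : ∀ S : Sylow 2 G, ∀ n : ℕ, IsEmpty (↥(S : Subgroup G) ≃* QuaternionGroup (2 ^ (n + 1))))
    {M : Subgroup G} (hM : Cfsg.IsComponent M) (hu : ∀ N : Subgroup G, Cfsg.IsComponent N → N = M)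
    (hP : IsCyclic (Cfsg.pCore 2 G)) (hP1 : Cfsg.pCore 2 G ≠ ⊥) : False := by
  haveI : Fact (Nat.Prime 2) := ⟨Nat.prime_two⟩
  obtain ⟨z, hzP, hzz, hz1, hzc, hzu⟩ := exists_pCore_invol h hns hP1
  haveI := normal_of_unique hM hu
  haveI hPn : (Cfsg.pCore 2 G).Normal := (CfsgLib.Solvable.pCore_spec (G := G) 2).1
  obtain ⟨S, T, hST, hnc⟩ := hnC
  have C : Ctx z S := ⟨hzz, hz1, hzc, pCore_le S hzP, fun T d h1 h2 h3 h4 h5 =>
    (h.unique_of_ne hzz hz1 hzc hzP S T d h1 h2 h3 h4 h5).symm⟩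
  have hperf := Comp.component_perfect hM
  have hcentM : centralizer (M : Set G) = Cfsg.pCore 2 G := by
    refine le_antisymm (le_pCore Subgroup.normal_centralizer fun ⟨x, hx⟩ => ?_)
      fun p hp => mem_centralizer_iff.2 fun m hm => component_centralizes hO hM m hm p hp
    obtain ⟨k, hk⟩ := ComplType.isPGroup_mulAut_cyclic (F := Cfsg.pCore 2 G) pCore_pgroup
      (MulAut.conjNormal x)
    have hxk : x ^ 2 ^ k ∈ Cfsg.pCore 2 G := by
      refine centralizer_inf_le hO hM hu
        (fun m hm => mem_centralizer_iff.1 (pow_mem hx _) m hm) fun p hp => ?_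
      rw [← map_pow] at hk
      have h1 := congrArg Subtype.val (MulEquiv.congr_fun hk ⟨p, hp⟩)
      rw [MulAut.conjNormal_apply] at h1
      exact (mul_inv_eq_iff_eq_mul.1 h1).symm
    obtain ⟨j, hj⟩ := CentralMeet.exists_pow_of_mem pCore_pgroup hxk
    exact ⟨k + j, Subtype.ext (by
      show x ^ 2 ^ (k + j) = 1
      rw [pow_add, pow_mul, hj])⟩
  -- an involution other than `z`
  obtain ⟨d, hdS, hd, hd1, hdz⟩ : ∃ d ∈ (S : Subgroup G), d * d = 1 ∧ d ≠ 1 ∧ d ≠ z := by
    by_contra hno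
    push Not at hno
    have hu' : ∀ a b : (S : Subgroup G), orderOf a = 2 → orderOf b = 2 → b ∈ zpowers a := by
      intro a b ha hb
      rw [← Subgroup.orderOf_coe] at ha hb
      have key : ∀ c : (S : Subgroup G), orderOf (c : G) = 2 → (c : G) = z := fun c hc =>
        hno c c.2 (CentralRankOne.mul_self_of_order_two hc) (CentralRankOne.ne_one_of_order_two hc)
      rw [show b = a from Subtype.ext ((key b hb).trans (key a ha).symm)]
      exact mem_zpowers a
    rcases UniqueInvol.cyclic_or_quaternion S.2 hu' with hc | ⟨-, n, hn, ⟨e⟩⟩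
    · haveI := hc
      exact hnc (isCyclic_of_injective (Subgroup.inclusion inf_le_left)
        (Subgroup.inclusion_injective (inf_le_left : (S : Subgroup G) ⊓ (T : Subgroup G) ≤ S)))
    · obtain ⟨m, rfl⟩ : ∃ m, n = m + 1 := ⟨n - 1, by omega⟩
      exact (hnQ S m).false e
  -- a normal four group
  obtain ⟨t, htS, htt, ht1, htz, htconj⟩ : ∃ t ∈ (S : Subgroup G), t * t = 1 ∧ t ≠ 1 ∧ t ≠ z ∧
      ∀ s ∈ (S : Subgroup G), s * t * s⁻¹ = t ∨ s * t * s⁻¹ = t * z := by
    refine (exists_normal_four hO (CentralRankOne.orderOf_two hzz hz1) hzc hzP hP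
      (fun S T d => h.unique_of_ne hzz hz1 hzc hzP S T d) S hdS hd hd1 hdz).resolve_right fun hc => ?_
    obtain ⟨Q, hQ⟩ := PushL2.exists_sylow_inf M S
    haveI := hc
    refine Comp.component_not_solvable hM (GWApps.isSolvable_of_cyclic_sylow Q ?_)
    let f : (Q : Subgroup M) →* ↥((S : Subgroup G) ⊓ centralizer (Cfsg.pCore 2 G : Set G)) :=
      (M.subtype.comp (Q : Subgroup M).subtype).codRestrict _ fun q =>
        ⟨hQ.le q.2, mem_centralizer_iff.2 fun p hp =>
          (component_centralizes hO hM _ q.1.2 p hp).symm⟩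
    exact isCyclic_of_injective f fun a b e => Subtype.ext (Subtype.ext
      (congrArg (fun w : ↥((S : Subgroup G) ⊓ centralizer (Cfsg.pCore 2 G : Set G)) => (w : G)) e))
  set π := QuotientGroup.mk' (centralizer (M : Set G)) with hπ
  have hker : ∀ g : G, π g = 1 ↔ g ∈ Cfsg.pCore 2 G := fun g => by
    rw [← MonoidHom.mem_ker, QuotientGroup.ker_mk', hcentM]
  have hPS := pCore_le (G := G) S
  have hπS : ∀ {g s : G}, π g = π s → s ∈ (S : Subgroup G) → g ∈ (S : Subgroup G) :=
    fun {g s} e hs => by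
      have h1 := mul_mem hs (hPS ((hker (s⁻¹ * g)).1 (by rw [map_mul, map_inv, e, inv_mul_cancel])))
      rwa [mul_inv_cancel_left] at h1
  set H := (normalizer ((S : Subgroup G) : Set G)).map π
  have hH : ∀ {g : G}, π g ∈ H → g ∈ normalizer ((S : Subgroup G) : Set G) := by
    rintro g ⟨n, hn, e⟩
    have h1 := mul_mem hn (le_normalizer (hPS
      ((hker (n⁻¹ * g)).1 (by rw [map_mul, map_inv, e, inv_mul_cancel]))))
    rwa [mul_inv_cancel_left] at h1
  have ht : π t ≠ 1 := fun e => htz (hzu t ((hker t).1 e) htt ht1)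
  have hmov : ∀ {n : G}, n * t * n⁻¹ ∈ (S : Subgroup G) →
      n ∈ normalizer ((S : Subgroup G) : Set G) := fun {n} hn => C.move htt ht1 htz htS hn
  haveI := hM.2.2
  haveI : IsSimpleGroup (socle M) := (socleEquiv M).symm.isSimpleGroup
  by_cases hbad : ∃ r, Pair z S t r ∧ ∀ p ∈ Cfsg.pCore 2 G, p = 1 ∨ p = z
  · obtain ⟨r, P, hPz⟩ := hbad
    by_cases hF : Four z S r
    · exact C.quaternion_false hzP hPz hM hcentM P hF
    · exact C.alpha_false hO hzP hPz P hF
  -- no bad pair: a strongly embedded subgroup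
  obtain ⟨htX, hse, -⟩ := se_socle (socle M) (centralizer_socle M hperf) (H := H)
    (fun hle => Comp.component_not_solvable hM
      (isSolvable_of_le_normalizer (S := S) fun m hm => hH (hle ⟨m, hm, rfl⟩)))
    (z := π t) (CentralRankOne.orderOf_two (by rw [← map_mul, htt, map_one]) ht)
    (mem_map_of_mem π (le_normalizer htS))
    ⟨S.mapSurjective (QuotientGroup.mk'_surjective _), mem_map_of_mem π htS, by
      rintro _ ⟨s, hs, rfl⟩
      refine mul_inv_eq_iff_eq_mul.1 ?_
      rw [← map_inv, ← map_mul, ← map_mul]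
      rcases htconj s hs with e | e <;> rw [e]
      rw [map_mul, (hker z).2 hzP, mul_one]⟩
    (fun g' hg' => by
      obtain ⟨g, rfl⟩ := QuotientGroup.mk'_surjective _ g'
      rw [← map_inv, ← map_mul, ← map_mul] at hg'
      refine mem_map_of_mem π (hmov (CentralRankOne.invol_mem ?_ (hH hg')))
      rw [conj_mul_self, htt, mul_one, mul_inv_cancel])
    (fun g' hcomm hne => by
      obtain ⟨g, rfl⟩ := QuotientGroup.mk'_surjective _ g'
      rw [← map_inv, ← map_mul, ← map_mul] at hcomm hne ⊢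
      rw [← map_mul π t]
      set y := g * t * g⁻¹ with hy
      have hyy : y * y = 1 := by rw [hy, conj_mul_self, htt, mul_one, mul_inv_cancel]
      have hyS : y ∈ (S : Subgroup G) := by
        refine CentralRankOne.invol_mem hyy (hmov (hπS (s := t) ?_ htS))
        rw [map_mul, map_mul, map_inv, ← hcomm.eq, mul_inv_cancel_right]
      have hgN : g ∈ normalizer ((S : Subgroup G) : Set G) := hmov hyS
      have hyconj : ∀ s ∈ (S : Subgroup G), s * y * s⁻¹ = y ∨ s * y * s⁻¹ = y * z := by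
        intro s hs
        rw [show s * y * s⁻¹ = g * ((g⁻¹ * s * g) * t * (g⁻¹ * s * g)⁻¹) * g⁻¹ by rw [hy]; group]
        rcases htconj _ ((mem_normalizer_iff''.1 hgN s).1 hs) with e | e <;> rw [e]
        · exact Or.inl rfl
        · right
          rw [show g * (t * z) * g⁻¹ = (g * t * g⁻¹) * (g * z * g⁻¹) by group, C.conj_z]
      set r := t * y with hr
      have hrS : r ∈ (S : Subgroup G) := mul_mem htS hyS
      have hr1 : π r ≠ 1 := fun e => hne (by
        rw [hr, map_mul] at e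
        rw [eq_inv_of_mul_eq_one_right e]
        exact inv_eq_of_mul_eq_one_right (by rw [← map_mul, htt, map_one]))
      intro h' hh'
      obtain ⟨k, rfl⟩ := QuotientGroup.mk'_surjective _ h'
      have hk : π k * π r = π r * π k := mem_centralizer_singleton_iff.1 hh'
      refine mem_map_of_mem π ?_
      by_cases hinv : ∃ e, e * e = 1 ∧ π e = π r
      · obtain ⟨e, hee, her⟩ := hinv
        refine C.move hee (fun h1 => hr1 (by rw [← her, h1, map_one]))
          (fun h1 => hr1 (by rw [← her, h1, (hker z).2 hzP])) (hπS her hrS) (hπS (s := r) ?_ hrS)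
        rw [map_mul, map_mul, map_inv, her, hk, mul_inv_cancel_right]
      push Not at hinv
      have hrr' : r * r = (t * y * t⁻¹) * y := by
        rw [hr, inv_eq_of_mul_eq_one_right htt, ← mul_assoc]
      have hty : t * y * t⁻¹ = y * z := (hyconj t htS).resolve_left fun e => hinv r (by
        rw [hrr', e, hyy]) rfl
      have hrr : r * r = z := by rw [hrr', hty, C.mul_z_mul, hyy, one_mul]
      -- the 2-core has order two
      have hPc : ∀ a ∈ Cfsg.pCore 2 G, ∀ b ∈ Cfsg.pCore 2 G, a * b = b * a := fun a ha b hb => by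
        haveI := hP
        exact congrArg Subtype.val
          ((IsCyclic.commutative : IsMulCommutative (Cfsg.pCore 2 G)).is_comm.comm ⟨a, ha⟩ ⟨b, hb⟩)
      have hno4 : ∀ v ∈ Cfsg.pCore 2 G, v * v ≠ z := by
        intro v hv hvv
        have hcl : ∀ u : G, u * v * u⁻¹ = v ∨ u * v * u⁻¹ = v * z := by
          intro u
          have hv' : u * v * u⁻¹ ∈ Cfsg.pCore 2 G := hPn.conj_mem v hv u
          have hq : (v⁻¹ * (u * v * u⁻¹)) * (v⁻¹ * (u * v * u⁻¹)) = 1 := by
            rw [(show Commute (u * v * u⁻¹) v⁻¹ from hPc _ hv' _ (inv_mem hv)).mul_mul_mul_comm,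
              conj_mul_self, hvv, C.conj_z, ← mul_inv_rev, hvv, inv_mul_cancel]
          by_cases h1 : v⁻¹ * (u * v * u⁻¹) = 1
          · exact Or.inl (inv_mul_eq_one.1 h1).symm
          · exact Or.inr (inv_mul_eq_iff_eq_mul.1 (hzu _ (mul_mem (inv_mem hv) hv') hq h1))
        obtain ⟨e, he, htv⟩ : ∃ e, (e = 1 ∨ e = z) ∧ t * v * t⁻¹ = v * e := by
          rcases hcl t with e | e
          · exact ⟨1, Or.inl rfl, by rw [e, mul_one]⟩
          · exact ⟨z, Or.inr rfl, e⟩
        have hec : ∀ u, u * e = e * u := fun u => C.of_zero_or_z he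
        have hee : e * e = 1 := by rcases he with h | h <;> rw [h]; exacts [one_mul 1, hzz]
        have hce : ∀ u : G, u * e * u⁻¹ = e := fun u => by rw [hec, mul_inv_cancel_right]
        have hyv : y * v * y⁻¹ = v * e := by
          have h1 : t * (g⁻¹ * v * g) * t⁻¹ = g⁻¹ * v * g * e := by
            rcases hcl g⁻¹ with e1 | e1 <;> rw [inv_inv] at e1 <;> rw [e1]
            · exact htv
            · rw [show t * (v * z) * t⁻¹ = (t * v * t⁻¹) * (t * z * t⁻¹) by group, htv, C.conj_z,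
                mul_assoc, ← hec z, ← mul_assoc]
          rw [show y * v * y⁻¹ = g * (t * (g⁻¹ * v * g) * t⁻¹) * g⁻¹ by rw [hy]; group, h1,
            show g * (g⁻¹ * v * g * e) * g⁻¹ = v * (g * e * g⁻¹) by group, hce]
        have hrv : r * v * r⁻¹ = v := by
          rw [show r * v * r⁻¹ = t * (y * v * y⁻¹) * t⁻¹ by rw [hr]; group, hyv,
            show t * (v * e) * t⁻¹ = (t * v * t⁻¹) * (t * e * t⁻¹) by group, htv, hce, mul_assoc,
            hee, mul_one]
        refine hinv (r * v) ?_ (by rw [map_mul, (hker v).2 hv, mul_one])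
        rw [(show Commute v r from (mul_inv_eq_iff_eq_mul.1 hrv).symm).mul_mul_mul_comm, hrr, hvv,
          hzz]
      have hPz : ∀ p ∈ Cfsg.pCore 2 G, p = 1 ∨ p = z := by
        have key : ∀ (i : ℕ) (p : G), p ∈ Cfsg.pCore 2 G → p ^ 2 ^ i = 1 → p = 1 ∨ p = z := by
          intro i
          induction i with
          | zero => intro p _ hp; exact Or.inl (by simpa using hp)
          | succ i ih =>
            intro p hp hpi
            rcases ih (p * p) (mul_mem hp hp) (by rw [← sq, ← pow_mul, ← pow_succ']; exact hpi)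
              with e | e
            · by_cases h1 : p = 1
              · exact Or.inl h1
              · exact Or.inr (hzu p hp e h1)
            · exact absurd e (hno4 p hp)
        intro p hp
        obtain ⟨i, hi⟩ := CentralMeet.exists_pow_of_mem pCore_pgroup hp
        exact key i p hp hi
      by_contra hkN
      refine hbad ⟨r, ⟨htS, htt, htconj, hrS, hrr, fun s hs => ?_, ?_, ?_⟩, hPz⟩
      · rw [show s * r * s⁻¹ = (s * t * s⁻¹) * (s * y * s⁻¹) by rw [hr]; group]
        rcases htconj s hs with e | e <;> rcases hyconj s hs with e' | e' <;> rw [e, e', hr]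
        · exact Or.inl rfl
        · exact Or.inr (mul_assoc t y z).symm
        · exact Or.inr (C.mul_z_mul t y)
        · refine Or.inl ?_
          rw [C.mul_z_mul, ← mul_assoc, mul_assoc _ z z, C.zz, mul_one]
      · rw [show t * r * t⁻¹ = t * (t * y * t⁻¹) by rw [hr]; group, hty, hr]
        exact (mul_assoc t y z).symm
      · have e : π (k * r * k⁻¹) = π r := by
          rw [map_mul, map_mul, map_inv, hk, mul_inv_cancel_right]
        rcases hPz _ ((hker (r⁻¹ * (k * r * k⁻¹))).1 (by rw [map_mul, map_inv, e, inv_mul_cancel]))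
          with h1 | h1
        · exact ⟨k, mul_inv_eq_iff_eq_mul.1 (inv_mul_eq_one.1 h1).symm, hkN⟩
        · refine ⟨k * t, mul_inv_eq_iff_eq_mul.1 ?_, fun h2 => hkN ?_⟩
          · rw [show k * t * r * (k * t)⁻¹ = k * (t * r * t⁻¹) * k⁻¹ by group,
              show t * r * t⁻¹ = t * (t * y * t⁻¹) by rw [hr]; group, hty, ← mul_assoc t y z, ← hr,
              show k * (r * z) * k⁻¹ = (k * r * k⁻¹) * (k * z * k⁻¹) by group, C.conj_z,
              inv_mul_eq_iff_eq_mul.1 h1, mul_assoc, C.zz, mul_one]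
          · have h3 := mul_mem h2 (le_normalizer (inv_mem htS))
            rwa [mul_inv_cancel_right] at h3)
  have hR : CentralMeet.RankOne (socle M) := rankOne_of_se hse
  have hti : TI (socle M) := fun A B hAB => inf_eq_bot hR hAB
  have hodd := odd_index_sup M hM.2 hperf (hti.congr (socleEquiv M).symm) S
    (fun x _ hx => hPS (hcentM ▸ mem_centralizer_iff.2 fun m hm => hx m hm))
    (fun m hm hmS => by
      obtain ⟨m₀, hm₀, e⟩ := htX
      have hp : m₀⁻¹ * t ∈ Cfsg.pCore 2 G := (hker _).1 (by rw [map_mul, map_inv, e, inv_mul_cancel])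
      have hm₀S : m₀ ∈ (S : Subgroup G) := hπS e htS
      refine hmov ?_
      rw [show m * t * m⁻¹ = (m * m₀ * m⁻¹) * (m * (m₀⁻¹ * t) * m⁻¹) by group,
        component_centralizes hO hM m hm _ hp, mul_inv_cancel_right]
      exact mul_mem (hmS m₀ ⟨hm₀S, hm₀⟩).1 (hPS hp))
  have hle : ∀ (R : Sylow 2 G), ∀ x ∈ (R : Subgroup G), π x ∈ socle M := by
    intro R x hx
    obtain ⟨i, hi⟩ := CentralMeet.exists_pow_of_mem R.2 hx
    have h1 : x ∈ M ⊔ centralizer (M : Set G) := by
      refine (QuotientGroup.eq_one_iff x).1 ?_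
      refine Consumers.eq_one_of_two_of_odd ?_ (i := i)
        (by rw [← QuotientGroup.mk_pow, hi, QuotientGroup.mk_one])
      exact (((M ⊔ centralizer (M : Set G))).index_eq_card ▸ hodd).of_dvd_nat
        (_root_.orderOf_dvd_natCard _)
    obtain ⟨m, hm, c, hc, rfl⟩ := mem_sup_of_normal_left.1 h1
    exact ⟨m, hm, by rw [map_mul, (hker c).2 (hcentM ▸ hc), mul_one]⟩
  let Sb := S.mapSurjective (f := π) (QuotientGroup.mk'_surjective _)
  let Tb := T.mapSurjective (f := π) (QuotientGroup.mk'_surjective _)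
  have hSX : (Sb : Subgroup _) ≤ socle M := by rintro _ ⟨s, hs, rfl⟩; exact hle S s hs
  have hTX : (Tb : Subgroup _) ≤ socle M := by rintro _ ⟨s, hs, rfl⟩; exact hle T s hs
  have hne : Sb.subtype hSX ≠ Tb.subtype hTX := fun e => hST (Sylow.ext
    (S.3 T.2 fun s hs => ?_)).symm
  swap
  · have h1 : (⟨π s, hle S s hs⟩ : socle M) ∈ (Sb.subtype hSX : Subgroup (socle M)) :=
      mem_map_of_mem π hs
    rw [e] at h1
    obtain ⟨s', hs', e'⟩ := (h1 : π s ∈ (Tb : Subgroup _))
    have h2 := mul_mem hs' (pCore_le T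
      ((hker (s'⁻¹ * s)).1 (by rw [map_mul, map_inv, show π s' = π s from e', inv_mul_cancel])))
    rwa [mul_inv_cancel_left] at h2
  refine hnc ?_
  have hST' : (S : Subgroup G) ⊓ (T : Subgroup G) ≤ Cfsg.pCore 2 G := fun x hx => (hker x).1 (by
    have h1 : (⟨π x, hle S x hx.1⟩ : socle M) ∈
        (Sb.subtype hSX : Subgroup (socle M)) ⊓ (Tb.subtype hTX : Subgroup (socle M)) :=
      ⟨mem_map_of_mem π hx.1, mem_map_of_mem π hx.2⟩
    rw [inf_eq_bot hR hne, mem_bot] at h1
    exact congrArg Subtype.val h1)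
  haveI := hP
  exact isCyclic_of_injective (Subgroup.inclusion hST') (Subgroup.inclusion_injective hST')

end CfsgLib.RankOneMeet
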