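import Cfsg.Agent.RankOneMeet.Simple

/-!
# Quasisimple normal subgroups whose central quotient has trivial Sylow intersections
-/

set_option autoImplicit false
set_option linter.unusedSectionVars false
set_option linter.style.haveILetI false

namespace CfsgLib.RankOneMeet

open Subgroup
open scoped commutatorElement
open CfsgLib.CentralRankOne (Meets Kind omegaCenter)
open CfsgLib.CentralMeet (RankOne)

universe u

/-- Distinct Sylow 2-subgroups meet trivially. -/
def TI (X : Type u) [Group X] : Prop :=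
  ∀ S T : Sylow 2 X, S ≠ T → (S : Subgroup X) ⊓ (T : Subgroup X) = ⊥

section Simple

variable {X : Type u} [Group X] [Finite X]

theorem TI.eq (h : TI X) {S T : Sylow 2 X} {x : X} (hS : x ∈ (S : Subgroup X))
    (hT : x ∈ (T : Subgroup X)) (hx : x ≠ 1) : S = T := by
  by_contra hne
  exact hx (mem_bot.1 (h S T hne ▸ ⟨hS, hT⟩))

/-- An element moving a nontrivial element of `S` into `S` normalizes `S`. -/
theorem TI.mem_normalizer (h : TI X) {S : Sylow 2 X} {x n : X} (hS : x ∈ (S : Subgroup X))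
    (hn : n * x * n⁻¹ ∈ (S : Subgroup X)) (hx : x ≠ 1) :
    n ∈ normalizer ((S : Subgroup X) : Set X) := by
  have e := h.eq (S := S) (T := n⁻¹ • S) hS (by
    rw [Sylow.coe_subgroup_smul]
    exact ⟨_, hn, by show n⁻¹ * (n * x * n⁻¹) * n⁻¹⁻¹ = x; group⟩) hx
  simpa using inv_mem (Sylow.smul_eq_iff_mem_normalizer.1 e.symm)

/-- A simple group with trivial Sylow intersections is one of the three. -/
theorem TI.data [IsSimpleGroup X] (h : TI X) (hG : ¬ IsMulCommutative X) :
    RankOne X ∧ Bender.Consumers.Three X ∧ Kind X := by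
  haveI : Fact (Nat.Prime 2) := ⟨Nat.prime_two⟩
  obtain ⟨S⟩ : Nonempty (Sylow 2 X) := inferInstance
  have h2 : 2 ∣ Nat.card X :=
    even_iff_two_dvd.1 (Nat.not_odd_iff_even.1 (CentralRankOne.even_of_simple hG))
  have hse : Cfsg.IsStronglyEmbedded (normalizer ((S : Subgroup X) : Set X)) := by
    refine ⟨CentralRankOne.normalizer_sylow_ne_top hG S,
      even_iff_two_dvd.2 ((S.dvd_card_of_dvd_card h2).trans (card_dvd_of_le le_normalizer)),
      fun g hg => ?_⟩
    by_contra hev
    obtain ⟨i, hi⟩ := exists_prime_orderOf_dvd_card'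
      (G := ↥(normalizer ((S : Subgroup X) : Set X) ⊓
        (normalizer ((S : Subgroup X) : Set X)).map (MulAut.conj g).toMonoidHom)) 2
      (even_iff_two_dvd.1 (Nat.not_odd_iff_even.1 hev))
    rw [← Subgroup.orderOf_coe] at hi
    have hii := CentralRankOne.mul_self_of_order_two hi
    have h1 := CentralRankOne.invol_mem hii (mem_inf.1 i.2).1
    obtain ⟨y, hy, hye⟩ := (mem_inf.1 i.2).2
    change g * y * g⁻¹ = (i : X) at hye
    have hyy : y * y = 1 := by
      have : g * (y * y) * g⁻¹ = 1 := by rw [← hii, ← hye]; group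
      exact mul_left_cancel ((mul_inv_eq_one.1 this).trans (mul_one g).symm)
    exact hg (h.mem_normalizer (CentralRankOne.invol_mem hyy hy) (n := g) (hye ▸ h1) fun e => by
      rw [e, mul_one, mul_inv_cancel] at hye
      exact CentralRankOne.ne_one_of_order_two hi hye.symm)
  have hM : Meets X := fun A B hAB _ _ _ => by
    intro D _ _
    haveI : Subsingleton ↥((A : Subgroup X) ⊓ (B : Subgroup X)) := ⟨fun a b => Subtype.ext
      ((mem_bot.1 (h A B hAB ▸ a.2)).trans (mem_bot.1 (h A B hAB ▸ b.2)).symm)⟩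
    haveI : Unique D := uniqueOfSubsingleton ⟨1, one_mem D⟩
    rw [Nat.card_unique]
    norm_num
  have h3 := Bender.Consumers.three_of_simple Bender.Consumers.structure_all hse
  exact ⟨rankOne_of_se hse, h3, CentralRankOne.kind_of_three hM hse h3 hG⟩

end Simple

section Quotient

variable {M : Type u} [Group M] [Finite M]

/-- Trivial intersections in the central quotient. -/
theorem ti_quotient_center (hZ : IsPGroup 2 (center M))
    (h : ∀ (R₁ R₂ : Sylow 2 M) (x : M), x ∈ (R₁ : Subgroup M) → x ∈ (R₂ : Subgroup M) →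
      x ∉ center M → x * x ∈ center M → R₁ = R₂) : TI (M ⧸ center M) := by
  haveI : Fact (Nat.Prime 2) := ⟨Nat.prime_two⟩
  intro A B hAB
  obtain ⟨R₁, rfl⟩ := Sylow.mapSurjective_surjective (QuotientGroup.mk'_surjective _) 2 A
  obtain ⟨R₂, rfl⟩ := Sylow.mapSurjective_surjective (QuotientGroup.mk'_surjective _) 2 B
  by_contra hne
  haveI : Nontrivial ↥((R₁.mapSurjective (QuotientGroup.mk'_surjective (center M)) : Subgroup (M ⧸ center M)) ⊓
      (R₂.mapSurjective (QuotientGroup.mk'_surjective (center M)) : Subgroup (M ⧸ center M))) :=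
    (Subgroup.nontrivial_iff_ne_bot _).2 hne
  obtain ⟨y, hy⟩ := exists_prime_orderOf_dvd_card' (G := ↥((R₁.mapSurjective
      (QuotientGroup.mk'_surjective (center M)) : Subgroup (M ⧸ center M)) ⊓
      (R₂.mapSurjective (QuotientGroup.mk'_surjective (center M)) : Subgroup (M ⧸ center M)))) 2
    ((((R₁.mapSurjective (QuotientGroup.mk'_surjective (center M))).2.to_le
      inf_le_left).card_eq_or_dvd).resolve_left Finite.one_lt_card.ne')
  rw [← Subgroup.orderOf_coe] at hy
  obtain ⟨r, hr, er⟩ := (mem_inf.1 y.2).1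
  obtain ⟨r', hr', er'⟩ := (mem_inf.1 y.2).2
  have hrR₂ : r ∈ (R₂ : Subgroup M) := by
    have h1 : r'⁻¹ * r ∈ center M := QuotientGroup.eq.1 (er'.trans er.symm)
    have h2 := mul_mem hr' (IsPGroup.le_sylow_of_normal hZ R₂ h1)
    rwa [mul_inv_cancel_left] at h2
  refine hAB (congrArg (fun R : Sylow 2 M => R.mapSurjective (QuotientGroup.mk'_surjective (center M)))
    (h R₁ R₂ r hr hrR₂ (fun hc => CentralRankOne.ne_one_of_order_two hy ?_) ?_))
  · rw [← er]
    exact (QuotientGroup.eq_one_iff r).2 hc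
  · refine (QuotientGroup.eq_one_iff _).1 ?_
    show QuotientGroup.mk' (center M) (r * r) = 1
    rw [map_mul, er]
    exact CentralRankOne.mul_self_of_order_two hy

end Quotient

section Ambient

variable {G : Type u} [Group G] [Finite G]

/-- An element centralizing a perfect subgroup modulo its centre centralizes it. -/
theorem commute_of_perfect {M : Subgroup G} (hM : ⁅M, M⁆ = M) {x : G}
    (h : ∀ m ∈ M, x * m * x⁻¹ * m⁻¹ ∈ M ∧ ∀ m' ∈ M, m' * (x * m * x⁻¹ * m⁻¹) = x * m * x⁻¹ * m⁻¹ * m') :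
    ∀ m ∈ M, m * x = x * m := by
  intro m hm
  have key : ∀ a ∈ M, ∀ b ∈ M, x * ⁅a, b⁆ * x⁻¹ = ⁅a, b⁆ := by
    intro a ha b hb
    obtain ⟨ua, hua, ea⟩ : ∃ u, (∀ m' ∈ M, m' * u = u * m') ∧ x * a * x⁻¹ = u * a :=
      ⟨_, (h a ha).2, by group⟩
    obtain ⟨ub, hub, eb⟩ : ∃ u, (∀ m' ∈ M, m' * u = u * m') ∧ x * b * x⁻¹ = u * b :=
      ⟨_, (h b hb).2, by group⟩
    have hubM : ub ∈ M := by
      have h1 := (h b hb).1
      rwa [eb, mul_inv_cancel_right] at h1
    have hc1 : Commute ua (b * a⁻¹) := (hua _ (mul_mem hb (inv_mem ha))).symm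
    have hc2 : Commute ua ub := (hua _ hubM).symm
    have hc3 : Commute ub a⁻¹ := (hub _ (inv_mem ha)).symm
    have hc4 : Commute ub a := (hub _ ha).symm
    rw [show x * ⁅a, b⁆ * x⁻¹ = ⁅x * a * x⁻¹, x * b * x⁻¹⁆ by
      simp only [commutatorElement_def]; group, ea, eb]
    simp only [commutatorElement_def, mul_inv_rev]
    calc ua * a * (ub * b) * (a⁻¹ * ua⁻¹) * (b⁻¹ * ub⁻¹)
        = ua * (a * ub) * (b * a⁻¹) * ua⁻¹ * b⁻¹ * ub⁻¹ := by group
      _ = ua * (ub * a) * (b * a⁻¹) * ua⁻¹ * b⁻¹ * ub⁻¹ := by rw [hc4.eq]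
      _ = ua * ub * a * ((b * a⁻¹) * ua⁻¹) * b⁻¹ * ub⁻¹ := by group
      _ = ua * ub * a * (ua⁻¹ * (b * a⁻¹)) * b⁻¹ * ub⁻¹ := by rw [hc1.inv_left.eq]
      _ = ua * ub * (a * ua⁻¹) * (b * a⁻¹ * b⁻¹) * ub⁻¹ := by group
      _ = ua * ub * (ua⁻¹ * a) * (b * a⁻¹ * b⁻¹) * ub⁻¹ := by
        rw [(show Commute a ua⁻¹ from (show Commute a ua from hua a ha).inv_right).eq]
      _ = ua * (ub * ua⁻¹) * (a * b * a⁻¹ * b⁻¹) * ub⁻¹ := by group
      _ = ua * (ua⁻¹ * ub) * (a * b * a⁻¹ * b⁻¹) * ub⁻¹ := by rw [hc2.inv_left.eq]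
      _ = ub * (a * b * a⁻¹ * b⁻¹) * ub⁻¹ := by group
      _ = a * b * a⁻¹ * b⁻¹ := by
        rw [← hub _ (mul_mem (mul_mem (mul_mem ha hb) (inv_mem ha)) (inv_mem hb)),
          mul_inv_cancel_right]
  have hle : ⁅M, M⁆ ≤ centralizer ({x} : Set G) := by
    rw [commutator_le]
    intro a ha b hb
    exact mem_centralizer_singleton_iff.2 (mul_inv_eq_iff_eq_mul.1 (key a ha b hb)).symm
  rw [hM] at hle
  exact mem_centralizer_singleton_iff.1 (hle hm)

variable (M : Subgroup G) [M.Normal]

/-- The image of `M` modulo its centralizer. -/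
def socle : Subgroup (G ⧸ centralizer (M : Set G)) :=
  M.map (QuotientGroup.mk' (centralizer (M : Set G)))

instance socle_normal : (socle M).Normal :=
  Normal.map inferInstance _ (QuotientGroup.mk'_surjective _)

/-- The map from `M` onto its image. -/
def toSocle : M →* socle M := (QuotientGroup.mk' (centralizer (M : Set G))).subgroupMap M

theorem toSocle_surjective : Function.Surjective (toSocle M) :=
  (QuotientGroup.mk' (centralizer (M : Set G))).subgroupMap_surjective M

theorem toSocle_ker : (toSocle M).ker = center M := by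
  ext m
  rw [MonoidHom.mem_ker, mem_center_iff]
  refine ⟨fun e m' => Subtype.ext ?_, fun e => Subtype.ext ((QuotientGroup.eq_one_iff (m : G)).2 ?_)⟩
  · exact mem_centralizer_iff.1 ((QuotientGroup.eq_one_iff (m : G)).1 (congrArg Subtype.val e)) _ m'.2
  · exact mem_centralizer_iff.2 fun g hg => congrArg Subtype.val (e ⟨g, hg⟩)

/-- The image is the central quotient. -/
noncomputable def socleEquiv : M ⧸ center M ≃* socle M :=
  (QuotientGroup.quotientMulEquivOfEq (toSocle_ker M).symm).trans
    (QuotientGroup.quotientKerEquivOfSurjective _ (toSocle_surjective M))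

theorem centralizer_socle (hperf : ⁅M, M⁆ = M) :
    centralizer ((socle M : Subgroup _) : Set (G ⧸ centralizer (M : Set G))) = ⊥ := by
  refine (eq_bot_iff_forall _).2 fun y hy => ?_
  obtain ⟨x, rfl⟩ := QuotientGroup.mk'_surjective _ y
  refine (QuotientGroup.eq_one_iff x).2 (mem_centralizer_iff.2 (commute_of_perfect hperf fun m hm => ?_))
  have h1 := mem_centralizer_iff.1 hy _ (mem_map_of_mem _ hm)
  have h2 : QuotientGroup.mk' (centralizer (M : Set G)) (x * m * x⁻¹ * m⁻¹) = 1 := by
    rw [map_mul, map_mul, map_mul, map_inv, map_inv, ← h1, mul_inv_cancel_right, mul_inv_cancel]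
  exact ⟨mul_mem ((inferInstance : M.Normal).conj_mem m hm x) (inv_mem hm),
    mem_centralizer_iff.1 ((QuotientGroup.eq_one_iff _).1 h2)⟩

theorem TI.congr {X Y : Type u} [Group X] [Group Y] [Finite X] [Finite Y] (h : TI X) (e : X ≃* Y) :
    TI Y := by
  haveI : Fact (Nat.Prime 2) := ⟨Nat.prime_two⟩
  intro S T hST
  obtain ⟨S, rfl⟩ := Sylow.mapSurjective_surjective (f := e.toMonoidHom) e.surjective 2 S
  obtain ⟨T, rfl⟩ := Sylow.mapSurjective_surjective (f := e.toMonoidHom) e.surjective 2 T
  show (S : Subgroup X).map e.toMonoidHom ⊓ (T : Subgroup X).map e.toMonoidHom = ⊥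
  rw [← Subgroup.map_inf _ _ _ e.injective, h S T (fun he => hST (by rw [he])), Subgroup.map_bot]

/-- The Sylow subgroup of the image and its elements moving involutions into it. -/
theorem odd_index_sup (hM : Cfsg.IsQuasisimple M) (hperf : ⁅M, M⁆ = M) (hti : TI (M ⧸ center M))
    (S : Sylow 2 G) (hZS : ∀ x ∈ M, (∀ m ∈ M, m * x = x * m) → x ∈ (S : Subgroup G))
    (hmove : ∀ m ∈ M, (∀ x ∈ (S : Subgroup G) ⊓ M, m * x * m⁻¹ ∈ (S : Subgroup G) ⊓ M) →
      m ∈ normalizer ((S : Subgroup G) : Set G)) :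
    Odd (M ⊔ centralizer (M : Set G)).index := by
  haveI : Fact (Nat.Prime 2) := ⟨Nat.prime_two⟩
  set C := centralizer (M : Set G) with hC
  set π := QuotientGroup.mk' C with hπ
  haveI := hM.2
  haveI : IsSimpleGroup (socle M) := (socleEquiv M).symm.isSimpleGroup
  have hG : ¬ IsMulCommutative (M ⧸ center M) := fun hc => Comp.quasisimple_not_solvable hM (by
    letI : CommGroup (M ⧸ center M) :=
      { (inferInstance : Group (M ⧸ center M)) with mul_comm := hc.is_comm.comm }
    haveI : Group.IsSolvable (M ⧸ center M) := inferInstance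
    haveI : Group.IsSolvable (center M) := by
      letI : CommGroup (center M) :=
        { (inferInstance : Group (center M)) with mul_comm := fun a b => Subtype.ext (mem_center_iff.1 b.2 a) }
      infer_instance
    exact (Group.isSolvable_iff_subgroup_quotient (center M)).2 ⟨inferInstance, inferInstance⟩)
  have hG' : ¬ IsMulCommutative (socle M) := fun hc => hG
    ⟨⟨fun a b => (socleEquiv M).injective (by rw [map_mul, map_mul]; exact hc.is_comm.comm _ _)⟩⟩
  have hti' := hti.congr (socleEquiv M)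
  let S' := S.mapSurjective (f := π) (QuotientGroup.mk'_surjective C)
  have h1 := odd_index_of_kind (socle M) (centralizer_socle M hperf) (hti'.data hG').2.2 S'
    fun P hPS n hn ⟨a, ha, b, hb, ha1, hb1, hab⟩ => by
      have hnP : n ∈ normalizer ((P : Subgroup (socle M)) : Set (socle M)) :=
        hti'.mem_normalizer ha.1 (hn a ha) ha1
      obtain ⟨m, rfl⟩ := toSocle_surjective M n
      -- the Sylow subgroup below
      obtain ⟨Q, hQ⟩ := PushL2.exists_sylow_inf M S
      have hQP : Q.mapSurjective (toSocle_surjective M) = P := by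
        refine Sylow.ext (((Q.mapSurjective (toSocle_surjective M)).3 ?_ ?_).symm)
        · exact (S'.2.comap_subtype : IsPGroup 2 ((S' : Subgroup _).subgroupOf (socle M))).to_le
            fun x hx => hPS x hx
        · rintro _ ⟨q, hq, rfl⟩
          have hcomap : ((S' : Subgroup _).subgroupOf (socle M)) = (P : Subgroup (socle M)) :=
            P.3 S'.2.comap_subtype fun x hx => hPS x hx
          rw [← hcomap]
          exact ⟨q, by rw [hQ] at hq; exact hq, rfl⟩
      have hmem : ∀ x : M, toSocle M x ∈ (P : Subgroup (socle M)) ↔ (x : G) ∈ (S : Subgroup G) := by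
        intro x
        rw [← hQP]
        constructor
        · rintro ⟨q, hq, e⟩
          rw [hQ] at hq
          have h2 : q⁻¹ * x ∈ (toSocle M).ker := by
            rw [MonoidHom.mem_ker, map_mul, map_inv, e, inv_mul_cancel]
          rw [toSocle_ker] at h2
          have h3 := mul_mem (show (q : G) ∈ (S : Subgroup G) from hq)
            (hZS _ (q⁻¹ * x).2 fun g hg => congrArg Subtype.val (mem_center_iff.1 h2 ⟨g, hg⟩))
          simpa using h3
        · exact fun hx => ⟨x, by rw [hQ]; exact hx, rfl⟩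
      refine (mem_normalizer_iff.2 fun y => ?_)
      have hmN : (m : G) ∈ normalizer ((S : Subgroup G) : Set G) := hmove m m.2 fun x hx => by
        refine ⟨?_, M.mul_mem (M.mul_mem m.2 hx.2) (M.inv_mem m.2)⟩
        have h4 := (mem_normalizer_iff.1 hnP (toSocle M ⟨x, hx.2⟩)).1 ((hmem ⟨x, hx.2⟩).2 hx.1)
        rw [← map_inv, ← map_mul, ← map_mul] at h4
        exact (hmem _).1 h4
      constructor
      · rintro ⟨s, hs, rfl⟩
        exact ⟨(m : G) * s * (m : G)⁻¹, (mem_normalizer_iff.1 hmN s).1 hs, by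
          rw [map_mul, map_mul, map_inv]; rfl⟩
      · rintro ⟨s, hs, e⟩
        refine ⟨(m : G)⁻¹ * s * m, (show (m : G)⁻¹ * s * m ∈ (S : Subgroup G) by simpa using (mem_normalizer_iff.1 (inv_mem hmN) s).1 hs), ?_⟩
        rw [map_mul, map_mul, map_inv, e]
        show (π m)⁻¹ * (π m * y * (π m)⁻¹) * π m = y
        group
  have e : (M ⊔ C).index = (socle M).index := by
    rw [socle, index_map, QuotientGroup.ker_mk', (QuotientGroup.mk' C).range_eq_top.2
      (QuotientGroup.mk'_surjective C), index_top, mul_one]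
  rw [e]
  exact h1

end Ambient

end CfsgLib.RankOneMeet
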