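import Cfsg.Agent.Criterion.Action.Bridge
import Cfsg.Agent.Criterion.LocalData
import Cfsg.Agent.CentralMeet.RankOne
import Cfsg.Agent.Bender.StructureMain
import Cfsg.Agent.Invol.StrongEmbedded
import Cfsg.Agent.S0205

/-!
# Tools for Sylow 2-intersections of rank one

A normal simple subgroup with trivial centralizer of a group satisfying the criterion, involutory
automorphisms fixing a Sylow 2-subgroup, and central products of two `SL₂(5)`.
-/

set_option autoImplicit false
set_option linter.unusedSectionVars false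
set_option linter.style.haveILetI false

namespace CfsgLib.RankOneMeet

open Subgroup
open CfsgLib.Bender
open scoped Pointwise

universe u

variable {G : Type u} [Group G] [Finite G]

/-- The criterion for a group with simple normal subgroup `X` centralised by nothing. -/
theorem se_socle (X : Subgroup G) [X.Normal] [IsSimpleGroup X] (hcent : centralizer (X : Set G) = ⊥)
    {H : Subgroup G} (hXH : ¬ X ≤ H) {z : G} (hz : orderOf z = 2) (hzH : z ∈ H)
    (h1 : ∃ S : Sylow 2 G, z ∈ (S : Subgroup G) ∧ ∀ s ∈ (S : Subgroup G), s * z = z * s)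
    (h2 : ∀ g : G, g * z * g⁻¹ ∈ H → g ∈ H)
    (h3 : ∀ g : G, Commute z (g * z * g⁻¹) → g * z * g⁻¹ ≠ z →
      centralizer ({z * (g * z * g⁻¹)} : Set G) ≤ H) :
    z ∈ X ∧ Cfsg.IsStronglyEmbedded (H.subgroupOf X) ∧ Bender.Consumers.Three X := by
  haveI : Fact (Nat.Prime 2) := ⟨Nat.prime_two⟩
  have hH : H ≠ ⊤ := fun e => hXH (e ▸ le_top)
  -- a normal subgroup meeting `X` trivially centralises it
  have hmeet : ∀ N : Subgroup G, N.Normal → N ⊓ X = ⊥ ∨ X ≤ N := by
    intro N hN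
    rcases (inferInstance : (N.subgroupOf X).Normal).eq_bot_or_eq_top with h | h
    · refine Or.inl (eq_bot_iff.2 fun y hy => ?_)
      have hm : (⟨y, hy.2⟩ : X) ∈ N.subgroupOf X := hy.1
      rw [h, mem_bot] at hm
      exact mem_bot.2 (congrArg Subtype.val hm)
    · exact Or.inr (subgroupOf_eq_top.1 h)
  have hdis : ∀ N : Subgroup G, N.Normal → N ⊓ X = ⊥ → N = ⊥ := by
    intro N hN hNX
    refine le_bot_iff.1 (le_trans ?_ hcent.le)
    intro n hn
    refine mem_centralizer_iff.2 fun x hx => ?_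
    exact (Subgroup.commute_of_normal_of_disjoint N X hN inferInstance
      (disjoint_iff.2 hNX) n x hn hx).eq.symm
  have hcore : H.normalCore = ⊥ := hdis _ inferInstance
    ((hmeet _ inferInstance).resolve_right fun h => hXH (h.trans H.normalCore_le))
  have hK := Criterion.Act.stronglyEmbedded_of_core
    (Criterion.Act.core_of_localData Criterion.localData) hH hcore
    (Criterion.Act.setting_of_data hH hz hzH h1 h2 h3)
  set K := normalClosure ({z} : Set G) with hKdef
  have hzK : z ∈ K := subset_normalClosure (Set.mem_singleton z)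
  have hXK : X ≤ K := (hmeet K inferInstance).resolve_left fun h => by
    have := hdis K inferInstance h
    rw [this, mem_bot] at hzK
    rw [hzK, orderOf_one] at hz
    omega
  -- an involution of the simple group
  have heven : 2 ∣ Nat.card X := by
    by_contra hodd
    haveI : Group.IsSolvable X := Cfsg.Agent.S0205.result (by
      rw [Nat.odd_iff, ← Nat.two_dvd_ne_zero]; exact hodd)
    have hc : ∀ a b : X, a * b = b * a := IsSimpleGroup.comm_iff_isSolvable.2 inferInstance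
    have hX : X ≤ centralizer (X : Set G) := fun a ha => mem_centralizer_iff.2 fun b hb =>
      congrArg Subtype.val (hc ⟨b, hb⟩ ⟨a, ha⟩)
    rw [hcent, le_bot_iff] at hX
    exact (nontrivial_iff_ne_bot X).1 inferInstance hX
  obtain ⟨x, hx⟩ := exists_prime_orderOf_dvd_card' (G := X) 2 heven
  have hzX : z ∈ X := by
    obtain ⟨c, hc⟩ := isConj_iff.1 (StrongEmbed.isConj_of_invols hK
      (a := (⟨(x : G), hXK x.2⟩ : K)) (b := ⟨z, hzK⟩)
      (by rw [← Subgroup.orderOf_coe, Subgroup.orderOf_coe x, hx])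
      (by rw [Subgroup.orderOf_mk, hz]))
    have hc' : (c : G) * (x : G) * (c : G)⁻¹ = z := congrArg Subtype.val hc
    rw [← hc']
    exact (inferInstance : X.Normal).conj_mem _ x.2 _
  have hne : H.subgroupOf X ≠ ⊤ := fun h => hXH (subgroupOf_eq_top.1 h)
  have hse : Cfsg.IsStronglyEmbedded (H.subgroupOf X) := by
    refine ⟨hne, ?_, fun g hg => ?_⟩
    · rw [even_iff_two_dvd]
      have : orderOf (⟨⟨z, hzX⟩, mem_subgroupOf.2 hzH⟩ : H.subgroupOf X) = 2 := by
        rw [← Subgroup.orderOf_coe, ← Subgroup.orderOf_coe]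
        exact hz
      exact this ▸ orderOf_dvd_natCard _
    · refine (hK.2.2 ⟨(g : G), hXK g.2⟩ fun h => hg h).of_dvd_nat ?_
      set ι := Subgroup.inclusion hXK
      rw [← card_map_of_injective (f := ι) (Subgroup.inclusion_injective hXK)]
      refine card_dvd_of_le ?_
      rintro _ ⟨w, ⟨hw1, v, hv, hvw⟩, rfl⟩
      exact ⟨hw1, ι v, hv, by rw [← hvw]; rfl⟩
  exact ⟨hzX, hse, Consumers.three_of_simple Consumers.structure_all hse⟩

/-- An involutory automorphism fixing a Sylow 2-subgroup is conjugation by one of its elements. -/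
theorem invol_aut_inner {X : Type u} [Group X] [Finite X] (h : CentralMeet.RankOne X) (Q : Sylow 2 X)
    {φ : MulAut X} (hφ : ∀ s ∈ (Q : Subgroup X), φ s = s) (h2 : φ * φ = 1) :
    ∃ w ∈ (Q : Subgroup X), w * w = 1 ∧ φ = MulAut.conj w := by
  haveI : Fact (Nat.Prime 2) := ⟨Nat.prime_two⟩
  set N := normalizer ((Q : Subgroup X) : Set X)
  have hstab : ∀ ψ : MulAut X, (∀ s ∈ (Q : Subgroup X), ψ s = s) → ∀ x ∈ N, ψ x ∈ N := by
    intro ψ hψ x hx
    have key : ∀ z : X, ψ z ∈ (Q : Subgroup X) ↔ z ∈ (Q : Subgroup X) := fun z =>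
      ⟨fun hz => ψ.injective (hψ _ hz) ▸ hz, fun hz => (hψ z hz).symm ▸ hz⟩
    refine mem_normalizer_iff.2 fun y => ?_
    obtain ⟨z, rfl⟩ := ψ.surjective y
    rw [key, mem_normalizer_iff.1 hx z, ← key (x * z * x⁻¹), map_mul, map_mul, map_inv]
  have hφφ : ∀ x, φ (φ x) = x := fun x => by
    rw [← MulAut.mul_apply, h2, MulAut.one_apply]
  obtain ⟨g, hg⟩ := h.exists_not_mem Q
  obtain ⟨w, hw, hw'⟩ := h.trans Q hg (g₂ := φ g) fun hh => hg (by
    have h1 := hstab φ hφ _ hh
    rwa [hφφ] at h1)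
  have hsq : w * w = 1 := by
    refine Consumers.shape_free (h.se Q) Subgroup.le_normalizer Q.isPGroup' hg (mul_mem hw hw) ?_
    have h1 := hstab φ hφ _ hw'
    rw [map_mul, map_inv, hφφ, map_mul, hφ w hw] at h1
    have h3 := mul_mem h1 hw'
    convert h3 using 1
    group
  have hwinv : w⁻¹ = w := inv_eq_of_mul_eq_one_right hsq
  refine ⟨w, hw, hsq, ?_⟩
  -- the twisted automorphism fixes the Sylow subgroup and every coset of its normalizer
  set ψ := MulAut.conj w * φ
  have hwQ : ∀ s ∈ (Q : Subgroup X), s * w = w * s := by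
    by_cases hw1 : w = 1
    · intro s _
      rw [hw1, mul_one, one_mul]
    · exact (CentralMeet.mem_zs.1 (h.mem_zs_of_invol Q (orderOf_eq_prime (by rw [sq, hsq]) hw1) hw)).2
  have hψ : ∀ s ∈ (Q : Subgroup X), ψ s = s := fun s hs => by
    show w * φ s * w⁻¹ = s
    rw [hφ s hs, ← hwQ s hs, mul_inv_cancel_right]
  have hψg : g⁻¹ * ψ g ∈ N := by
    show g⁻¹ * (w * φ g * w⁻¹) ∈ N
    have h3 := mul_mem (inv_mem hw') (inv_mem (Subgroup.le_normalizer hw : w ∈ N))
    convert h3 using 1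
    conv_lhs => arg 2; arg 1; arg 1; rw [← hwinv]
    group
  have hfix : ∀ x : X, x⁻¹ * ψ x ∈ N := by
    intro x
    by_cases hx : x ∈ N
    · exact mul_mem (inv_mem hx) (hstab ψ hψ x hx)
    obtain ⟨u, hu, hu'⟩ := h.trans Q hg hx
    have h3 := mul_mem (mul_mem hu' hψg) (inv_mem (hstab ψ hψ _ hu'))
    convert h3 using 1
    rw [map_mul, map_inv, map_mul, hψ u hu]
    group
  have hψ1 : ψ = 1 := MulEquiv.ext fun x => by
    show ψ x = x
    have h1 : x⁻¹ * ψ x = 1 := h.core_eq_one Q fun g => by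
      have h3 := mul_mem (hfix (x * g)) (inv_mem (hfix g))
      rw [map_mul] at h3
      convert h3 using 1
      group
    exact (inv_mul_eq_one.1 h1).symm
  have h3 : φ = (MulAut.conj w)⁻¹ := eq_inv_of_mul_eq_one_right hψ1
  rw [h3, ← map_inv, hwinv]

/-- Two commuting `SL₂(5)` with nontrivial intersection. -/
theorem join_sl_two_five {M N : Subgroup G} (hc : ∀ m ∈ M, ∀ n ∈ N, m * n = n * m) (hMN : M ⊓ N ≠ ⊥)
    (e : M ≃* Matrix.SpecialLinearGroup (Fin 2) (ZMod 5)) (f : N ≃* Matrix.SpecialLinearGroup (Fin 2) (ZMod 5)) :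
    ∃ (Z : Subgroup (Matrix.SpecialLinearGroup (Fin 2) (ZMod 5) × Matrix.SpecialLinearGroup (Fin 2) (ZMod 5)))
      (_ : Z.Normal),
      Z = Subgroup.zpowers ((-1 : Matrix.SpecialLinearGroup (Fin 2) (ZMod 5)), (-1 : Matrix.SpecialLinearGroup (Fin 2) (ZMod 5))) ∧
      Nonempty (↥(M ⊔ N) ≃* (Matrix.SpecialLinearGroup (Fin 2) (ZMod 5) × Matrix.SpecialLinearGroup (Fin 2) (ZMod 5)) ⧸ Z) := by
  haveI : Fact (Nat.Prime 5) := ⟨Nat.prime_five⟩
  have hcen : ∀ g : Matrix.SpecialLinearGroup (Fin 2) (ZMod 5), g ∈ center _ → g = 1 ∨ g = -1 := by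
    intro g hg
    obtain ⟨r, hr, he⟩ := Matrix.SpecialLinearGroup.mem_center_iff.1 hg
    rw [Fintype.card_fin, sq_eq_one_iff] at hr
    rcases hr with rfl | rfl
    · exact Or.inl (Subtype.ext (he.symm.trans (by ext i j; fin_cases i <;> fin_cases j <;> simp)))
    · exact Or.inr (Subtype.ext (he.symm.trans (by ext i j; fin_cases i <;> fin_cases j <;> simp)))
  -- the intersection maps to the centres
  have hM : ∀ (y : G) (hy : y ∈ M ⊓ N), e ⟨y, hy.1⟩ = 1 ∨ e ⟨y, hy.1⟩ = -1 := fun y hy =>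
    hcen _ (mem_center_iff.2 fun a => by
      obtain ⟨m, rfl⟩ := e.surjective a
      rw [← map_mul, ← map_mul]
      exact congrArg e (Subtype.ext (hc m m.2 y hy.2)))
  have hN : ∀ (y : G) (hy : y ∈ M ⊓ N), f ⟨y, hy.2⟩ = 1 ∨ f ⟨y, hy.2⟩ = -1 := fun y hy =>
    hcen _ (mem_center_iff.2 fun a => by
      obtain ⟨n, rfl⟩ := f.surjective a
      rw [← map_mul, ← map_mul]
      exact congrArg f (Subtype.ext (hc y hy.1 n n.2).symm))
  obtain ⟨x, hx, hx1⟩ := (M ⊓ N).bot_or_exists_ne_one.resolve_left hMN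
  have hex : e ⟨x, hx.1⟩ = -1 := (hM x hx).resolve_left fun h =>
    hx1 (congrArg Subtype.val (e.map_eq_one_iff.1 h))
  have hfx : f ⟨x, hx.2⟩ = -1 := (hN x hx).resolve_left fun h =>
    hx1 (congrArg Subtype.val (f.map_eq_one_iff.1 h))
  set i₁ := (Subgroup.inclusion (le_sup_left : M ≤ M ⊔ N)).comp e.symm.toMonoidHom
  set i₂ := (Subgroup.inclusion (le_sup_right : N ≤ M ⊔ N)).comp f.symm.toMonoidHom
  set φ := MonoidHom.noncommCoprod i₁ i₂ fun a b => Subtype.ext (hc _ (e.symm a).2 _ (f.symm b).2)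
  have hφ : ∀ a b, ((φ (a, b) : ↥(M ⊔ N)) : G) = (e.symm a : G) * (f.symm b : G) := fun a b => rfl
  have hsurj : Function.Surjective φ := by
    rintro ⟨y, hy⟩
    have hn : M ≤ normalizer (N : Set G) := fun m hm =>
      (centralizer_le_normalizer (N : Set G)) (mem_centralizer_iff.2 fun n hn => (hc m hm n hn).symm)
    have hy' : y ∈ ((M ⊔ N : Subgroup G) : Set G) := hy
    rw [Subgroup.coe_mul_of_left_le_normalizer_right M N hn] at hy'
    obtain ⟨m, hm, n, hn', rfl⟩ := Set.mem_mul.1 hy'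
    exact ⟨(e ⟨m, hm⟩, f ⟨n, hn'⟩), Subtype.ext (by rw [hφ, e.symm_apply_apply, f.symm_apply_apply])⟩
  have hmem : ((-1 : Matrix.SpecialLinearGroup (Fin 2) (ZMod 5)),
      (-1 : Matrix.SpecialLinearGroup (Fin 2) (ZMod 5))) ∈ φ.ker := by
    refine MonoidHom.mem_ker.2 (Subtype.ext ?_)
    have hxx : (⟨x, hx.1⟩ : M) * ⟨x, hx.1⟩ = 1 :=
      e.injective (by rw [map_mul, map_one, hex, neg_mul_neg, one_mul])
    rw [hφ, ← hex, e.symm_apply_apply]
    nth_rewrite 1 [← hex] at hfx
    show x * ((f.symm (e ⟨x, hx.1⟩) : N) : G) = 1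
    rw [← hfx, f.symm_apply_apply]
    exact congrArg Subtype.val hxx
  have hker : φ.ker = zpowers ((-1 : Matrix.SpecialLinearGroup (Fin 2) (ZMod 5)),
      (-1 : Matrix.SpecialLinearGroup (Fin 2) (ZMod 5))) := by
    refine le_antisymm ?_ (zpowers_le.2 hmem)
    rintro ⟨a, b⟩ hab
    have h' : (e.symm a : G) * (f.symm b : G) = 1 :=
      (hφ a b).symm.trans (congrArg Subtype.val (MonoidHom.mem_ker.1 hab))
    set y : G := (e.symm a : G)
    have hyMN : y ∈ M ⊓ N := Subgroup.mem_inf.2 ⟨(e.symm a).2, by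
      rw [eq_inv_of_mul_eq_one_left h']; exact inv_mem (f.symm b).2⟩
    have hb : b = f ⟨y, hyMN.2⟩⁻¹ := by
      refine (f.apply_symm_apply b).symm.trans (congrArg f (Subtype.ext ?_))
      exact eq_inv_of_mul_eq_one_right h'
    have hay : a = e ⟨y, hyMN.1⟩ := (e.apply_symm_apply a).symm
    rcases hM y hyMN with h1 | h1
    · have hy1 : y = 1 := congrArg Subtype.val (e.map_eq_one_iff.1 h1)
      have : (a, b) = 1 := Prod.ext (hay.trans h1) (by
        rw [hb, show (⟨y, hyMN.2⟩ : N) = 1 from Subtype.ext hy1, inv_one, map_one]; rfl)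
      rw [this]
      exact one_mem _
    · have hyx : y = x := congrArg Subtype.val (e.injective (h1.trans hex.symm))
      have : (a, b) = ((-1 : Matrix.SpecialLinearGroup (Fin 2) (ZMod 5)),
          (-1 : Matrix.SpecialLinearGroup (Fin 2) (ZMod 5))) := Prod.ext (hay.trans h1) (by
        show b = -1
        rw [hb, map_inv, show (⟨y, hyMN.2⟩ : N) = ⟨x, hx.2⟩ from Subtype.ext hyx, hfx]
        exact inv_eq_of_mul_eq_one_right (by rw [neg_mul_neg, one_mul]))
      rw [this]
      exact mem_zpowers _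
  haveI hZn := (hker ▸ (inferInstance : φ.ker.Normal) : (zpowers
    ((-1 : Matrix.SpecialLinearGroup (Fin 2) (ZMod 5)),
      (-1 : Matrix.SpecialLinearGroup (Fin 2) (ZMod 5)))).Normal)
  exact ⟨_, hZn, rfl, ⟨((QuotientGroup.quotientMulEquivOfEq hker.symm).trans
    (QuotientGroup.quotientKerEquivOfSurjective φ hsurj)).symm⟩⟩

end CfsgLib.RankOneMeet
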