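import Cfsg.Agent.RankOneMeet.CyclicOneResidual
import Cfsg.Agent.RankOneMeet.Quasi
import Cfsg.Agent.RankOneMeet.Tools
import Cfsg.Agent.RankOneMeet.NormalFour

/-!
# An element of order four with a large centralizer

`z` is a central involution, every other involution of `S` lies in no other Sylow 2-subgroup, and
`r` has square `z` and is inverted by an involution `x`, both central in `S` modulo `z`. When `C(r)`
is not inside `N(S)` and has two classes of involutions modulo `z` in `S`, its perfect residual is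
centralized by a second element of order four.
-/

set_option autoImplicit false
set_option linter.unusedSectionVars false
set_option linter.style.haveILetI false

namespace CfsgLib.RankOneMeet

open Subgroup
open CfsgLib.Bender

universe u

variable {G : Type u} [Group G] [Finite G]

/-- The standing facts. -/
structure Ctx (z : G) (S : Sylow 2 G) : Prop where
  zz : z * z = 1
  z1 : z ≠ 1
  zc : z ∈ center G
  zS : z ∈ (S : Subgroup G)
  uniq : ∀ (T : Sylow 2 G) (d : G), d * d = 1 → d ≠ 1 → d ≠ z → d ∈ (S : Subgroup G) →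
    d ∈ (T : Subgroup G) → T = S

/-- An element of order four inverted by an involution, with a centralizer outside the normalizer. -/
structure Pair (z : G) (S : Sylow 2 G) (x r : G) : Prop where
  xS : x ∈ (S : Subgroup G)
  xx : x * x = 1
  xconj : ∀ s ∈ (S : Subgroup G), s * x * s⁻¹ = x ∨ s * x * s⁻¹ = x * z
  rS : r ∈ (S : Subgroup G)
  rr : r * r = z
  rconj : ∀ s ∈ (S : Subgroup G), s * r * s⁻¹ = r ∨ s * r * s⁻¹ = r * z
  xr : x * r * x⁻¹ = r * z
  out : ∃ g : G, g * r = r * g ∧ g ∉ normalizer ((S : Subgroup G) : Set G)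

/-- Two classes of involutions in the centralizer of `r`. -/
def Four (z : G) (S : Sylow 2 G) (r : G) : Prop :=
  ∃ d ∈ (S : Subgroup G), ∃ d' ∈ (S : Subgroup G), d * d = 1 ∧ d ≠ 1 ∧ d ≠ z ∧ d * r = r * d ∧
    d' * d' = 1 ∧ d' ≠ 1 ∧ d' ≠ z ∧ d' * r = r * d' ∧ d' ≠ d ∧ d' ≠ d * z

/-- The perfect residual of `C(r)` and the element `c`. -/
structure Res (z : G) (S : Sylow 2 G) (r c : G) (M : Subgroup G) : Prop where
  perfect : ⁅M, M⁆ = M
  ne_bot : M ≠ ⊥
  cent : ∀ m ∈ M, m * r = r * m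
  max : ∀ K : Subgroup G, ⁅K, K⁆ = K → (∀ k ∈ K, k * r = r * k) → K ≤ M
  cS : c ∈ (S : Subgroup G)
  cc : c * c = z
  cr : c * r * c⁻¹ = r * z
  cM : ∀ m ∈ M, m * c = c * m
  zM : z ∈ M
  sq : ∀ a ∈ (S : Subgroup G), a ∈ M → a * a = 1 ∨ a * a = z
  uni : ∀ a ∈ (S : Subgroup G), a ∈ M → a * a = 1 → a = 1 ∨ a = z
  noncomm : ∃ a ∈ (S : Subgroup G), ∃ b ∈ (S : Subgroup G), a ∈ M ∧ b ∈ M ∧ a * b ≠ b * a
  small : ∀ a ∈ (S : Subgroup G), a ∈ M → (∀ m ∈ M, m * a = a * m) → a = 1 ∨ a = z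
  gen : ∀ s ∈ (S : Subgroup G), ∃ q ∈ (S : Subgroup G), ∃ a ∈ (S : Subgroup G),
    (∀ m ∈ M, m * q = q * m) ∧ (q * q = 1 ∨ q * q = z) ∧ a ∈ M ∧ s = q * a

variable {z : G} {S : Sylow 2 G}

namespace Ctx

variable (C : Ctx z S)
include C

theorem comm (g : G) : g * z = z * g := mem_center_iff.1 C.zc g

theorem inv_z : z⁻¹ = z := inv_eq_of_mul_eq_one_right C.zz

theorem conj_z (g : G) : g * z * g⁻¹ = z := by rw [C.comm g, mul_inv_cancel_right]

theorem mul_z_mul (a b : G) : a * z * b = a * b * z := by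
  rw [mul_assoc, ← C.comm b, ← mul_assoc]

theorem sq_mul_z (a : G) : a * z * (a * z) = a * a := by
  rw [mul_assoc, ← mul_assoc z, ← C.comm a, mul_assoc a z z, C.zz, mul_one]

theorem eq_mul_z {a b : G} (h : a = b * z) : b = a * z := by
  rw [h, mul_assoc, C.zz, mul_one]

/-- An element moving an involution other than `z` of `S` into `S` normalizes `S`. -/
theorem move {d n : G} (hd : d * d = 1) (hd1 : d ≠ 1) (hdz : d ≠ z) (hdS : d ∈ (S : Subgroup G))
    (hn : n * d * n⁻¹ ∈ (S : Subgroup G)) : n ∈ normalizer ((S : Subgroup G) : Set G) := by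
  have e := C.uniq (n⁻¹ • S) d hd hd1 hdz hdS (by
    rw [Sylow.coe_subgroup_smul]
    exact ⟨_, hn, by show n⁻¹ * (n * d * n⁻¹) * n⁻¹⁻¹ = d; group⟩)
  simpa using inv_mem (Sylow.smul_eq_iff_mem_normalizer.1 e)

/-- No such involution centralizes a nontrivial perfect subgroup. -/
theorem no_cent {M : Subgroup G} (hM : ⁅M, M⁆ = M) (hM1 : M ≠ ⊥) {d : G} (hd : d * d = 1)
    (hdS : d ∈ (S : Subgroup G)) (hdM : ∀ m ∈ M, m * d = d * m) : d = 1 ∨ d = z := by
  by_contra h
  push Not at h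
  refine perfect_not_solvable hM hM1 (isSolvable_of_le_normalizer (S := S) fun m hm => ?_)
  refine C.move hd h.1 h.2 hdS ?_
  rwa [hdM m hm, mul_inv_cancel_right]

/-- The four elements of `⟨r⟩`. -/
theorem four_cases {r : G} (hr : r * r = z) {k : G} (hk : k ∈ zpowers r) :
    k = 1 ∨ k = z ∨ k = r ∨ k = r * z := by
  obtain ⟨n, rfl⟩ := Submonoid.mem_powers_iff _ _ |>.1 (mem_powers_iff_mem_zpowers.2 hk)
  induction n with
  | zero => exact Or.inl (pow_zero r)
  | succ n ih =>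
    rw [pow_succ]
    rcases ih (npow_mem_zpowers r n) with e | e | e | e <;> rw [e]
    · exact Or.inr (Or.inr (Or.inl (one_mul r)))
    · exact Or.inr (Or.inr (Or.inr (C.comm r).symm))
    · exact Or.inr (Or.inl hr)
    · refine Or.inl ?_
      rw [C.mul_z_mul, hr, C.zz]

variable {x r : G}

theorem r_ne (P : Pair z S x r) : r ≠ 1 ∧ r ≠ z := by
  constructor <;> intro e <;> have h := P.rr <;> rw [e] at h
  · exact C.z1 (by rw [← h, one_mul])
  · exact C.z1 (by rw [← h, C.zz])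

theorem x_ne (P : Pair z S x r) : x ≠ 1 ∧ x ≠ z := by
  have h := P.xr
  constructor <;> intro e <;> rw [e] at h
  · rw [one_mul, inv_one, mul_one, eq_comm, mul_eq_left] at h
    exact C.z1 h
  · rw [← C.comm r, mul_inv_cancel_right, eq_comm, mul_eq_left] at h
    exact C.z1 h

/-- `x` fixes `S` modulo `z`. -/
theorem x_fix (P : Pair z S x r) {m : G} (hm : m ∈ (S : Subgroup G)) :
    x * m * x⁻¹ = m ∨ x * m * x⁻¹ = m * z := by
  have hxi : x⁻¹ = x := inv_eq_of_mul_eq_one_right P.xx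
  rcases P.xconj m hm with e | e
  · exact Or.inl (mul_inv_eq_iff_eq_mul.2 (mul_inv_eq_iff_eq_mul.1 e).symm)
  · refine Or.inr ?_
    have h1 : m * x = x * z * m := mul_inv_eq_iff_eq_mul.1 e
    rw [hxi, mul_assoc, h1, ← mul_assoc, ← mul_assoc, P.xx, one_mul, ← C.comm m]

theorem x_sq (P : Pair z S x r) {m : G} (hm : m ∈ (S : Subgroup G)) :
    x * (m * m) * x⁻¹ = m * m := by
  rw [show x * (m * m) * x⁻¹ = (x * m * x⁻¹) * (x * m * x⁻¹) by group]
  rcases C.x_fix P hm with e | e <;> rw [e]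
  exact C.sq_mul_z m

theorem x_moves (P : Pair z S x r) {k : G} (hk : k = r ∨ k = r * z) : x * k * x⁻¹ ≠ k := by
  intro e
  have h : x * r * x⁻¹ = r := by
    rcases hk with rfl | rfl
    · exact e
    · rw [show x * (r * z) * x⁻¹ = (x * r * x⁻¹) * (x * z * x⁻¹) by group, C.conj_z] at e
      exact mul_right_cancel e
  rw [P.xr, mul_eq_left] at h
  exact C.z1 h

/-- An element squaring into `⟨r⟩` has square `1` or `z`. -/
theorem sq_cases (P : Pair z S x r) {m : G} (hm : m ∈ (S : Subgroup G))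
    (hmm : m * m ∈ zpowers r) : m * m = 1 ∨ m * m = z := by
  rcases C.four_cases P.rr hmm with e | e | e | e
  · exact Or.inl e
  · exact Or.inr e
  · exact absurd (by rw [← e]; exact C.x_sq P hm) (C.x_moves P (Or.inl rfl))
  · exact absurd (by rw [← e]; exact C.x_sq P hm) (C.x_moves P (Or.inr rfl))

/-- Involutions modulo `⟨r⟩` lift to involutions. -/
theorem lift (P : Pair z S x r) {m : G} (hm : m ∈ (S : Subgroup G)) (hmr : m * r = r * m)
    (hmm : m * m ∈ zpowers r) (hm1 : m ∉ zpowers r) :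
    ∃ d ∈ (S : Subgroup G), d * d = 1 ∧ d ≠ 1 ∧ d ≠ z ∧ d * r = r * d ∧
      (d = m ∨ d = m * r) := by
  have hzr : z ∈ zpowers r := P.rr ▸ mul_mem (mem_zpowers r) (mem_zpowers r)
  have hd : ∀ d, d = m ∨ d = m * r → d ≠ 1 ∧ d ≠ z := by
    rintro d (rfl | rfl)
    · exact ⟨fun e => hm1 (e ▸ one_mem _), fun e => hm1 (e ▸ hzr)⟩
    · constructor <;> intro e <;> refine hm1 ?_
      · rw [mul_eq_one_iff_eq_inv.1 e]; exact inv_mem (mem_zpowers r)
      · rw [eq_mul_inv_of_mul_eq e]; exact mul_mem hzr (inv_mem (mem_zpowers r))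
  rcases C.sq_cases P hm hmm with e | e
  · exact ⟨m, hm, e, (hd m (Or.inl rfl)).1, (hd m (Or.inl rfl)).2, hmr, Or.inl rfl⟩
  · refine ⟨m * r, mul_mem hm P.rS, ?_, (hd _ (Or.inr rfl)).1, (hd _ (Or.inr rfl)).2,
      ?_, Or.inr rfl⟩
    · rw [(show Commute r m from hmr.symm).mul_mul_mul_comm, e, P.rr, C.zz]
    · rw [mul_assoc, ← mul_assoc r, ← hmr, mul_assoc]

/-- The analysis of `C(r)`. -/
theorem residual (P : Pair z S x r) (hF : Four z S r) : ∃ c M, Res z S r c M := by
  haveI : Fact (Nat.Prime 2) := ⟨Nat.prime_two⟩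
  classical
  obtain ⟨d, hdS, d', hdS', hd, hd1, hdz, hdr, hd', hd1', hdz', hdr', hne, hnez⟩ := hF
  set H := centralizer ({r} : Set G) with hH
  have hmH : ∀ {g : G}, g ∈ H ↔ g * r = r * g := fun {g} => mem_centralizer_singleton_iff
  have hrH : r ∈ H := hmH.2 rfl
  let R : Sylow 2 H :=
    { toSubgroup := (S : Subgroup G).subgroupOf H
      isPGroup' := S.2.comap_subtype
      is_maximal' := by
        intro T hT hle
        refine le_antisymm (fun t ht => ?_) hle
        obtain ⟨U, hU⟩ := (show IsPGroup 2 (T.map H.subtype) from hT.map _).exists_le_sylow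
        have e := C.uniq U d hd hd1 hdz hdS
          (hU ⟨⟨d, hmH.2 hdr⟩, hle (mem_subgroupOf.2 hdS), rfl⟩)
        exact mem_subgroupOf.2 (e ▸ hU ⟨t, ht, rfl⟩) }
  have hRmem : ∀ g : H, g ∈ (R : Subgroup H) ↔ (g : G) ∈ (S : Subgroup G) := fun g => Iff.rfl
  set rH : H := ⟨r, hrH⟩
  set N₀ := zpowers rH with hN₀
  have hN₀mem : ∀ g : H, g ∈ N₀ ↔ (g : G) ∈ zpowers r := fun g => by
    constructor
    · rintro ⟨i, rfl⟩
      exact ⟨i, (Subgroup.coe_zpow H rH i).symm⟩
    · rintro ⟨i, hi⟩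
      exact ⟨i, Subtype.ext ((Subgroup.coe_zpow H rH i).trans hi)⟩
  have hN₀c : N₀ ≤ center H := zpowers_le.2 (mem_center_iff.2 fun g => Subtype.ext (hmH.1 g.2))
  haveI : N₀.Normal := ⟨fun a ha g => by
    rw [mem_center_iff.1 (hN₀c ha) g, mul_inv_cancel_right]
    exact ha⟩
  have hN₀p : IsPGroup 2 N₀ := (R.2).to_le (zpowers_le.2 ((hRmem rH).2 P.rS))
  have hnotr : ∀ {e : G}, e * e = 1 → e ≠ 1 → e ≠ z → e ∉ zpowers r := by
    intro e he he1 hez hmem
    rcases C.four_cases P.rr hmem with h | h | h | h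
    · exact he1 h
    · exact hez h
    · rw [h, P.rr] at he; exact C.z1 he
    · rw [h, C.sq_mul_z, P.rr] at he; exact C.z1 he
  have hdd' : d⁻¹ * d' ∉ zpowers r := by
    intro hmem
    rcases C.four_cases P.rr hmem with h | h | h | h <;> rw [inv_mul_eq_iff_eq_mul] at h
    · exact hne (by rw [h, mul_one])
    · exact hnez h
    · rw [h, (show Commute r d from hdr.symm).mul_mul_mul_comm, hd, P.rr, one_mul] at hd'
      exact C.z1 hd'
    · rw [h, ← mul_assoc d r z, C.sq_mul_z, (show Commute r d from hdr.symm).mul_mul_mul_comm, hd, P.rr,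
        one_mul] at hd'
      exact C.z1 hd'
  obtain ⟨g₀, hg₀, hg₀N⟩ := P.out
  obtain ⟨M', hperf', hM1', hmax', hR', X, iX, iF, σ, hXs, hXR, hσs, hσk⟩ :=
    exists_residual N₀ hN₀c hN₀p R
      ⟨⟨g₀, hmH.2 hg₀⟩, fun hg => hg₀N (C.move hd hd1 hdz hdS
        ((mem_normalizer_iff.1 hg ⟨d, hmH.2 hdr⟩).1 hdS))⟩
      (u := ⟨d, hmH.2 hdr⟩) (v := ⟨d', hmH.2 hdr'⟩) hdS
      (fun h => hnotr hd hd1 hdz ((hN₀mem _).1 h))
      (by rw [show (⟨d, hmH.2 hdr⟩ * ⟨d, hmH.2 hdr⟩ : H) = 1 from Subtype.ext hd]; exact one_mem _)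
      hdS' (fun h => hnotr hd' hd1' hdz' ((hN₀mem _).1 h))
      (by rw [show (⟨d', hmH.2 hdr'⟩ * ⟨d', hmH.2 hdr'⟩ : H) = 1 from Subtype.ext hd']; exact one_mem _)
      (fun h => hdd' ((hN₀mem _).1 h))
      fun e he he0 hee g hg => by
        obtain ⟨e', he'S, he'2, he'1, he'z, -, hcase⟩ := C.lift P (m := (e : G)) he (hmH.1 e.2)
          ((hN₀mem _).1 hee) fun h => he0 ((hN₀mem _).2 h)
        have hgN : (g : G) ∈ normalizer ((S : Subgroup G) : Set G) := by
          refine C.move he'2 he'1 he'z he'S ?_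
          have hg' : (g : G) * e * (g : G)⁻¹ ∈ (S : Subgroup G) := hg
          rcases hcase with rfl | rfl
          · exact hg'
          · rw [← mul_assoc, mul_assoc _ r, show r * (g : G)⁻¹ = (g : G)⁻¹ * r from
              (show Commute (g : G) r from hmH.1 g.2).inv_left.symm, ← mul_assoc]
            exact mul_mem hg' P.rS
        exact mem_normalizer_iff.2 fun w => mem_normalizer_iff.1 hgN (w : G)
  -- inside `G`
  set M := M'.map H.subtype with hM
  have hperf : ⁅M, M⁆ = M := by rw [hM, ← map_commutator, hperf']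
  have hM1 : M ≠ ⊥ := fun e => hM1' ((map_eq_bot_iff_of_injective _ H.subtype_injective).1 e)
  have hcent : ∀ m ∈ M, m * r = r * m := by
    rintro _ ⟨m, -, rfl⟩
    exact hmH.1 m.2
  have hmax : ∀ K : Subgroup G, ⁅K, K⁆ = K → (∀ k ∈ K, k * r = r * k) → K ≤ M := fun K hK hKr => by
    have hKH : K ≤ H := fun k hk => hmH.2 (hKr k hk)
    rw [← map_subgroupOf_eq_of_le hKH]
    refine map_mono (hmax' _ (map_injective H.subtype_injective ?_))
    rw [map_commutator, map_subgroupOf_eq_of_le hKH, hK]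
  have hnorm : ∀ g : G, (g * r * g⁻¹ = r ∨ g * r * g⁻¹ = r * z) →
      ∀ m ∈ M, g * m * g⁻¹ ∈ M := by
    intro g hg m hm
    refine hmax (M.map (MulAut.conj g).toMonoidHom) (by rw [← map_commutator, hperf]) ?_
      ⟨m, hm, rfl⟩
    rintro _ ⟨k, hk, rfl⟩
    show g * k * g⁻¹ * r = r * (g * k * g⁻¹)
    have h1 : Commute (g * k * g⁻¹) (g * r * g⁻¹) :=
      (show Commute k r from hcent k hk).map (MulAut.conj g).toMonoidHom
    rcases hg with e | e <;> rw [e] at h1
    · exact h1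
    · have h2 := h1.mul_right (show Commute (g * k * g⁻¹) z from C.comm _)
      rwa [mul_assoc r z z, C.zz, mul_one] at h2
  -- the map onto the simple group
  let ι := M'.equivMapOfInjective H.subtype H.subtype_injective
  let τ : M →* X := σ.comp ι.symm.toMonoidHom
  have hτs : Function.Surjective τ := hσs.comp ι.symm.surjective
  have hker : center M = τ.ker := by
    ext a
    obtain ⟨a, rfl⟩ := ι.surjective a
    rw [MonoidHom.mem_ker, show τ (ι a) = σ a from congrArg σ (ι.symm_apply_apply a),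
      ← MonoidHom.mem_ker, hσk, mem_center_iff, mem_center_iff]
    constructor
    · exact fun h b => ι.injective (by rw [map_mul, map_mul]; exact h (ι b))
    · intro h b
      obtain ⟨b, rfl⟩ := ι.surjective b
      rw [← map_mul, ← map_mul, h b]
  have hncX : ¬ ∀ a b : X, a * b = b * a := CentralMeet.three_not_comm hXR
  -- the Sylow subgroup of the simple group
  haveI : M'.Normal := ⟨fun m hm g => hmax' (M'.map (MulAut.conj g).toMonoidHom)
    (by rw [← map_commutator, hperf']) ⟨m, hm, rfl⟩⟩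
  obtain ⟨Q', hQ'⟩ := PushL2.exists_sylow_inf M' R
  let Qb : Sylow 2 X := Q'.mapSurjective hσs
  have hQb : ∀ {a : G} (ha : a ∈ M), a ∈ (S : Subgroup G) → τ ⟨a, ha⟩ ∈ (Qb : Subgroup X) := by
    rintro _ ⟨a, ha, rfl⟩ haS
    refine ⟨⟨a, ha⟩, by rw [hQ']; exact haS, ?_⟩
    show σ _ = σ (ι.symm (ι ⟨a, ha⟩))
    rw [ι.symm_apply_apply]
  have hQb' : ∀ {y : X}, y ∈ (Qb : Subgroup X) →
      ∃ a : M, (a : G) ∈ (S : Subgroup G) ∧ τ a = y := by
    rintro _ ⟨a, ha, rfl⟩
    rw [hQ'] at ha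
    exact ⟨ι a, ha, congrArg σ (ι.symm_apply_apply a)⟩
  have hzr : z ∈ zpowers r := P.rr ▸ mul_mem (mem_zpowers r) (mem_zpowers r)
  -- elements of `S` centralizing `M`
  have hsmall : ∀ (n : ℕ) (s : G), s ∈ (S : Subgroup G) → s * r = r * s →
      (∀ m ∈ M, m * s = s * m) → s ^ 2 ^ n = 1 → s ∈ zpowers r := by
    intro n
    induction n with
    | zero => intro s _ _ _ h; rw [show s = 1 by simpa using h]; exact one_mem _
    | succ n ih =>
      intro s hs hsr hsM h
      have hss : s * s ∈ zpowers r := ih (s * s) (mul_mem hs hs)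
        ((show Commute s r from hsr).mul_left hsr).eq
        (fun m hm => ((show Commute m s from hsM m hm).mul_right (hsM m hm)).eq)
        (by rw [← sq, ← pow_mul, ← pow_succ']; exact h)
      by_contra hout
      obtain ⟨e, heS, he2, he1, hez, -, hcase⟩ := C.lift P hs hsr hss hout
      refine not_or.2 ⟨he1, hez⟩ (C.no_cent hperf hM1 he2 heS fun m hm => ?_)
      rcases hcase with rfl | rfl
      · exact hsM m hm
      · exact ((show Commute m s from hsM m hm).mul_right (hcent m hm)).eq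
  have hcenM : ∀ a : M, a ∈ center M → (a : G) ∈ (S : Subgroup G) → (a : G) ∈ zpowers r := by
    intro a ha haS
    obtain ⟨n, hn⟩ := CentralMeet.exists_pow_of_mem S.2 haS
    exact hsmall n a haS (hcent a a.2)
      (fun m hm => congrArg Subtype.val (mem_center_iff.1 ha ⟨m, hm⟩)) hn
  -- the automorphism
  let e : M ⧸ center M ≃* X := (QuotientGroup.quotientMulEquivOfEq hker).trans
    (QuotientGroup.quotientKerEquivOfSurjective τ hτs)
  have hxM : ∀ m ∈ M, x * m * x⁻¹ ∈ M := hnorm x (Or.inr P.xr)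
  let β : MulAut M :=
    { toFun := fun m => ⟨x * m * x⁻¹, hxM m m.2⟩
      invFun := fun m => ⟨x * m * x⁻¹, hxM m m.2⟩
      left_inv := fun m => Subtype.ext (by
        show x * (x * (m : G) * x⁻¹) * x⁻¹ = m
        rw [show x * (x * (m : G) * x⁻¹) * x⁻¹ = x * x * m * (x * x)⁻¹ by group, P.xx, one_mul,
          inv_one, mul_one])
      right_inv := fun m => Subtype.ext (by
        show x * (x * (m : G) * x⁻¹) * x⁻¹ = m
        rw [show x * (x * (m : G) * x⁻¹) * x⁻¹ = x * x * m * (x * x)⁻¹ by group, P.xx, one_mul,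
          inv_one, mul_one])
      map_mul' := fun a b => Subtype.ext (by
        show x * ((a : G) * b) * x⁻¹ = x * a * x⁻¹ * (x * b * x⁻¹)
        group) }
  let φ : MulAut X := e.symm.trans ((QuotientGroup.congr (center M) (center M) β
    (characteristic_iff_map_eq.1 inferInstance β)).trans e)
  have hφ : ∀ m : M, φ (τ m) = τ (β m) := fun m => by
    have h1 : e.symm (τ m) = (m : M ⧸ center M) := e.symm_apply_eq.2 rfl
    simp only [φ, MulEquiv.trans_apply, h1]
    rfl
  obtain ⟨w, hwQ, hw2, hwφ⟩ := invol_aut_inner hXR Qb (φ := φ) (fun y hy => by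
    obtain ⟨a, haS, rfl⟩ := hQb' hy
    rw [hφ]
    rcases C.x_fix P haS with he | he
    · exact congrArg τ (Subtype.ext he)
    · have hzM : z ∈ M := by
        have h2 := mul_mem (inv_mem a.2) (hxM a a.2)
        rwa [he, inv_mul_cancel_left] at h2
      have h3 : (⟨z, hzM⟩ : M) ∈ τ.ker := hker ▸ mem_center_iff.2 fun g => Subtype.ext (C.comm g)
      rw [show β a = a * ⟨z, hzM⟩ from Subtype.ext he, map_mul, MonoidHom.mem_ker.1 h3, mul_one])
    (MulEquiv.ext fun y => by
      obtain ⟨a, rfl⟩ := hτs y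
      rw [MulAut.mul_apply, MulAut.one_apply, hφ, hφ]
      exact congrArg τ (β.left_inv a))
  obtain ⟨m, hmS, rfl⟩ := hQb' hwQ
  set c := (m : G)⁻¹ * x with hc
  have hcS : c ∈ (S : Subgroup G) := mul_mem (inv_mem hmS) P.xS
  have hcM : ∀ b ∈ M, b * c = c * b := by
    refine commute_of_perfect hperf fun b hb => ?_
    have he : c * b * c⁻¹ * b⁻¹ = (m : G)⁻¹ * (x * b * x⁻¹) * m * b⁻¹ := by rw [hc]; group
    have hmem : c * b * c⁻¹ * b⁻¹ ∈ M := by
      rw [he]
      exact mul_mem (mul_mem (mul_mem (inv_mem m.2) (hxM b hb)) m.2) (inv_mem hb)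
    refine ⟨hmem, fun b' hb' => ?_⟩
    have h1 : (⟨_, hmem⟩ : M) ∈ center M := by
      rw [hker, MonoidHom.mem_ker]
      have h2 : (⟨_, hmem⟩ : M) = m⁻¹ * β ⟨b, hb⟩ * m * (⟨b, hb⟩ : M)⁻¹ := Subtype.ext he
      rw [h2, map_mul, map_mul, map_mul, map_inv, map_inv, ← hφ, hwφ, MulAut.conj_apply]
      group
    exact congrArg Subtype.val (mem_center_iff.1 h1 ⟨b', hb'⟩)
  have hmr : (m : G) * r = r * m := hcent m m.2
  have hcr : c * r * c⁻¹ = r * z := by
    rw [hc, show (m : G)⁻¹ * x * r * ((m : G)⁻¹ * x)⁻¹ = (m : G)⁻¹ * (x * r * x⁻¹) * m by group,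
      P.xr, mul_assoc (m : G)⁻¹, C.mul_z_mul, ← hmr, mul_assoc (m : G) r z, inv_mul_cancel_left]
  have hrM : r ∉ M := fun h => C.z1 (by
    have h1 := hcr
    rwa [← hcM r h, mul_inv_cancel_right, eq_comm, mul_eq_left] at h1)
  have hcZ : ∀ a : M, a ∈ center M → (a : G) ∈ (S : Subgroup G) → (a : G) = 1 ∨ (a : G) = z := by
    intro a ha haS
    rcases C.four_cases P.rr (hcenM a ha haS) with h | h | h | h
    · exact Or.inl h
    · exact Or.inr h
    · exact absurd (h ▸ a.2) hrM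
    · exfalso
      have h1 : r * z ∈ M := h ▸ a.2
      have h3 : (r * z) * (r * z) ∈ M := mul_mem h1 h1
      rw [C.sq_mul_z, P.rr] at h3
      have h4 := mul_mem h1 h3
      rw [mul_assoc, C.zz, mul_one] at h4
      exact hrM h4
  have hmm : (m : G) * m = 1 ∨ (m : G) * m = z := by
    refine hcZ (m * m) ?_ (mul_mem hmS hmS)
    rw [hker, MonoidHom.mem_ker, map_mul, hw2]
  have hxeq : x = m * c := by rw [hc, mul_inv_cancel_left]
  have hxm : Commute x (m : G) := by
    rw [hxeq]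
    exact (Commute.refl (m : G)).mul_left (hcM m m.2).symm
  have hcc₀ : c * c = ((m : G) * m)⁻¹ := by
    rw [hc, hxm.inv_right.mul_mul_mul_comm, P.xx, mul_one, mul_inv_rev]
  have hcne : c * c ≠ 1 := fun h => by
    rcases C.no_cent hperf hM1 h hcS hcM with e' | e' <;> rw [e'] at hcr
    · rw [one_mul, inv_one, mul_one, eq_comm, mul_eq_left] at hcr
      exact C.z1 hcr
    · rw [← C.comm r, mul_inv_cancel_right, eq_comm, mul_eq_left] at hcr
      exact C.z1 hcr
  have hmz : (m : G) * m = z := hmm.resolve_left fun h => hcne (by rw [hcc₀, h, inv_one])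
  have hcc : c * c = z := by rw [hcc₀, hmz, C.inv_z]
  have hzM : z ∈ M := hmz ▸ mul_mem m.2 m.2
  have hzcen : (⟨z, hzM⟩ : M) ∈ center M := mem_center_iff.2 fun g => Subtype.ext (C.comm g)
  have hτz : ∀ {a : M}, ((a : G) = 1 ∨ (a : G) = z) → τ a = 1 := by
    intro a ha
    rw [← MonoidHom.mem_ker, ← hker]
    rcases ha with h | h
    · rw [show a = 1 from Subtype.ext h]; exact one_mem _
    · rw [show a = ⟨z, hzM⟩ from Subtype.ext h]; exact hzcen
  have hτ1 : τ m ≠ 1 := fun h => by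
    rcases hcZ m (hker ▸ MonoidHom.mem_ker.2 h) hmS with e' | e'
    · exact C.z1 (by rw [← hmz, e', one_mul])
    · exact C.z1 (by rw [← hmz, e', C.zz])
  -- decomposition of the centralizer in `S`
  have hRdec : ∀ s ∈ (S : Subgroup G), s * r = r * s →
      ∃ k ∈ zpowers r, ∃ a ∈ (S : Subgroup G), a ∈ M ∧ s = k * a := by
    intro s hs hsr
    obtain ⟨k, hk, a, ha, e'⟩ := mem_sup_of_normal_left.1 (hR' (show (⟨s, hmH.2 hsr⟩ : H) ∈ R from hs))
    have es : (k : G) * a = s := congrArg Subtype.val e'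
    refine ⟨k, (hN₀mem k).1 hk, a, ?_, ⟨a, ha, rfl⟩, es.symm⟩
    have h1 : (k : G) ∈ (S : Subgroup G) := zpowers_le.2 P.rS ((hN₀mem k).1 hk)
    have h2 := mul_mem (inv_mem h1) hs
    rwa [← es, inv_mul_cancel_left] at h2
  -- elements with involution image have square `z`
  have hsqz : ∀ a : M, (a : G) ∈ (S : Subgroup G) → orderOf (τ a) = 2 → (a : G) * a = z := by
    intro a haS ha
    obtain ⟨n, hn, hne'⟩ := hXR.transitive Qb
      (CentralRankOne.orderOf_two hw2 hτ1) ha hwQ (hQb a.2 haS)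
    obtain ⟨n, rfl⟩ := hτs n
    set b := (n : G) * m * (n : G)⁻¹ with hb
    have hbM : b ∈ M := mul_mem (mul_mem n.2 m.2) (inv_mem n.2)
    set k := (a : G)⁻¹ * b with hk
    have hkM : k ∈ M := mul_mem (inv_mem a.2) hbM
    have hkc : (⟨k, hkM⟩ : M) ∈ center M := by
      rw [hker, MonoidHom.mem_ker, show (⟨k, hkM⟩ : M) = a⁻¹ * (n * m * n⁻¹) from rfl, map_mul,
        map_inv, map_mul, map_mul, map_inv, hne', inv_mul_cancel]
    have hkcomm : ∀ g ∈ M, g * k = k * g := fun g hg =>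
      congrArg Subtype.val (mem_center_iff.1 hkc ⟨g, hg⟩)
    obtain ⟨i, hi⟩ := CentralMeet.exists_pow_of_mem S.2 haS
    obtain ⟨j, hj⟩ := CentralMeet.exists_pow_of_mem S.2 hmS
    have hk2 : k ^ 2 ^ (i + j) = 1 := by
      have hab : Commute (a : G)⁻¹ b := by
        have : Commute (a : G) ((a : G) * k) := (Commute.refl _).mul_right (hkcomm a a.2)
        rw [hk, mul_inv_cancel_left] at this
        exact this.inv_left
      rw [hk, hab.mul_pow, inv_pow, show (2 : ℕ) ^ (i + j) = 2 ^ i * 2 ^ j from pow_add 2 i j,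
        pow_mul, hi, one_pow, inv_one, one_mul, pow_mul', hb, conj_pow, hj, mul_one, mul_inv_cancel,
        one_pow]
    have hkH : k * r = r * k := hcent k hkM
    have hkN : (⟨k, hmH.2 hkH⟩ : H) ∈ normalizer ((R : Subgroup H) : Set H) := by
      refine mem_normalizer_iff.2 fun s => ?_
      have key : ∀ s : H, s ∈ (R : Subgroup H) → k * s = (s : G) * k := fun s hs => by
        obtain ⟨k₁, hk₁, a₁, -, ha₁, es⟩ := hRdec s hs (hmH.1 s.2)
        rw [es]
        refine ((show Commute k k₁ from ?_).mul_right (hkcomm a₁ ha₁).symm).eq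
        obtain ⟨i, rfl⟩ := hk₁
        exact (show Commute k r from hkH).zpow_right i
      constructor
      · intro hs
        rw [hRmem] at hs ⊢
        show k * (s : G) * k⁻¹ ∈ (S : Subgroup G)
        rwa [key s hs, mul_inv_cancel_right]
      · intro hs
        have h1 := key _ hs
        change k * (k * (s : G) * k⁻¹) = k * (s : G) * k⁻¹ * k at h1
        rw [inv_mul_cancel_right, mul_right_inj, mul_inv_eq_iff_eq_mul] at h1
        rw [hRmem] at hs ⊢
        change k * (s : G) * k⁻¹ ∈ (S : Subgroup G) at hs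
        rwa [h1, mul_inv_cancel_right] at hs
    have hkS : k ∈ (S : Subgroup G) := (hRmem _).1
      (CentralMeet.mem_sylow_of_pow (S := R) hkN (k := i + j) (Subtype.ext (by simpa using hk2)))
    have hbb : b * b = z := by rw [hb, conj_mul_self, hmz, C.conj_z]
    have hak : (a : G) * k = b := by rw [hk, mul_inv_cancel_left]
    rcases hcZ ⟨k, hkM⟩ hkc hkS with h | h <;> change k = _ at h <;> rw [h] at hak
    · rw [mul_one] at hak; rw [hak]; exact hbb
    · rw [C.eq_mul_z hak.symm, C.sq_mul_z]; exact hbb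
  have huni : ∀ a ∈ (S : Subgroup G), a ∈ M → a * a = 1 → a = 1 ∨ a = z := by
    intro a haS haM haa
    by_contra hno
    refine C.z1 ((hsqz ⟨a, haM⟩ haS (CentralRankOne.orderOf_two ?_ fun h => ?_)).symm.trans haa)
    · rw [← map_mul, ← map_one τ]
      exact congrArg τ (Subtype.ext haa)
    · exact hno (hcZ ⟨a, haM⟩ (hker ▸ MonoidHom.mem_ker.2 h) haS)
  -- two involutions of the simple group
  obtain ⟨k, hkS, hkw, hk1⟩ : ∃ k : M, (k : G) ∈ (S : Subgroup G) ∧ orderOf (τ k) = 2 ∧ τ k ≠ τ m := by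
    obtain ⟨p, q, hp, hq, hpQ, hqQ, hpq⟩ := hXR.two_invols Qb
    by_cases h : p = τ m
    · obtain ⟨k, hkS, rfl⟩ := hQb' hqQ
      exact ⟨k, hkS, hq, fun e' => hpq (h.trans e'.symm)⟩
    · obtain ⟨k, hkS, rfl⟩ := hQb' hpQ
      exact ⟨k, hkS, hp, h⟩
  have hcen : ∀ a : M, (a : G) ∈ (S : Subgroup G) → ∀ b : M, (b : G) ∈ (S : Subgroup G) →
      (b : G) * b = z → (a : G) * b * (a : G)⁻¹ = b ∨ (a : G) * b * (a : G)⁻¹ = b * z := by
    intro a haS b hbS hbb
    by_cases hb1 : τ b = 1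
    · left
      have := congrArg Subtype.val (mem_center_iff.1 (show b ∈ center M from hker ▸ hb1) a)
      exact mul_inv_eq_iff_eq_mul.2 this
    · have h1 := (CentralMeet.mem_zs.1 (hXR.mem_zs_of_invol Qb (CentralRankOne.orderOf_two
        (by rw [← map_mul]; exact hτz (Or.inr hbb)) hb1) (hQb b.2 hbS))).2 _ (hQb a.2 haS)
      have h2 : b⁻¹ * (a * b * a⁻¹) ∈ center M := by
        rw [hker, MonoidHom.mem_ker, map_mul, map_mul, map_mul, h1, map_inv, map_inv,
          mul_inv_cancel_right, inv_mul_cancel]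
      rcases hcZ _ h2 (mul_mem (inv_mem hbS) (mul_mem (mul_mem haS hbS) (inv_mem haS))) with h | h
      · exact Or.inl (inv_mul_eq_one.1 h).symm
      · exact Or.inr (inv_mul_eq_iff_eq_mul.1 h)
  have hanti : ∀ a b : M, (a : G) ∈ (S : Subgroup G) → (b : G) ∈ (S : Subgroup G) →
      (a : G) * a = z → (b : G) * b = z → τ a ≠ τ b → (a : G) * b ≠ b * a := by
    intro a b haS hbS ha hb hne' hab
    have h1 : ((a : G) * b) * (a * b) = 1 := by
      rw [(show Commute (b : G) a from hab.symm).mul_mul_mul_comm, ha, hb, C.zz]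
    have h2 : τ (a * b) = 1 := hτz (huni _ (mul_mem haS hbS) (mul_mem a.2 b.2) h1)
    have h3 : τ b * τ b = 1 := by rw [← map_mul]; exact hτz (Or.inr hb)
    rw [map_mul] at h2
    exact hne' ((eq_inv_of_mul_eq_one_left h2).trans (inv_eq_of_mul_eq_one_right h3))
  have hkk : (k : G) * k = z := hsqz k hkS hkw
  have hsq : ∀ a ∈ (S : Subgroup G), a ∈ M → a * a = 1 ∨ a * a = z := by
    intro a haS haM
    obtain ⟨n, hn⟩ := CentralMeet.exists_pow_of_mem S.2 haS
    induction n generalizing a with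
    | zero => left; rw [show a = 1 by simpa using hn, one_mul]
    | succ n ih =>
      have h4 := ih (a * a) (mul_mem haS haS) (mul_mem haM haM)
        (by rw [← sq, ← pow_mul, ← pow_succ']; exact hn)
      rcases h4 with h | h
      · exact huni _ (mul_mem haS haS) (mul_mem haM haM) h
      · exfalso
        -- `j = a²` has order four, so is not a square
        obtain ⟨b, hbS, hbb, hbne⟩ : ∃ b : M, (b : G) ∈ (S : Subgroup G) ∧ (b : G) * b = z ∧
            τ (⟨a * a, mul_mem haM haM⟩ : M) ≠ τ b := by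
          by_cases hh : τ (⟨a * a, mul_mem haM haM⟩ : M) = τ m
          · exact ⟨k, hkS, hkk, fun e' => hk1 (e'.symm.trans hh)⟩
          · exact ⟨m, hmS, hmz, hh⟩
        refine hanti ⟨a * a, mul_mem haM haM⟩ b (mul_mem haS haS) hbS h hbb hbne ?_
        show a * a * (b : G) = b * (a * a)
        have hb' := hcen ⟨a, haM⟩ haS b hbS hbb
        change a * (b : G) * a⁻¹ = b ∨ a * (b : G) * a⁻¹ = b * z at hb'
        refine mul_inv_eq_iff_eq_mul.1 ?_
        rcases hb' with e' | e'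
        · rw [show a * a * (b : G) * (a * a)⁻¹ = a * (a * b * a⁻¹) * a⁻¹ by group, e', e']
        · rw [show a * a * (b : G) * (a * a)⁻¹ = a * (a * b * a⁻¹) * a⁻¹ by group, e',
            show a * ((b : G) * z) * a⁻¹ = (a * b * a⁻¹) * (a * z * a⁻¹) by group, C.conj_z, e',
            mul_assoc, C.zz, mul_one]
  refine ⟨c, M, ⟨hperf, hM1, hcent, hmax, hcS, hcc, hcr, hcM, hzM, hsq, huni,
    ⟨k, hkS, m, hmS, k.2, m.2, hanti k m hkS hmS hkk hmz hk1⟩,
    fun a haS haM ha => hcZ ⟨a, haM⟩ (mem_center_iff.2 fun g => Subtype.ext (ha g g.2)) haS, ?_⟩⟩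
  -- the factorisation
  intro s hs
  have hkfac : ∀ k₁ ∈ zpowers r, ∀ g ∈ M, g * k₁ = k₁ * g := by
    rintro _ ⟨i, rfl⟩ g hg
    exact ((show Commute g r from hcent g hg).zpow_right i).eq
  rcases P.rconj s hs with he | he
  · obtain ⟨k₁, hk₁, a, haS, haM, rfl⟩ := hRdec s hs (mul_inv_eq_iff_eq_mul.1 he)
    refine ⟨k₁, zpowers_le.2 P.rS hk₁, a, haS, hkfac k₁ hk₁, ?_, haM, rfl⟩
    rcases C.four_cases P.rr hk₁ with e | e | e | e <;> rw [e]
    · exact Or.inl (one_mul 1)
    · exact Or.inl C.zz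
    · exact Or.inr P.rr
    · exact Or.inr (by rw [C.sq_mul_z, P.rr])
  · have hxs : (x * s) * r = r * (x * s) := by
      refine mul_inv_eq_iff_eq_mul.1 ?_
      rw [show x * s * r * (x * s)⁻¹ = x * (s * r * s⁻¹) * x⁻¹ by group, he,
        show x * (r * z) * x⁻¹ = (x * r * x⁻¹) * (x * z * x⁻¹) by group, P.xr, C.conj_z, mul_assoc,
        C.zz, mul_one]
    obtain ⟨k₁, hk₁, a, haS, haM, hea⟩ := hRdec _ (mul_mem P.xS hs) hxs
    have hk₁S : k₁ ∈ (S : Subgroup G) := zpowers_le.2 P.rS hk₁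
    refine ⟨c * k₁, mul_mem hcS hk₁S, m * a, mul_mem hmS haS, fun g hg => ?_, ?_,
      mul_mem m.2 haM, ?_⟩
    · exact ((show Commute g c from hcM g hg).mul_right (hkfac k₁ hk₁ g hg)).eq
    · rcases C.four_cases P.rr hk₁ with e | e | e | e <;> rw [e]
      · rw [mul_one]; exact Or.inr hcc
      · rw [C.sq_mul_z]; exact Or.inr hcc
      · refine Or.inr ?_
        rw [show c * r * (c * r) = (c * r * c⁻¹) * (c * c) * r by group, hcr, hcc, mul_assoc r z z,
          C.zz, mul_one, P.rr]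
      · refine Or.inr ?_
        rw [← mul_assoc c r z, C.sq_mul_z, show c * r * (c * r) = (c * r * c⁻¹) * (c * c) * r by group,
          hcr, hcc, mul_assoc r z z, C.zz, mul_one, P.rr]
    · have hs' : s = x * (k₁ * a) := by rw [← hea, ← mul_assoc, P.xx, one_mul]
      rw [hs', hxeq, show (m : G) * c = c * m from hcM m m.2, mul_assoc c (m : G),
        ← mul_assoc (m : G), hkfac k₁ hk₁ m m.2, mul_assoc k₁, ← mul_assoc c k₁]

end Ctx

end CfsgLib.RankOneMeet
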