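import Cfsg.Agent.RankOneMeet.CyclicOneBad
import Cfsg.Agent.RankOneMeet.Comp
import Cfsg.Agent.Kinf.SylowExercises

/-!
# A Sylow 2-subgroup with two quaternion factors next to a single component is impossible
-/

set_option autoImplicit false
set_option linter.unusedSectionVars false
set_option linter.style.haveILetI false

namespace CfsgLib.RankOneMeet

open Subgroup
open CfsgLib.Bender

universe u

variable {G : Type u} [Group G] [Finite G]

/-- A 2-element of an overgroup of a Sylow 2-subgroup is conjugate into it there. -/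
theorem exists_conj_mem (S : Sylow 2 G) {H : Subgroup G} (hSH : (S : Subgroup G) ≤ H) {y : G}
    (hy : y ∈ H) {i : ℕ} (hi : y ^ 2 ^ i = 1) : ∃ k ∈ H, k * y * k⁻¹ ∈ (S : Subgroup G) := by
  haveI : Fact (Nat.Prime 2) := ⟨Nat.prime_two⟩
  obtain ⟨T, hT⟩ := CentralMeet.exists_sylow_mem (x := (⟨y, hy⟩ : H)) (k := i) (Subtype.ext (by
    simpa using hi))
  obtain ⟨k, hk⟩ := MulAction.exists_smul_eq H T (S.subtype hSH)
  refine ⟨k, k.2, ?_⟩
  have h1 : k * ⟨y, hy⟩ * k⁻¹ ∈ ((S.subtype hSH : Sylow 2 H) : Subgroup H) := by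
    rw [← hk, Sylow.coe_subgroup_smul]
    exact ⟨_, hT, rfl⟩
  exact h1

variable {z : G} {S : Sylow 2 G}

namespace Ctx

variable (C : Ctx z S)
include C

theorem of_zero_or_z {e g : G} (he : e = 1 ∨ e = z) : g * e = e * g := by
  rcases he with e' | e' <;> rw [e']
  · rw [one_mul, mul_one]
  · exact C.comm g

/-- Elements central in `S` modulo `z` are fused modulo `z` by the normalizer. -/
theorem fusion (N : Subgroup G) [N.Normal] (hN : ∀ g, g ∈ N ↔ g = 1 ∨ g = z) {a g : G}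
    (haS : a ∈ (S : Subgroup G))
    (ha : ∀ s ∈ (S : Subgroup G), s * a * s⁻¹ = a ∨ s * a * s⁻¹ = a * z)
    (hgS : g * a * g⁻¹ ∈ (S : Subgroup G))
    (hga : ∀ s ∈ (S : Subgroup G), s * (g * a * g⁻¹) * s⁻¹ = g * a * g⁻¹ ∨
      s * (g * a * g⁻¹) * s⁻¹ = g * a * g⁻¹ * z) :
    ∃ n ∈ normalizer ((S : Subgroup G) : Set G),
      n * a * n⁻¹ = g * a * g⁻¹ ∨ n * a * n⁻¹ = g * a * g⁻¹ * z := by
  haveI : Fact (Nat.Prime 2) := ⟨Nat.prime_two⟩
  set π := QuotientGroup.mk' N
  have hπz : π z = 1 := (QuotientGroup.eq_one_iff z).2 ((hN z).2 (Or.inr rfl))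
  have hcomm : ∀ b : G, (∀ s ∈ (S : Subgroup G), s * b * s⁻¹ = b ∨ s * b * s⁻¹ = b * z) →
      ∀ y ∈ (S.mapSurjective (f := π) (QuotientGroup.mk'_surjective N) : Subgroup (G ⧸ N)),
        π b * y = y * π b := by
    rintro b hb _ ⟨s, hs, rfl⟩
    refine (mul_inv_eq_iff_eq_mul.1 ?_).symm
    rw [← map_inv, ← map_mul, ← map_mul]
    rcases hb s hs with e | e <;> rw [e]
    rw [map_mul, hπz, mul_one]
  obtain ⟨n', hn', c, hc, hgc⟩ := Kinf.burnside_central
    (S.mapSurjective (f := π) (QuotientGroup.mk'_surjective N)) (a := π a) (g := π g)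
    (hcomm a ha) (by
      intro y hy
      rw [← map_inv, ← map_mul, ← map_mul]
      exact hcomm _ hga y hy)
  obtain ⟨n, rfl⟩ := QuotientGroup.mk'_surjective N n'
  have hsw : ∀ s : G, π s ∈ (S.mapSurjective (f := π) (QuotientGroup.mk'_surjective N) :
      Subgroup (G ⧸ N)) → s ∈ (S : Subgroup G) := by
    rintro s ⟨t, ht, e⟩
    have h1 : t⁻¹ * s ∈ N := QuotientGroup.eq.1 e
    rcases (hN _).1 h1 with h | h
    · rwa [← inv_mul_eq_one.1 h]
    · rw [inv_mul_eq_iff_eq_mul.1 h]; exact mul_mem ht C.zS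
  refine ⟨n, mem_normalizer_iff.2 fun s => ?_, ?_⟩
  · constructor
    · intro hs
      refine hsw _ ?_
      rw [map_mul, map_mul, map_inv]
      exact (mem_normalizer_iff.1 hn' (π s)).1 (mem_map_of_mem π hs)
    · intro hs
      refine hsw _ ((mem_normalizer_iff.1 hn' (π s)).2 ?_)
      rw [← map_inv, ← map_mul, ← map_mul]
      exact mem_map_of_mem π hs
  · have e : π (n * a * n⁻¹) = π (g * a * g⁻¹) := by
      rw [map_mul, map_mul, map_inv, map_mul, map_mul, map_inv, hgc,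
        show π n * c * π a * (π n * c)⁻¹ = π n * (c * π a) * c⁻¹ * (π n)⁻¹ by group, hc]
      group
    rcases (hN _).1 (QuotientGroup.eq.1 e.symm) with h | h
    · exact Or.inl (inv_mul_eq_one.1 h).symm
    · exact Or.inr (inv_mul_eq_iff_eq_mul.1 h)

/-- Two commuting elements with square `z` in a subgroup with one involution agree modulo `z`. -/
theorem eq_of_comm {Q : Subgroup G} (huni : ∀ a ∈ Q, a * a = 1 → a = 1 ∨ a = z) {a b : G}
    (ha : a ∈ Q) (hb : b ∈ Q) (haa : a * a = z) (hbb : b * b = z) (hab : a * b = b * a) :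
    b = a ∨ b = a * z := by
  have h1 : (a * b) * (a * b) = 1 := by
    rw [(show Commute b a from hab.symm).mul_mul_mul_comm, haa, hbb, C.zz]
  have hinv : a⁻¹ = a * z := inv_eq_of_mul_eq_one_right (by rw [← mul_assoc, haa, C.zz])
  rcases huni _ (mul_mem ha hb) h1 with h | h
  · exact Or.inr (by rw [eq_inv_of_mul_eq_one_right h, hinv])
  · refine Or.inl ?_
    rw [← inv_mul_cancel_left a b, h, hinv, mul_assoc, C.zz, mul_one]

/-- Nothing else commutes with two elements of square `z` that do not commute. -/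
theorem centre_eq {Q : Subgroup G} (huni : ∀ a ∈ Q, a * a = 1 → a = 1 ∨ a = z)
    (hsq : ∀ a ∈ Q, a * a = 1 ∨ a * a = z) {a u v : G}
    (ha : a ∈ Q) (hu : u ∈ Q) (huv : u * v ≠ v * u) (hau : a * u = u * a) (hav : a * v = v * a) :
    a = 1 ∨ a = z := by
  rcases hsq a ha with h | h
  · exact huni a ha h
  rcases hsq u hu with h' | h'
  · exact absurd (C.of_zero_or_z (g := v) (huni u hu h')).symm huv
  rcases C.eq_of_comm huni ha hu h h' hau with e | e <;> rw [e] at huv
  · exact absurd hav huv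
  · exact absurd ((show Commute a v from hav).mul_left (C.comm v).symm).eq huv

/-- Squares in `{1, z}` make commutators lie there. -/
theorem comm_cases {Q : Subgroup G} (hsq : ∀ a ∈ Q, a * a = 1 ∨ a * a = z) {a b : G}
    (ha : a ∈ Q) (hb : b ∈ Q) : a * b * a⁻¹ = b ∨ a * b * a⁻¹ = b * z := by
  have e : a * b * a⁻¹ = (a * b) * (a * b) * b⁻¹ * (a * a)⁻¹ := by group
  have hb' : b⁻¹ = b ∨ b⁻¹ = b * z := by
    rcases hsq b hb with h | h
    · exact Or.inl (inv_eq_of_mul_eq_one_right h)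
    · exact Or.inr (inv_eq_of_mul_eq_one_right (by rw [← mul_assoc, h, C.zz]))
  have hzb : ∀ w, z * (b * w) = b * (z * w) := fun w => by
    rw [← mul_assoc, ← C.comm b, mul_assoc]
  rcases hb' with h3 | h3 <;> rcases hsq _ (mul_mem ha hb) with h1 | h1 <;>
    rcases hsq a ha with h2 | h2 <;> rw [e, h3, h1, h2] <;>
    simp [C.inv_z, ← C.comm b, hzb, mul_assoc, C.zz]

/-- Two quaternion factors: contradiction. -/
theorem quaternion_false (hzP : z ∈ Cfsg.pCore 2 G) (hPz : ∀ p ∈ Cfsg.pCore 2 G, p = 1 ∨ p = z)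
    {M₀ : Subgroup G} [M₀.Normal] (hM₀ : Cfsg.IsComponent M₀)
    (hcentM₀ : centralizer (M₀ : Set G) = Cfsg.pCore 2 G) {x r : G} (P : Pair z S x r)
    (hF : Four z S r) : False := by
  haveI : Fact (Nat.Prime 2) := ⟨Nat.prime_two⟩
  obtain ⟨c, M, R⟩ := C.residual P hF
  set QS := (S : Subgroup G) ⊓ centralizer (M : Set G) with hQS
  set Q₁ := (S : Subgroup G) ⊓ M with hQ₁
  have hQS' : ∀ {q : G}, q ∈ QS ↔ q ∈ (S : Subgroup G) ∧ ∀ m ∈ M, m * q = q * m := fun {q} => by
    rw [hQS, mem_inf, mem_centralizer_iff]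
    rfl
  have hzM : ∀ m ∈ M, m * z = z * m := fun m _ => C.comm m
  have hcomm : ∀ q ∈ QS, ∀ a ∈ Q₁, q * a = a * q := fun q hq a ha =>
    ((hQS'.1 hq).2 a (mem_inf.1 ha).2).symm
  have huni : ∀ q ∈ QS, q * q = 1 → q = 1 ∨ q = z := fun q hq h =>
    C.no_cent R.perfect R.ne_bot h (hQS'.1 hq).1 (hQS'.1 hq).2
  have huni₁ : ∀ a ∈ Q₁, a * a = 1 → a = 1 ∨ a = z := fun a ha h => R.uni a ha.1 ha.2 h
  have hsq₁ : ∀ a ∈ Q₁, a * a = 1 ∨ a * a = z := fun a ha => R.sq a ha.1 ha.2
  have hsq : ∀ q ∈ QS, q * q = 1 ∨ q * q = z := by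
    intro q hq
    obtain ⟨q₀, hq₀, a, ha, hq₀M, hq₀sq, haM, rfl⟩ := R.gen q (hQS'.1 hq).1
    have hac : ∀ m ∈ M, m * a = a * m := fun m hm => by
      have h1 := (hQS'.1 hq).2 m hm
      rw [← mul_assoc, hq₀M m hm, mul_assoc, mul_assoc] at h1
      exact mul_left_cancel h1
    rcases R.small a ha haM hac with e | e <;> rw [e]
    · rwa [mul_one]
    · rwa [C.sq_mul_z]
  have hinter : ∀ a ∈ QS, a ∈ Q₁ → a * a ≠ z := fun a ha ha1 h => by
    rcases R.small a ha1.1 ha1.2 (hQS'.1 ha).2 with e | e <;> rw [e] at h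
    · exact C.z1 (by rw [← h, one_mul])
    · exact C.z1 (by rw [← h, C.zz])
  have horder4 : ∀ s ∈ (S : Subgroup G), s * s = z → s ∈ QS ∨ s ∈ Q₁ := by
    intro s hs hss
    obtain ⟨q, hq, a, ha, hqM, hqsq, haM, rfl⟩ := R.gen s hs
    have hqQ : q ∈ QS := hQS'.2 ⟨hq, hqM⟩
    have haQ : a ∈ Q₁ := ⟨ha, haM⟩
    rcases hqsq with h | h
    · refine Or.inr ⟨hs, M.mul_mem ?_ haM⟩
      rcases huni q hqQ h with e | e <;> rw [e]
      exacts [one_mem M, R.zM]
    rcases hsq₁ a haQ with h' | h'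
    · refine Or.inl (mul_mem hqQ (hQS'.2 ⟨ha, fun m hm => ?_⟩))
      exact C.of_zero_or_z (huni₁ a haQ h')
    · exfalso
      rw [(show Commute a q from (hcomm q hqQ a haQ).symm).mul_mul_mul_comm, h, h', C.zz] at hss
      exact C.z1 hss.symm
  have hcommS : ∀ s ∈ (S : Subgroup G), ∀ t ∈ (S : Subgroup G),
      s * t * s⁻¹ = t ∨ s * t * s⁻¹ = t * z := by
    intro s hs t ht
    obtain ⟨q, hq, a, ha, hqM, -, haM, rfl⟩ := R.gen s hs
    obtain ⟨q', hq', a', ha', hqM', -, haM', rfl⟩ := R.gen t ht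
    have e : q * a * (q' * a') * (q * a)⁻¹ = (q * q' * q⁻¹) * (a * a' * a⁻¹) := by
      calc q * a * (q' * a') * (q * a)⁻¹ = q * (a * q') * (a' * a⁻¹) * q⁻¹ := by group
        _ = q * (q' * a) * (a' * a⁻¹) * q⁻¹ := by rw [hqM' a haM]
        _ = q * q' * ((a * a' * a⁻¹) * q⁻¹) := by group
        _ = q * q' * (q⁻¹ * (a * a' * a⁻¹)) := by
          rw [((show Commute (a * a' * a⁻¹) q from
            hqM _ (M.mul_mem (M.mul_mem haM haM') (M.inv_mem haM))).inv_right).eq]
        _ = (q * q' * q⁻¹) * (a * a' * a⁻¹) := by group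
    rw [e]
    rcases C.comm_cases hsq (hQS'.2 ⟨hq, hqM⟩) (hQS'.2 ⟨hq', hqM'⟩) with e1 | e1 <;>
      rcases C.comm_cases hsq₁ (a := a) (b := a') ⟨ha, haM⟩ ⟨ha', haM'⟩ with e2 | e2 <;>
      rw [e1, e2]
    · exact Or.inl rfl
    · exact Or.inr (mul_assoc q' a' z).symm
    · exact Or.inr (C.mul_z_mul q' a')
    · refine Or.inl ?_
      rw [C.mul_z_mul, ← mul_assoc, mul_assoc _ z z, C.zz, mul_one]
  have hrQ : r ∈ QS := hQS'.2 ⟨P.rS, R.cent⟩
  have hcQ : c ∈ QS := hQS'.2 ⟨R.cS, R.cM⟩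
  have hrc : r * c ≠ c * r := fun e => C.z1 (by
    have h1 := R.cr
    rwa [← e, mul_inv_cancel_right, eq_comm, mul_eq_left] at h1)
  obtain ⟨a₀, ha₀S, b₀, hb₀S, ha₀M, hb₀M, hab⟩ := R.noncomm
  have ha₀ : a₀ ∈ Q₁ := ⟨ha₀S, ha₀M⟩
  have hb₀ : b₀ ∈ Q₁ := ⟨hb₀S, hb₀M⟩
  have hsqz : ∀ {Q : Subgroup G}, (∀ a ∈ Q, a * a = 1 → a = 1 ∨ a = z) →
      (∀ a ∈ Q, a * a = 1 ∨ a * a = z) → ∀ a ∈ Q, ∀ b, a * b ≠ b * a → a * a = z :=
    fun {Q} h1 h2 a ha b hb =>
      (h2 a ha).resolve_left fun h => hb (C.of_zero_or_z (g := b) (h1 a ha h)).symm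
  have haz : a₀ * a₀ = z := hsqz huni₁ hsq₁ a₀ ha₀ b₀ hab
  have hbz : b₀ * b₀ = z := hsqz huni₁ hsq₁ b₀ hb₀ a₀ (Ne.symm hab)
  -- the residual of the other elements of order four of `QS`
  have hresid : ∀ r' ∈ QS, r' * r' = z → ∀ K : Subgroup G, ⁅K, K⁆ = K →
      (∀ k ∈ K, k * r' = r' * k) → K ≤ M := by
    intro r' hr' hrr'
    obtain ⟨q, hq, hqr⟩ : ∃ q ∈ QS, q * r' ≠ r' * q := by
      by_contra hno
      push Not at hno
      rcases C.centre_eq huni hsq hr' hrQ hrc (hno r hrQ).symm (hno c hcQ).symm with e | e <;>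
        rw [e] at hrr'
      · exact C.z1 (by rw [← hrr', one_mul])
      · exact C.z1 (by rw [← hrr', C.zz])
    have hqq : q * q = z := hsqz huni hsq q hq r' hqr
    have hr'S := (hQS'.1 hr').1
    have hqS := (hQS'.1 hq).1
    have P' : Pair z S (q * a₀) r' := by
      refine ⟨mul_mem hqS ha₀S, ?_, fun s hs => hcommS s hs _ (mul_mem hqS ha₀S), hr'S, hrr',
        fun s hs => hcommS s hs r' hr'S, ?_, ?_⟩
      · rw [(show Commute a₀ q from (hcomm q hq a₀ ha₀).symm).mul_mul_mul_comm, hqq, haz, C.zz]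
      · rw [show q * a₀ * r' * (q * a₀)⁻¹ = q * (a₀ * r' * a₀⁻¹) * q⁻¹ by group,
          ← hcomm r' hr' a₀ ha₀, mul_inv_cancel_right]
        exact (C.comm_cases hsq hq hr').resolve_left fun e => hqr (mul_inv_eq_iff_eq_mul.1 e)
      · by_contra hno
        push Not at hno
        refine perfect_not_solvable R.perfect R.ne_bot (isSolvable_of_le_normalizer (S := S)
          fun m hm => hno m ((hQS'.1 hr').2 m hm))
    have hne1 : ∀ a ∈ Q₁, a * a = z → r' * a ≠ 1 ∧ r' * a ≠ z := by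
      intro a ha haa
      constructor <;> intro e
      · refine hinter a ?_ ha haa
        rw [eq_inv_of_mul_eq_one_right e]
        exact inv_mem hr'
      · refine hinter a ?_ ha haa
        rw [eq_inv_mul_of_mul_eq e]
        exact mul_mem (inv_mem hr') (hQS'.2 ⟨C.zS, hzM⟩)
    have hd : ∀ a ∈ Q₁, a * a = z → (r' * a) * (r' * a) = 1 := fun a ha haa => by
      rw [(show Commute a r' from (hcomm r' hr' a ha).symm).mul_mul_mul_comm, hrr', haa, C.zz]
    have hdr : ∀ a ∈ Q₁, r' * a * r' = r' * (r' * a) := fun a ha => by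
      rw [mul_assoc, ← hcomm r' hr' a ha]
    have F' : Four z S r' := by
      refine ⟨r' * a₀, mul_mem hr'S ha₀S, r' * b₀, mul_mem hr'S hb₀S, hd a₀ ha₀ haz,
        (hne1 a₀ ha₀ haz).1, (hne1 a₀ ha₀ haz).2, hdr a₀ ha₀, hd b₀ hb₀ hbz,
        (hne1 b₀ hb₀ hbz).1, (hne1 b₀ hb₀ hbz).2, hdr b₀ hb₀, ?_, ?_⟩
      · exact fun e => hab (by rw [mul_left_cancel e])
      · intro e
        rw [mul_assoc] at e
        exact hab (by rw [mul_left_cancel e, ← mul_assoc, mul_assoc a₀ z, ← C.comm a₀, mul_assoc])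
    obtain ⟨c', M', R'⟩ := C.residual P' F'
    have hMM' : M ≤ M' := R'.max M R.perfect fun m hm => (hQS'.1 hr').2 m hm
    have hc'Q : c' ∈ QS := hQS'.2 ⟨R'.cS, fun m hm => R'.cM m (hMM' hm)⟩
    have hc'r : c' * r' ≠ r' * c' := fun e => C.z1 (by
      have h1 := R'.cr
      rwa [e, mul_inv_cancel_right, eq_comm, mul_eq_left] at h1)
    have hrM' : ∀ m ∈ M', m * r = r * m := by
      intro m hm
      have hc1 : Commute m r' := R'.cent m hm
      have hc2 : Commute m c' := R'.cM m hm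
      have hcz : Commute m z := C.comm m
      by_cases h1 : r' * r = r * r'
      · rcases C.eq_of_comm huni hr' hrQ hrr' P.rr h1 with e | e <;> rw [e]
        exacts [hc1, (hc1.mul_right hcz).eq]
      by_cases h2 : c' * r = r * c'
      · rcases C.eq_of_comm huni hc'Q hrQ R'.cc P.rr h2 with e | e <;> rw [e]
        exacts [hc2, (hc2.mul_right hcz).eq]
      have e1 : r * r' * r⁻¹ = r' * z :=
        (C.comm_cases hsq hrQ hr').resolve_left fun e => h1 (mul_inv_eq_iff_eq_mul.1 e).symm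
      have e2 : r * c' * r⁻¹ = c' * z :=
        (C.comm_cases hsq hrQ hc'Q).resolve_left fun e => h2 (mul_inv_eq_iff_eq_mul.1 e).symm
      have e3 : (r' * c') * r = r * (r' * c') := by
        refine (mul_inv_eq_iff_eq_mul.1 ?_).symm
        rw [show r * (r' * c') * r⁻¹ = (r * r' * r⁻¹) * (r * c' * r⁻¹) by group, e1, e2,
          C.mul_z_mul, ← mul_assoc, mul_assoc _ z z, C.zz, mul_one]
      have e4 : (r' * c') * (r' * c') = z := by
        refine (hsq _ (mul_mem hr' hc'Q)).resolve_left fun h => hc'r ?_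
        rcases huni _ (mul_mem hr' hc'Q) h with e | e
        · rw [eq_inv_of_mul_eq_one_right e, inv_mul_cancel, mul_inv_cancel]
        · rw [eq_inv_mul_of_mul_eq e, mul_inv_cancel_left, mul_assoc, ← C.comm r',
            inv_mul_cancel_left]
      rcases C.eq_of_comm huni (mul_mem hr' hc'Q) hrQ e4 P.rr e3 with e | e <;> rw [e]
      exacts [(hc1.mul_right hc2).eq, ((hc1.mul_right hc2).mul_right hcz).eq]
    intro K hK hKr
    exact (R'.max K hK hKr).trans (R.max M' R'.perfect hrM')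
  -- the normalizer of `S` keeps `QS`
  have hNQ : ∀ n ∈ normalizer ((S : Subgroup G) : Set G), n * r * n⁻¹ ∈ QS := by
    intro n hn
    obtain ⟨j, o, ho, hjo⟩ := Nat.exists_eq_pow_mul_and_not_dvd (orderOf_pos n).ne' 2 (by norm_num)
    have hoS : n ^ o ∈ (S : Subgroup G) := CentralMeet.mem_sylow_of_pow (pow_mem hn o) (k := j)
      (by rw [← pow_mul, mul_comm, ← hjo, pow_orderOf_eq_one])
    set A := n * r * n⁻¹ with hA
    set B := n * c * n⁻¹ with hB
    have hAA : A * A = z := by rw [hA, conj_mul_self, P.rr, C.conj_z]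
    have hBB : B * B = z := by rw [hB, conj_mul_self, R.cc, C.conj_z]
    have hconjS : ∀ s ∈ (S : Subgroup G), n * s * n⁻¹ ∈ (S : Subgroup G) :=
      fun s hs => (mem_normalizer_iff.1 hn s).1 hs
    have hinj : ∀ u v : G, n * u * n⁻¹ * (n * v * n⁻¹) = n * v * n⁻¹ * (n * u * n⁻¹) →
        u * v = v * u := fun u v e => (MulAut.conj n).injective (by
      simpa only [map_mul, MulAut.conj_apply] using e)
    by_contra hAQ
    have hA1 : A ∈ Q₁ := (horder4 A (hconjS r P.rS) hAA).resolve_left hAQ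
    have hB1 : B ∈ Q₁ := (horder4 B (hconjS c R.cS) hBB).resolve_left
      fun h => hrc (hinj r c (hcomm B h A hA1).symm)
    have hQ1 : ∀ q ∈ QS, q * q = z → n * q * n⁻¹ ∈ Q₁ := by
      intro q hq hqq
      refine (horder4 _ (hconjS q (hQS'.1 hq).1) (by rw [conj_mul_self, hqq, C.conj_z])).resolve_left
        fun h => ?_
      rcases C.centre_eq huni hsq hq hrQ hrc (hinj q r (hcomm _ h A hA1)) (hinj q c (hcomm _ h B hB1))
        with e | e <;> rw [e] at hqq
      · exact C.z1 (by rw [← hqq, one_mul])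
      · exact C.z1 (by rw [← hqq, C.zz])
    have h1Q : ∀ a ∈ Q₁, a * a = z → n * a * n⁻¹ ∈ QS := by
      intro a ha haa
      have hAa : ∀ q ∈ QS, n * a * n⁻¹ * (n * q * n⁻¹) = n * q * n⁻¹ * (n * a * n⁻¹) := fun q hq => by
        rw [show n * a * n⁻¹ * (n * q * n⁻¹) = n * (a * q) * n⁻¹ by group, ← hcomm q hq a ha]
        group
      refine (horder4 _ (hconjS a ha.1) (by rw [conj_mul_self, haa, C.conj_z])).resolve_right
        fun h => ?_
      have hAB : A * B ≠ B * A := fun e => hrc (hinj r c e)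
      have h2 : n * a * n⁻¹ * (n * a * n⁻¹) = z := by rw [conj_mul_self, haa, C.conj_z]
      rcases C.centre_eq huni₁ hsq₁ h hA1 hAB (hAa r hrQ) (hAa c hcQ) with e | e <;> rw [e] at h2
      · exact C.z1 (by rw [← h2, one_mul])
      · exact C.z1 (by rw [← h2, C.zz])
    have hsqpow : ∀ i : ℕ, n ^ i * r * (n ^ i)⁻¹ * (n ^ i * r * (n ^ i)⁻¹) = z := fun i => by
      rw [conj_mul_self, P.rr, C.conj_z]
    have halt : ∀ i : ℕ, (Even i → n ^ i * r * (n ^ i)⁻¹ ∈ QS) ∧
        (Odd i → n ^ i * r * (n ^ i)⁻¹ ∈ Q₁) := by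
      intro i
      induction i with
      | zero =>
        refine ⟨fun _ => by rw [pow_zero, one_mul, inv_one, mul_one]; exact hrQ, fun h => ?_⟩
        exact absurd h (by decide)
      | succ i ih =>
        have e : n ^ (i + 1) * r * (n ^ (i + 1))⁻¹ = n * (n ^ i * r * (n ^ i)⁻¹) * n⁻¹ := by
          rw [pow_succ']; group
        rw [e]
        refine ⟨fun h => h1Q _ (ih.2 ?_) (hsqpow i), fun h => hQ1 _ (ih.1 ?_) (hsqpow i)⟩
        · exact Nat.not_even_iff_odd.1 (Nat.even_add_one.1 h)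
        · exact Nat.not_odd_iff_even.1 (Nat.odd_add_one.1 h)
    refine hinter _ ?_ ((halt o).2 (Nat.not_even_iff_odd.1 fun h => ho (even_iff_two_dvd.1 h)))
      (hsqpow o)
    rcases P.rconj _ hoS with e | e <;> rw [e]
    exacts [hrQ, mul_mem hrQ (hQS'.2 ⟨C.zS, hzM⟩)]
  have hNM : ∀ g : G, g * r * g⁻¹ ∈ QS → g ∈ normalizer (M : Set G) := by
    intro g hg
    refine LocalB.mem_normalizer_of_conj_le fun m hm => ?_
    refine hresid _ hg (by rw [conj_mul_self, P.rr, C.conj_z]) (M.map (MulAut.conj g).toMonoidHom)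
      (by rw [← map_commutator, R.perfect]) ?_ ⟨m, hm, rfl⟩
    rintro _ ⟨k, hk, rfl⟩
    exact ((show Commute k r from R.cent k hk).map (MulAut.conj g).toMonoidHom).eq
  have hSM : (S : Subgroup G) ≤ normalizer (M : Set G) := fun s hs => hNM s (by
    rcases P.rconj s hs with e | e <;> rw [e]
    exacts [hrQ, mul_mem hrQ (hQS'.2 ⟨C.zS, hzM⟩)])
  have hfus : ∀ g : G, g * r * g⁻¹ ∈ (S : Subgroup G) → g * r * g⁻¹ ∈ QS ∧
      g ∈ normalizer (M : Set G) := by
    intro g hg
    obtain ⟨n, hn, h⟩ := C.fusion (Cfsg.pCore 2 G)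
      (fun y => ⟨hPz y, fun h => h.elim (fun e => e ▸ one_mem _) fun e => e ▸ hzP⟩)
      P.rS P.rconj hg (fun s hs => hcommS s hs _ hg)
    have hg' : g * r * g⁻¹ ∈ QS := by
      rcases h with e | e
      · exact e ▸ hNQ n hn
      · rw [C.eq_mul_z e]
        exact mul_mem (hNQ n hn) (hQS'.2 ⟨C.zS, hzM⟩)
    exact ⟨hg', hNM g hg'⟩
  -- the image modulo `⟨z⟩`
  set π := QuotientGroup.mk' (centralizer (M₀ : Set G)) with hπ
  have hker : ∀ g : G, π g = 1 ↔ g = 1 ∨ g = z := fun g => by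
    rw [← MonoidHom.mem_ker, QuotientGroup.ker_mk', hcentM₀]
    exact ⟨hPz g, fun h => h.elim (fun e => e ▸ one_mem _) fun e => e ▸ hzP⟩
  have hπz : π z = 1 := (hker z).2 (Or.inr rfl)
  have hπeq : ∀ a b : G, π a = π b → b = a ∨ b = a * z := fun a b e => by
    rcases (hker (a⁻¹ * b)).1 (by rw [map_mul, map_inv, e, inv_mul_cancel]) with h | h
    · exact Or.inl (inv_mul_eq_one.1 h).symm
    · exact Or.inr (inv_mul_eq_iff_eq_mul.1 h)
  have hπS : ∀ {g : G}, π g ∈ (S : Subgroup G).map π → g ∈ (S : Subgroup G) := by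
    rintro g ⟨s, hs, e⟩
    rcases hπeq s g e with h | h <;> rw [h]
    exacts [hs, mul_mem hs C.zS]
  have hzN : z ∈ normalizer (M : Set G) := hSM C.zS
  set H' := (normalizer (M : Set G)).map π with hH'
  have hH'mem : ∀ {g : G}, π g ∈ H' → g ∈ normalizer (M : Set G) := by
    rintro g ⟨s, hs, e⟩
    rcases hπeq s g e with h | h <;> rw [h]
    exacts [hs, mul_mem hs hzN]
  haveI := hM₀.2.2
  haveI : IsSimpleGroup (socle M₀) := (socleEquiv M₀).symm.isSimpleGroup
  have hperf₀ := Comp.component_perfect hM₀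
  have hXH : ¬ socle M₀ ≤ H' := by
    intro hle
    have hnorm : M₀ ≤ normalizer (M : Set G) := fun m hm => hH'mem (hle ⟨m, hm, rfl⟩)
    haveI : (M.subgroupOf M₀).Normal :=
      ⟨fun a ha g => (mem_normalizer_iff.1 (hnorm g.2) (a : G)).1 ha⟩
    rcases Comp.quasisimple_normal hM₀.2 (H := M.subgroupOf M₀) inferInstance with e | e
    · have hc : c ∈ centralizer (M₀ : Set G) := mem_centralizer_iff.2 fun m hm =>
        R.cM m (subgroupOf_eq_top.1 e hm)
      rw [hcentM₀] at hc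
      have h1 := R.cc
      rcases hPz c hc with h | h <;> rw [h] at h1
      · exact C.z1 (by rw [← h1, one_mul])
      · exact C.z1 (by rw [← h1, C.zz])
    · have hc : M ≤ centralizer (M₀ : Set G) := fun m hm => by
        refine mem_centralizer_iff.2 (commute_of_perfect hperf₀ fun k hk => ?_)
        have h1 : m * k * m⁻¹ * k⁻¹ ∈ M₀ :=
          M₀.mul_mem ((inferInstance : M₀.Normal).conj_mem k hk m) (M₀.inv_mem hk)
        have h2 : m * k * m⁻¹ * k⁻¹ ∈ M := by
          rw [show m * k * m⁻¹ * k⁻¹ = m * (k * m⁻¹ * k⁻¹) by group]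
          exact mul_mem hm ((mem_normalizer_iff.1 (hnorm hk) _).1 (inv_mem hm))
        exact ⟨h1, fun k' hk' => congrArg Subtype.val
          (mem_center_iff.1 (e (show (⟨_, h1⟩ : M₀) ∈ M.subgroupOf M₀ from h2)) ⟨k', hk'⟩)⟩
      rw [hcentM₀] at hc
      exact hab (C.of_zero_or_z (g := a₀) (hPz b₀ (hc hb₀M)))
  have hπr : orderOf (π r) = 2 := by
    refine CentralRankOne.orderOf_two ((map_mul π r r).symm.trans (by rw [P.rr, hπz])) fun h => ?_
    rcases (hker r).1 h with e | e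
    · exact (C.r_ne P).1 e
    · exact (C.r_ne P).2 e
  have hK : ∀ g : G, g * r * g⁻¹ = r ∨ g * r * g⁻¹ = r * z → g ∈ normalizer (M : Set G) :=
    fun g hg => hNM g (by
      rcases hg with e | e <;> rw [e]
      exacts [hrQ, mul_mem hrQ (hQS'.2 ⟨C.zS, hzM⟩)])
  obtain ⟨hrX, hse, -⟩ := se_socle (socle M₀) (centralizer_socle M₀ hperf₀) hXH hπr
    (mem_map_of_mem π (hSM P.rS))
    ⟨S.mapSurjective (QuotientGroup.mk'_surjective _), mem_map_of_mem π P.rS, by
      rintro _ ⟨s, hs, rfl⟩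
      refine mul_inv_eq_iff_eq_mul.1 ?_
      rw [← map_inv, ← map_mul, ← map_mul]
      rcases hcommS s hs r P.rS with e | e <;> rw [e]
      rw [map_mul, hπz, mul_one]⟩
    (fun g' hg' => by
      obtain ⟨g, rfl⟩ := QuotientGroup.mk'_surjective _ g'
      rw [← map_inv, ← map_mul, ← map_mul] at hg'
      obtain ⟨k, hk, hkS⟩ := exists_conj_mem S hSM (hH'mem hg') (i := 2) (by
        rw [show (2 : ℕ) ^ 2 = 4 from rfl, ← mul_self_mul_self, conj_mul_self, P.rr, C.conj_z,
          C.zz])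
      rw [show k * (g * r * g⁻¹) * k⁻¹ = k * g * r * (k * g)⁻¹ by group] at hkS
      have h1 := mul_mem (inv_mem hk) (hfus _ hkS).2
      rw [inv_mul_cancel_left] at h1
      exact mem_map_of_mem π h1)
    (fun g' hcomm' hne' => by
      obtain ⟨g, rfl⟩ := QuotientGroup.mk'_surjective _ g'
      rw [← map_inv, ← map_mul, ← map_mul] at hcomm' hne' ⊢
      rw [← map_mul π r]
      set y := g * r * g⁻¹ with hy
      have hyy : y * y = z := by rw [hy, conj_mul_self, P.rr, C.conj_z]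
      let K : Subgroup G := (centralizer ({π r} : Set _)).comap π
      have hKmem : ∀ k ∈ K, k * r * k⁻¹ = r ∨ k * r * k⁻¹ = r * z := fun k hk => hπeq _ _ (by
        rw [map_mul, map_mul, map_inv, mem_centralizer_singleton_iff.1 hk, mul_inv_cancel_right])
      have hSK : (S : Subgroup G) ≤ K := fun s hs => mem_centralizer_singleton_iff.2 (by
        refine mul_inv_eq_iff_eq_mul.1 ?_
        rw [← map_inv, ← map_mul, ← map_mul]
        rcases P.rconj s hs with e | e <;> rw [e]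
        rw [map_mul, hπz, mul_one])
      obtain ⟨k, hk, hkS⟩ := exists_conj_mem S hSK (y := y)
        (mem_centralizer_singleton_iff.2 hcomm'.eq.symm) (i := 2)
        (by rw [show (2 : ℕ) ^ 2 = 4 from rfl, ← mul_self_mul_self, hyy, C.zz])
      have hyQ : k * y * k⁻¹ ∈ QS := by
        have e : k * y * k⁻¹ = k * g * r * (k * g)⁻¹ := by rw [hy]; group
        rw [e] at hkS ⊢
        exact (hfus _ hkS).1
      have hkr : k * r * k⁻¹ ∈ QS := by
        rcases hKmem k hk with e | e <;> rw [e]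
        exacts [hrQ, mul_mem hrQ (hQS'.2 ⟨C.zS, hzM⟩)]
      set p := k * (r * y) * k⁻¹ with hp
      have hpQ : p ∈ QS := by
        rw [show p = (k * r * k⁻¹) * (k * y * k⁻¹) by rw [hp]; group]
        exact mul_mem hkr hyQ
      have hp1 : ¬ (p = 1 ∨ p = z) := fun h => hne' (by
        have h1 : π (r * y) = 1 := (hker _).2 (h.imp conj_eq_one_iff.1 fun e => by
          rw [show r * y = k⁻¹ * (k * (r * y) * k⁻¹) * k by group, ← hp, e, C.comm, mul_assoc,
            inv_mul_cancel, mul_one])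
        rw [map_mul] at h1
        rw [eq_inv_of_mul_eq_one_right h1]
        exact inv_eq_of_mul_eq_one_right ((map_mul π r r).symm.trans (by rw [P.rr, hπz])))
      have hpp : p * p = z := (hsq p hpQ).resolve_left fun h => hp1 (huni p hpQ h)
      intro h' hh'
      obtain ⟨h, rfl⟩ := QuotientGroup.mk'_surjective _ h'
      have hkk : k ∈ normalizer (M : Set G) := hK k (hKmem k hk)
      have h1 : k * h * k⁻¹ ∈ normalizer (M : Set G) := by
        refine LocalB.mem_normalizer_of_conj_le fun m hm => ?_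
        have hfix : k * h * k⁻¹ * p * (k * h * k⁻¹)⁻¹ ∈ QS := by
          have e := hπeq (r * y) (h * (r * y) * h⁻¹) (by
            rw [map_mul π (h * (r * y)), map_mul π h, map_inv,
              mem_centralizer_singleton_iff.1 hh', mul_inv_cancel_right])
          rw [show k * h * k⁻¹ * p * (k * h * k⁻¹)⁻¹ = k * (h * (r * y) * h⁻¹) * k⁻¹ by
            rw [hp]; group]
          rcases e with e | e <;> rw [e]
          · exact hp ▸ hpQ
          · rw [show k * (r * y * z) * k⁻¹ = (k * (r * y) * k⁻¹) * (k * z * k⁻¹) by group, C.conj_z]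
            exact mul_mem (hp ▸ hpQ) (hQS'.2 ⟨C.zS, hzM⟩)
        refine hresid _ hfix (by rw [conj_mul_self, hpp, C.conj_z])
          (M.map (MulAut.conj (k * h * k⁻¹)).toMonoidHom) (by rw [← map_commutator, R.perfect]) ?_
          ⟨m, hm, rfl⟩
        rintro _ ⟨m', hm', rfl⟩
        exact ((show Commute m' p from (hQS'.1 hpQ).2 m' hm').map
          (MulAut.conj (k * h * k⁻¹)).toMonoidHom).eq
      refine mem_map_of_mem π ?_
      have h2 := mul_mem (mul_mem (inv_mem hkk) h1) hkk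
      rwa [show k⁻¹ * (k * h * k⁻¹) * k = h by group] at h2)
  have hR1 : CentralMeet.RankOne (socle M₀) := rankOne_of_se hse
  obtain ⟨Qx, hQx⟩ := PushL2.exists_sylow_inf (socle M₀)
    (S.mapSurjective (QuotientGroup.mk'_surjective (centralizer (M₀ : Set G))))
  have hXQ : ∀ s ∈ (S : Subgroup G), π s ∈ socle M₀ → s ∈ QS := by
    intro s hs hsX
    have hzQ : z ∈ QS := hQS'.2 ⟨C.zS, hzM⟩
    by_cases h1 : π s = 1
    · rcases (hker s).1 h1 with e | e <;> rw [e]
      exacts [one_mem _, hzQ]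
    have hss : π s * π s = 1 := by
      rw [← map_mul]
      refine (hker _).2 ?_
      obtain ⟨q, hq, a, ha, hqM, hqsq, haM, rfl⟩ := R.gen s hs
      have e : q * a * (q * a) = (q * q) * (a * a) :=
        (show Commute a q from hqM a haM).mul_mul_mul_comm _ _
      rw [e]
      rcases hqsq with e1 | e1 <;> rcases hsq₁ a ⟨ha, haM⟩ with e2 | e2 <;> rw [e1, e2]
      · exact Or.inl (one_mul 1)
      · exact Or.inr (one_mul z)
      · exact Or.inr (mul_one z)
      · exact Or.inl C.zz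
    obtain ⟨g', hg'⟩ := isConj_iff.1 (StrongEmbed.isConj_of_invols hse
      (a := ⟨π r, hrX⟩) (b := ⟨π s, hsX⟩) (by rw [Subgroup.orderOf_mk]; exact hπr)
      (by rw [Subgroup.orderOf_mk]; exact CentralRankOne.orderOf_two hss h1))
    obtain ⟨g, hg⟩ := QuotientGroup.mk'_surjective _ (g' : G ⧸ centralizer (M₀ : Set G))
    have e : π (g * r * g⁻¹) = π s := by
      rw [map_mul, map_mul, map_inv, hg]
      exact congrArg Subtype.val hg'
    have hgS : g * r * g⁻¹ ∈ (S : Subgroup G) := hπS (e ▸ mem_map_of_mem π hs)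
    rcases hπeq _ _ e with h | h <;> rw [h]
    exacts [(hfus g hgS).1, mul_mem (hfus g hgS).1 hzQ]
  -- so the residual is a 2-group
  have hMp : IsPGroup 2 M := fun a => by
    obtain ⟨j, o, ho, hjo⟩ := Nat.exists_eq_pow_mul_and_not_dvd (orderOf_pos (a : G)).ne' 2
      (by norm_num)
    refine ⟨j, Subtype.ext ?_⟩
    show (a : G) ^ 2 ^ j = 1
    set b := (a : G) ^ 2 ^ j with hb
    have hbM : b ∈ M := pow_mem a.2 _
    have hodd : Odd o := Nat.not_even_iff_odd.1 fun h => ho (even_iff_two_dvd.1 h)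
    have hbo : b ^ o = 1 := by rw [hb, ← pow_mul, ← hjo, pow_orderOf_eq_one]
    let φ : MulAut (socle M₀) := MulAut.conjNormal (π b)
    have hφ1 : φ = 1 := hR1.aut_eq_one Qx (fun s hs => Subtype.ext (by
      rw [hQx] at hs
      obtain ⟨t, ht, e⟩ := hs
      rw [MulAut.conjNormal_apply]
      refine mul_inv_eq_iff_eq_mul.2 ?_
      have e' : π t = (s : G ⧸ centralizer (M₀ : Set G)) := e
      rw [← e', ← map_mul, ← map_mul, (hQS'.1 (hXQ t ht (e' ▸ s.2))).2 b hbM]))
      hodd (by rw [← map_pow, ← map_pow, hbo, map_one, map_one])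
    have hb1 : π b = 1 := by
      have h1 : π b ∈ centralizer ((socle M₀ : Subgroup _) : Set (G ⧸ centralizer (M₀ : Set G))) :=
        mem_centralizer_iff.2 fun w hw => by
          have h2 := congrArg Subtype.val (MulEquiv.congr_fun hφ1 ⟨w, hw⟩)
          rw [MulAut.conjNormal_apply] at h2
          exact (mul_inv_eq_iff_eq_mul.1 h2).symm
      rwa [centralizer_socle M₀ hperf₀, mem_bot] at h1
    rcases (hker b).1 hb1 with h | h
    · exact h
    · exfalso
      have h2 := hbo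
      rw [h] at h2
      exact C.z1 (Consumers.eq_one_of_two_of_odd (hodd.of_dvd_nat (orderOf_dvd_of_pow_eq_one h2))
        (i := 1) (by rw [pow_one, sq, C.zz]))
  refine perfect_not_solvable R.perfect R.ne_bot ?_
  haveI := hMp.isNilpotent
  infer_instance

end Ctx

end CfsgLib.RankOneMeet
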