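import Cfsg.Agent.RankOneMeet.Simple
import Cfsg.Agent.CentralMeet.Ext
import Cfsg.Agent.CentralMeet.Local

/-!
# The perfect residual over a central 2-subgroup

A group whose Sylow 2-subgroup has two involutions modulo a central 2-subgroup, the elements moving
them into it normalizing it, has a largest perfect subgroup, covering a simple group with strongly
embedded normalizers.
-/

set_option autoImplicit false
set_option linter.unusedSectionVars false
set_option linter.style.haveILetI false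

namespace CfsgLib.RankOneMeet

open Subgroup
open CfsgLib.Bender

universe u

variable {G : Type u} [Group G] [Finite G]

/-- A subgroup normalizing a Sylow 2-subgroup is solvable. -/
theorem isSolvable_of_le_normalizer {S : Sylow 2 G} {K : Subgroup G}
    (hK : K ≤ normalizer ((S : Subgroup G) : Set G)) : Group.IsSolvable K := by
  haveI : Fact (Nat.Prime 2) := ⟨Nat.prime_two⟩
  set N := (S : Subgroup G).subgroupOf K
  haveI : N.Normal := ⟨fun s hs k => (mem_normalizer_iff.1 (hK k.2) (s : G)).1 hs⟩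
  haveI : Group.IsNilpotent N := (show IsPGroup 2 N from S.2.comap_subtype).isNilpotent
  haveI : Group.IsSolvable (K ⧸ N) := Cfsg.Agent.S0205.result (by
    by_contra hodd
    obtain ⟨q, hq⟩ := exists_prime_orderOf_dvd_card' (G := K ⧸ N) 2
      (even_iff_two_dvd.1 (Nat.not_odd_iff_even.1 hodd))
    obtain ⟨k, rfl⟩ := QuotientGroup.mk_surjective q
    have hsq : k * k ∈ N := (QuotientGroup.eq_one_iff _).1 (by
      rw [QuotientGroup.mk_mul, CentralRankOne.mul_self_of_order_two hq])
    obtain ⟨j, hj⟩ := CentralMeet.exists_pow_of_mem S.2 (show (k : G) * k ∈ (S : Subgroup G) from hsq)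
    refine CentralRankOne.ne_one_of_order_two hq ((QuotientGroup.eq_one_iff _).2 ?_)
    exact CentralMeet.mem_sylow_of_pow (hK k.2) (k := j + 1) (by
      rw [pow_succ', pow_mul, sq]; exact hj))
  exact (Group.isSolvable_iff_subgroup_quotient N).2 ⟨inferInstance, inferInstance⟩

/-- A nontrivial perfect subgroup is not solvable. -/
theorem perfect_not_solvable {K : Subgroup G} (hp : ⁅K, K⁆ = K) (hK : K ≠ ⊥) :
    ¬ Group.IsSolvable K := by
  intro hs
  haveI := hs
  haveI : Nontrivial K := (Subgroup.nontrivial_iff_ne_bot K).2 hK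
  refine (Group.IsSolvable.commutator_lt_top_of_nontrivial K).ne (map_injective K.subtype_injective ?_)
  rw [map_subtype_commutator, hp, ← MonoidHom.range_eq_map, range_subtype]

/-- The perfect residual. -/
theorem exists_residual (N₀ : Subgroup G) [N₀.Normal] (hc : N₀ ≤ center G) (hp : IsPGroup 2 N₀)
    (R : Sylow 2 G) (hne : ∃ g : G, g ∉ normalizer ((R : Subgroup G) : Set G)) {u v : G}
    (huR : u ∈ (R : Subgroup G)) (hu : u ∉ N₀) (hu2 : u * u ∈ N₀)
    (hvR : v ∈ (R : Subgroup G)) (hv : v ∉ N₀) (hv2 : v * v ∈ N₀) (huv : u⁻¹ * v ∉ N₀)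
    (hmove : ∀ d ∈ (R : Subgroup G), d ∉ N₀ → d * d ∈ N₀ → ∀ g : G,
      g * d * g⁻¹ ∈ (R : Subgroup G) → g ∈ normalizer ((R : Subgroup G) : Set G)) :
    ∃ M : Subgroup G, ⁅M, M⁆ = M ∧ M ≠ ⊥ ∧ (∀ K : Subgroup G, ⁅K, K⁆ = K → K ≤ M) ∧
      (R : Subgroup G) ≤ N₀ ⊔ M ∧
      ∃ (X : Type u) (_ : Group X) (_ : Finite X) (σ : M →* X), IsSimpleGroup X ∧
        CentralMeet.RankOne X ∧ Function.Surjective σ ∧ σ.ker = center M := by
  haveI : Fact (Nat.Prime 2) := ⟨Nat.prime_two⟩
  set π := QuotientGroup.mk' N₀ with hπ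
  set Rb := R.mapSurjective (f := π) (QuotientGroup.mk'_surjective N₀) with hRb
  set NR := normalizer ((Rb : Subgroup (G ⧸ N₀)) : Set (G ⧸ N₀)) with hNR
  have hN₀R : N₀ ≤ (R : Subgroup G) := IsPGroup.le_sylow_of_normal hp R
  have hmem : ∀ g : G, π g ∈ (Rb : Subgroup (G ⧸ N₀)) → g ∈ (R : Subgroup G) := by
    rintro g ⟨s, hs, e⟩
    simpa using mul_mem hs (hN₀R (QuotientGroup.eq.1 e))
  have hnorm : ∀ g : G, π g ∈ NR → g ∈ normalizer ((R : Subgroup G) : Set G) := by
    intro g hg
    refine mem_normalizer_iff.2 fun s => ⟨fun hs => hmem _ ?_, fun hs => hmem _ ?_⟩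
    · rw [map_mul, map_mul, map_inv]
      exact (mem_normalizer_iff.1 hg (π s)).1 (mem_map_of_mem π hs)
    · refine (mem_normalizer_iff.1 hg (π s)).2 ?_
      rw [← map_inv, ← map_mul, ← map_mul]
      exact mem_map_of_mem π hs
  have hord : ∀ {w : G}, w ∉ N₀ → w * w ∈ N₀ → orderOf (π w) = 2 := fun {w} h1 h2 =>
    CentralRankOne.orderOf_two
      (by rw [← map_mul]; exact (QuotientGroup.eq_one_iff _).2 h2)
      fun e => h1 ((QuotientGroup.eq_one_iff _).1 e)
  -- two commuting involutions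
  have hpair : PairRank (G ⧸ N₀) := by
    have hRne : (Rb : Subgroup (G ⧸ N₀)) ≠ ⊥ := fun e => hu ((QuotientGroup.eq_one_iff u).1
      (mem_bot.1 (e ▸ mem_map_of_mem π huR)))
    haveI : Nontrivial (Rb : Subgroup (G ⧸ N₀)) := (Subgroup.nontrivial_iff_ne_bot _).2 hRne
    haveI := IsPGroup.center_nontrivial (p := 2) Rb.2
    obtain ⟨a, ha⟩ := exists_prime_orderOf_dvd_card' (G := center (Rb : Subgroup (G ⧸ N₀))) 2
      (((Rb.2.to_subgroup _).card_eq_or_dvd).resolve_left Finite.one_lt_card.ne')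
    have ha2 : orderOf ((a : (Rb : Subgroup (G ⧸ N₀))) : G ⧸ N₀) = 2 := by
      rw [Subgroup.orderOf_coe, Subgroup.orderOf_coe, ha]
    have hac : ∀ s ∈ (Rb : Subgroup (G ⧸ N₀)),
        Commute ((a : (Rb : Subgroup (G ⧸ N₀))) : G ⧸ N₀) s := fun s hs =>
      (congrArg Subtype.val (mem_center_iff.1 a.2 ⟨s, hs⟩)).symm
    by_cases h : ((a : (Rb : Subgroup (G ⧸ N₀))) : G ⧸ N₀) = π u
    · refine ⟨_, π v, ha2, hord hv hv2, ?_, hac _ (mem_map_of_mem π hvR)⟩
      rw [h]
      exact fun e => huv (QuotientGroup.eq.1 e)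
    · exact ⟨_, π u, ha2, hord hu hu2, h, hac _ (mem_map_of_mem π huR)⟩
  have hse : Cfsg.IsStronglyEmbedded NR := by
    refine ⟨fun e => ?_, ?_, fun q hq => ?_⟩
    · obtain ⟨g, hg⟩ := hne
      exact hg (hnorm g (e ▸ mem_top _))
    · exact even_iff_two_dvd.2 (hord hu hu2 ▸
        orderOf_dvd_natCard _ (le_normalizer (mem_map_of_mem π huR)))
    · by_contra hev
      obtain ⟨i, hi⟩ := exists_prime_orderOf_dvd_card'
        (G := ↥(NR ⊓ NR.map (MulAut.conj q).toMonoidHom)) 2
        (even_iff_two_dvd.1 (Nat.not_odd_iff_even.1 hev))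
      rw [← Subgroup.orderOf_coe] at hi
      obtain ⟨g, rfl⟩ := QuotientGroup.mk'_surjective N₀ q
      have hii := CentralRankOne.mul_self_of_order_two hi
      obtain ⟨y, hy, hye⟩ := (mem_inf.1 i.2).2
      change π g * y * (π g)⁻¹ = (i : G ⧸ N₀) at hye
      have hiR := CentralRankOne.invol_mem hii (mem_inf.1 i.2).1
      have hyy : y * y = 1 := by
        have e : π g * (y * y) * (π g)⁻¹ = 1 := by rw [← hii, ← hye]; group
        exact mul_left_cancel ((mul_inv_eq_one.1 e).trans (mul_one (π g)).symm)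
      obtain ⟨d, hd, hde⟩ := CentralRankOne.invol_mem hyy hy
      have hg := hmove d hd (fun hd0 => ?_) ?_ g (hmem _ ?_)
      · refine hq (mem_normalizer_iff.2 fun w => ?_)
        constructor
        · rintro ⟨s, hs, rfl⟩
          rw [← map_inv, ← map_mul, ← map_mul]
          exact mem_map_of_mem π ((mem_normalizer_iff.1 hg s).1 hs)
        · rintro ⟨s, hs, e⟩
          refine ⟨g⁻¹ * s * g, ?_, ?_⟩
          · refine (mem_normalizer_iff.1 hg _).2 ?_
            rwa [show g * (g⁻¹ * s * g) * g⁻¹ = s by group]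
          · change π s = π g * w * (π g)⁻¹ at e
            rw [map_mul, map_mul, map_inv, e]
            group
      · have e : y = 1 := by rw [← hde]; exact (QuotientGroup.eq_one_iff d).2 hd0
        rw [e, mul_one, mul_inv_cancel] at hye
        exact CentralRankOne.ne_one_of_order_two hi hye.symm
      · refine (QuotientGroup.eq_one_iff _).1 ?_
        show π (d * d) = 1
        rw [map_mul, hde]
        exact hyy
      · rw [map_mul, map_mul, map_inv, hde, hye]
        exact hiR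
  -- the odd core is centralized by the Sylow subgroup
  have hOc : ∀ w ∈ Cfsg.oddCore (G ⧸ N₀), ∀ s ∈ (Rb : Subgroup (G ⧸ N₀)), w * s = s * w := by
    intro w hw s hs
    haveI := DGroup.normal_oddCore (G ⧸ N₀)
    have hwN : w ∈ NR := Core.normal_odd_le hse hpair inferInstance IsoApps.odd_oddCore hw
    have h1 : w * s * w⁻¹ * s⁻¹ ∈ Cfsg.oddCore (G ⧸ N₀) := by
      rw [show w * s * w⁻¹ * s⁻¹ = w * (s * w⁻¹ * s⁻¹) by group]
      exact mul_mem hw ((inferInstance : (Cfsg.oddCore (G ⧸ N₀)).Normal).conj_mem _ (inv_mem hw) s)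
    obtain ⟨k, hk⟩ := CentralMeet.exists_pow_of_mem Rb.2
      (mul_mem ((mem_normalizer_iff.1 hwN s).1 hs) (inv_mem hs))
    exact mul_inv_eq_iff_eq_mul.1 (mul_inv_eq_one.1
      (Consumers.eq_one_of_two_of_odd (IsoApps.odd_of_mem_oddCore h1) hk))
  haveI := DGroup.normal_oddCore (G ⧸ N₀)
  set f := (QuotientGroup.mk' (Cfsg.oddCore (G ⧸ N₀))).comp π with hf
  have hfsurj : Function.Surjective f :=
    (QuotientGroup.mk'_surjective _).comp (QuotientGroup.mk'_surjective _)
  have hker : ∀ k : G, k ∈ f.ker → π k ∈ Cfsg.oddCore (G ⧸ N₀) := fun k hk =>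
    (QuotientGroup.eq_one_iff _).1 hk
  set o := Nat.card (Cfsg.oddCore (G ⧸ N₀)) with hodef
  have ho : Odd o := IsoApps.odd_oddCore
  have hpow : ∀ k ∈ f.ker, k ^ o ∈ N₀ := by
    intro k hk
    refine (QuotientGroup.eq_one_iff _).1 ?_
    show π (k ^ o) = 1
    rw [map_pow]
    exact congrArg Subtype.val (pow_card_eq_one' (x := (⟨π k, hker k hk⟩ : Cfsg.oddCore (G ⧸ N₀))))
  have hKR : (R : Subgroup G) ≤ centralizer ((f.ker : Subgroup G) : Set G) := by
    intro s hs
    refine mem_centralizer_iff.2 fun k hk => ?_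
    have hcN : s * k * s⁻¹ * k⁻¹ ∈ N₀ := (QuotientGroup.eq_one_iff _).1 (by
      show π (s * k * s⁻¹ * k⁻¹) = 1
      rw [map_mul, map_mul, map_mul, map_inv, map_inv,
        ← hOc _ (hker k hk) _ (mem_map_of_mem π hs)]
      group)
    set c := s * k * s⁻¹ * k⁻¹ with hcdef
    have hco : c ^ o = 1 := by
      have e : (s * k * s⁻¹) ^ o = c ^ o * k ^ o := by
        rw [show s * k * s⁻¹ = c * k by rw [hcdef]; group]
        exact (show Commute c k from (mem_center_iff.1 (hc hcN) k).symm).mul_pow o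
      rw [conj_pow, mem_center_iff.1 (hc (hpow k hk)) s, mul_inv_cancel_right] at e
      exact mul_eq_right.1 e.symm
    obtain ⟨j, hj⟩ := CentralMeet.exists_pow_of_mem hp hcN
    exact (mul_inv_eq_iff_eq_mul.1 (mul_inv_eq_one.1
      (Consumers.eq_one_of_two_of_odd (ho.of_dvd_nat (orderOf_dvd_of_pow_eq_one hco)) hj))).symm
  set L := Cfsg.pElementClosure 2 (⊤ : Subgroup G) with hL
  have hinL : ∀ (x : G) (k : ℕ), x ^ 2 ^ k = 1 → x ∈ L := fun x k hk => by
    obtain ⟨i, -, hi⟩ := (Nat.dvd_prime_pow Nat.prime_two).1 (orderOf_dvd_of_pow_eq_one hk)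
    exact subset_closure ⟨mem_top _, i, hi⟩
  have hRL : ∀ T : Sylow 2 G, (T : Subgroup G) ≤ L := fun T x hx => by
    obtain ⟨k, hk⟩ := CentralMeet.exists_pow_of_mem T.2 hx
    exact hinL x k hk
  haveI hLn : L.Normal := normalizer_eq_top_iff.1 (eq_top_iff.2 fun g _ =>
    LocalB.mem_normalizer_of_conj_le fun x hx => by
      have hle : L ≤ L.comap (MulAut.conj g).toMonoidHom := (closure_le _).2 fun y ⟨_, k, hk⟩ => by
        show g * y * g⁻¹ ∈ L
        refine hinL _ k ?_
        rw [conj_pow, ← hk, pow_orderOf_eq_one, mul_one, mul_inv_cancel]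
      exact hle hx)
  have hLc : L ≤ centralizer ((f.ker : Subgroup G) : Set G) := (closure_le _).2 fun x ⟨_, k, hk⟩ => by
    obtain ⟨T, hT⟩ := CentralMeet.exists_sylow_mem (x := x) (k := k)
      (by rw [← hk]; exact pow_orderOf_eq_one x)
    obtain ⟨g, rfl⟩ := MulAction.exists_smul_eq G R T
    rw [Sylow.coe_subgroup_smul] at hT
    obtain ⟨s, hs, rfl⟩ := hT
    exact (Subgroup.normal_centralizer (H := f.ker)).conj_mem s (hKR hs) g
  -- the image
  set X₀ := Cfsg.pElementClosure 2 (⊤ : Subgroup ((G ⧸ N₀) ⧸ Cfsg.oddCore (G ⧸ N₀))) with hX₀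
  have hmapL : L.map f = X₀ := by
    refine le_antisymm (map_le_iff_le_comap.2 ((closure_le _).2 fun x ⟨_, k, hk⟩ => ?_))
      ((closure_le _).2 fun y ⟨_, k, hk⟩ => ?_)
    · obtain ⟨i, -, hi⟩ := (Nat.dvd_prime_pow Nat.prime_two).1
        (orderOf_dvd_of_pow_eq_one (x := f x) (n := 2 ^ k)
          (by rw [← map_pow, ← hk, pow_orderOf_eq_one, map_one]))
      exact subset_closure ⟨mem_top _, i, hi⟩
    · obtain ⟨T, hT⟩ := CentralMeet.exists_sylow_mem (x := y) (k := k)
        (by rw [← hk]; exact pow_orderOf_eq_one y)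
      obtain ⟨T, rfl⟩ := Sylow.mapSurjective_surjective hfsurj 2 T
      exact map_mono (hRL T) hT
  have hX : Consumers.Three X₀ := Consumers.closure_three Consumers.structure_all hse hpair
  haveI : IsSimpleGroup X₀ := hX.isSimpleGroup
  have hR1 : CentralMeet.RankOne X₀ := by
    set H := NR.map (QuotientGroup.mk' (Cfsg.oddCore (G ⧸ N₀)))
    have hseH : Cfsg.IsStronglyEmbedded H := Consumers.quot_se hse hpair
    obtain ⟨t, htH, ht⟩ := StrongEmbed.exists_invol hseH
    have htX : t ∈ X₀ := subset_closure ⟨mem_top _, 1, by rw [ht, pow_one]⟩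
    have hevX : 2 ∣ Nat.card X₀ := ht ▸ orderOf_dvd_natCard _ htX
    haveI : X₀.Normal := hmapL ▸ Normal.map hLn f hfsurj
    refine rankOne_of_se (H := H.subgroupOf X₀) ⟨fun e => ?_, ?_, fun g hg => ?_⟩
    · obtain ⟨g, hg⟩ := Consumers.exists_not_mem hseH
      have hle : X₀ ≤ H := subgroupOf_eq_top.1 e
      refine (hseH.2.2 g hg).not_two_dvd_nat (hevX.trans (card_dvd_of_le fun x hx => ⟨hle hx, ?_⟩))
      exact ⟨g⁻¹ * x * g,
        hle (by simpa using (inferInstance : X₀.Normal).conj_mem x hx g⁻¹), by simp [mul_assoc]⟩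
    · have h2 : orderOf (⟨⟨t, htX⟩, mem_subgroupOf.2 htH⟩ : H.subgroupOf X₀) = 2 := by
        rw [← Subgroup.orderOf_coe, ← Subgroup.orderOf_coe]
        exact ht
      exact even_iff_two_dvd.2 (h2 ▸ orderOf_dvd_natCard _)
    · refine (hseH.2.2 (g : _) fun h => hg (mem_subgroupOf.2 h)).of_dvd_nat ?_
      rw [← card_map_of_injective (f := X₀.subtype) X₀.subtype_injective]
      refine card_dvd_of_le ?_
      rintro _ ⟨w, ⟨hw1, y, hy, hyw⟩, rfl⟩
      exact ⟨hw1, (y : _), hy, by rw [← hyw]; rfl⟩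
  set fL := f.subgroupMap L with hfL
  have hfLs : Function.Surjective fL := f.subgroupMap_surjective L
  have hcen : fL.ker ≤ center L := by
    intro k hk
    refine mem_center_iff.2 fun l => Subtype.ext ?_
    show (l : G) * k = k * l
    exact ((mem_centralizer_iff.1 (hLc l.2)) k
      (show f k = 1 from congrArg Subtype.val (MonoidHom.mem_ker.1 hk))).symm
  have hXq : Consumers.Three (↥L ⧸ fL.ker) := Consumers.Three.congr hX
    ((QuotientGroup.quotientKerEquivOfSurjective fL hfLs).trans (MulEquiv.subgroupCongr hmapL))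
  have hna : ¬ ∀ a b : ↥L ⧸ fL.ker, a * b = b * a := fun hcm => by
    refine CentralMeet.three_not_comm hR1 fun a b => ?_
    let e := (QuotientGroup.quotientKerEquivOfSurjective fL hfLs).trans (MulEquiv.subgroupCongr hmapL)
    obtain ⟨a, rfl⟩ := e.surjective a
    obtain ⟨b, rfl⟩ := e.surjective b
    rw [← map_mul, ← map_mul, hcm]
  obtain ⟨hsup, hperf, -, -⟩ := CentralMeet.sup_commutator hXq hcen hna
  set M := (commutator L).map L.subtype with hM
  have hMperf : ⁅M, M⁆ = M := by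
    rw [hM, ← map_commutator, ← map_subtype_commutator (commutator L), hperf,
      ← MonoidHom.range_eq_map, range_subtype]
  have hML : M ≤ L := map_subtype_le _
  have hdec : ∀ l ∈ L, ∃ k ∈ f.ker, k ∈ L ∧ ∃ m ∈ M, l = k * m := by
    intro l hl
    obtain ⟨k, hk, m, hm, e⟩ := mem_sup_of_normal_right.1 (hsup ▸ mem_top (⟨l, hl⟩ : L))
    exact ⟨(k : G), congrArg Subtype.val (MonoidHom.mem_ker.1 hk), k.2, (m : G), ⟨m, hm, rfl⟩,
      (congrArg Subtype.val e).symm⟩
  let σ : M →* X₀ := (f.comp M.subtype).codRestrict X₀ fun m => hmapL ▸ mem_map_of_mem f (hML m.2)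
  have hσs : Function.Surjective σ := by
    rintro ⟨y, hy⟩
    obtain ⟨l, hl, rfl⟩ := (hmapL.symm ▸ hy : y ∈ L.map f)
    obtain ⟨k, hk, -, m, hm, rfl⟩ := hdec l hl
    exact ⟨⟨m, hm⟩, Subtype.ext (by
      show f m = f (k * m)
      rw [map_mul, MonoidHom.mem_ker.1 hk, one_mul])⟩
  have hncX : ∀ y : X₀, y ∈ center X₀ → y = 1 := by
    intro y hy
    rcases (inferInstance : (center X₀).Normal).eq_bot_or_eq_top with e | e
    · rwa [e, mem_bot] at hy
    · exact (CentralMeet.three_not_comm hR1 fun a b => mem_center_iff.1 (e ▸ mem_top b) a).elim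
  refine ⟨M, hMperf, fun e => ?_, fun K hK => ?_, ?_, X₀, inferInstance, inferInstance, σ,
    inferInstance, hR1, hσs, ?_⟩
  · obtain ⟨y, hy⟩ := exists_ne (1 : X₀)
    obtain ⟨⟨m, hm⟩, rfl⟩ := hσs y
    rw [e, mem_bot] at hm
    subst hm
    exact hy (map_one σ)
  · haveI : Group.IsSolvable (G ⧸ L) := Cfsg.Agent.S0205.result (by
      rw [← Subgroup.index_eq_card, ← Nat.not_even_iff_odd, even_iff_two_dvd]
      exact fun h => R.not_dvd_index (h.trans (index_dvd_of_le (hRL R))))
    have hKL : K ≤ L := by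
      rw [← QuotientGroup.ker_mk' L, ← Subgroup.map_eq_bot_iff]
      by_contra hne'
      exact perfect_not_solvable (by rw [← map_commutator, hK]) hne' inferInstance
    rw [hM, map_subtype_commutator, ← hK]
    exact commutator_mono hKL hKL
  · intro s hs
    obtain ⟨k, hk, -, m, hm, e⟩ := hdec s (hRL R hs)
    have hso : s ^ o ∈ N₀ ⊔ M := by
      rw [e, (show Commute k m from mem_centralizer_iff.1 (hLc (hML hm)) k hk).mul_pow]
      exact mul_mem (mem_sup_left (hpow k hk)) (mem_sup_right (pow_mem hm o))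
    obtain ⟨i, hi⟩ := CentralMeet.exists_pow_of_mem R.2 hs
    obtain ⟨j, hj⟩ := exists_pow_eq_self_of_coprime (x := s) (n := o)
      (Nat.Coprime.coprime_dvd_right (orderOf_dvd_of_pow_eq_one hi)
        (Nat.Coprime.pow_right i (Nat.coprime_two_right.2 ho)))
    rw [← hj]
    exact pow_mem hso j
  · refine le_antisymm (fun m hm => mem_center_iff.2 fun m' => Subtype.ext ?_) fun m hm => ?_
    · exact ((mem_centralizer_iff.1 (hLc (hML m'.2))) (m : G)
        (congrArg Subtype.val (MonoidHom.mem_ker.1 hm))).symm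
    · refine hncX _ (mem_center_iff.2 fun y => ?_)
      obtain ⟨m', rfl⟩ := hσs y
      rw [← map_mul, ← map_mul, mem_center_iff.1 hm m']

end CfsgLib.RankOneMeet
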