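import Cfsg.Agent.RankOneMeet.Basic
import Cfsg.Agent.SmallCent.Dichotomy
import Cfsg.Agent.CentralMeet.Local

/-!
# Intersections of Sylow 2-subgroups of rank at most one: passing to the quotient by the odd core
-/

set_option autoImplicit false
set_option linter.unusedSectionVars false
set_option linter.style.haveILetI false

namespace CfsgLib.RankOneMeet

open Subgroup

universe u

variable {G : Type u} [Group G] [Finite G]

theorem pRankLE_one_of {D : Type*} [Group D] [Finite D]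
    (h : ∀ a b : D, a * a = 1 → b * b = 1 → a * b = b * a → a ≠ 1 → b ≠ 1 → a = b) :
    Cfsg.PRankLE 2 1 D := by
  classical
  intro A hA hA2
  by_contra hc
  haveI := Fintype.ofFinite A
  rw [Nat.card_eq_fintype_card, pow_one, not_le] at hc
  obtain ⟨a, b, c, hab, hac, hbc⟩ := Fintype.two_lt_card_iff.1 hc
  have key : ∀ x y : A, x ≠ 1 → y ≠ 1 → x = y := fun x y hx hy => Subtype.ext
    (h x y (by rw [← sq]; exact hA2 x x.2) (by rw [← sq]; exact hA2 y y.2)
      (congrArg Subtype.val (hA.is_comm.comm x y)) (fun e => hx (Subtype.ext e))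
      fun e => hy (Subtype.ext e))
  by_cases ha : a = 1
  · exact hbc (key b c (fun e => hab (ha.trans e.symm)) fun e => hac (ha.trans e.symm))
  by_cases hb : b = 1
  · exact hac (key a c ha fun e => hbc (hb.trans e.symm))
  · exact hab (key a b ha hb)

/-- A 2-group meets the odd core trivially. -/
theorem eq_one_of_core {S : Subgroup G} (hS : IsPGroup 2 S) {x : G} (hx : x ∈ S)
    (hO : x ∈ Cfsg.oddCore G) : x = 1 := by
  obtain ⟨k, hk⟩ := CentralMeet.exists_pow_of_mem hS hx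
  obtain ⟨j, -, hj⟩ := (Nat.dvd_prime_pow Nat.prime_two).1 (orderOf_dvd_of_pow_eq_one hk)
  rcases j.eq_zero_or_pos with rfl | h
  · exact orderOf_eq_one_iff.1 (hj.trans (pow_zero 2))
  · exact absurd (hj ▸ DGroup.odd_orderOf (DGroup.odd_oddCore G) hO)
      (Nat.not_odd_iff_even.2 (Nat.even_pow.2 ⟨even_two, by omega⟩))

theorem inj_on_two {S : Subgroup G} (hS : IsPGroup 2 S) {x y : G} (hx : x ∈ S) (hy : y ∈ S)
    (h : QuotientGroup.mk' (Cfsg.oddCore G) x = QuotientGroup.mk' (Cfsg.oddCore G) y) : x = y :=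
  inv_mul_eq_one.1 (eq_one_of_core hS (mul_mem (inv_mem hx) hy) (QuotientGroup.eq.1 h))

theorem Rk.quotient_core (h : Rk G) : Rk (G ⧸ Cfsg.oddCore G) := by
  haveI : Fact (Nat.Prime 2) := ⟨Nat.prime_two⟩
  set π := QuotientGroup.mk' (Cfsg.oddCore G) with hπ
  intro A B hAB
  obtain ⟨S, rfl⟩ := Sylow.mapSurjective_surjective (QuotientGroup.mk'_surjective _) 2 A
  obtain ⟨T, rfl⟩ := Sylow.mapSurjective_surjective (QuotientGroup.mk'_surjective _) 2 B
  refine pRankLE_one_of fun a b ha hb hc ha1 hb1 => ?_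
  obtain ⟨a', ha', ea⟩ := (mem_inf.1 a.2).1
  obtain ⟨b', hb', eb⟩ := (mem_inf.1 b.2).1
  have lift : ∀ x y : G, x ∈ (S : Subgroup G) → y ∈ (S : Subgroup G) → π x = π y → x = y :=
    fun x y hx hy e => inj_on_two S.2 hx hy e
  have haa : a' * a' = 1 := lift _ _ (mul_mem ha' ha') (one_mem _) (by
    rw [map_mul, ea, map_one]; exact congrArg Subtype.val ha)
  have hbb : b' * b' = 1 := lift _ _ (mul_mem hb' hb') (one_mem _) (by
    rw [map_mul, eb, map_one]; exact congrArg Subtype.val hb)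
  have hcc : a' * b' = b' * a' := lift _ _ (mul_mem ha' hb') (mul_mem hb' ha') (by
    rw [map_mul, map_mul, ea, eb]; exact congrArg Subtype.val hc)
  have ha1' : a' ≠ 1 := fun e => ha1 (Subtype.ext (by rw [← ea, e, map_one]; rfl))
  have hb1' : b' ≠ 1 := fun e => hb1 (Subtype.ext (by rw [← eb, e, map_one]; rfl))
  by_contra hne
  have hne' : a' ≠ b' := fun e => hne (Subtype.ext (by rw [← ea, ← eb, e]))
  set W := (S : Subgroup G) ⊓ (((T : Subgroup G).map π).comap π) with hW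
  have hWS : IsPGroup 2 W := S.2.to_le inf_le_left
  have hTK : (T : Subgroup G) ≤ ((T : Subgroup G).map π).comap π := le_comap_map _ _
  obtain ⟨R, hR⟩ := (hWS.of_equiv (subgroupOfEquivOfLe (inf_le_right :
    W ≤ ((T : Subgroup G).map π).comap π)).symm).exists_le_sylow
  obtain ⟨g, hg⟩ := MulAction.exists_smul_eq ↥(((T : Subgroup G).map π).comap π) (T.subtype hTK) R
  have hmem : ∀ x ∈ W, x ∈ (((g : G) • T : Sylow 2 G) : Subgroup G) := by
    intro x hx
    have h1 : (⟨x, (mem_inf.1 hx).2⟩ : ↥(((T : Subgroup G).map π).comap π)) ∈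
        ((g • T.subtype hTK : Sylow 2 _) : Subgroup _) := hg ▸ hR (mem_subgroupOf.2 hx)
    rw [Sylow.coe_subgroup_smul, mem_pointwise_smul_iff_inv_smul_mem] at h1
    rw [Sylow.coe_subgroup_smul, mem_pointwise_smul_iff_inv_smul_mem]
    exact h1
  have hinW : ∀ {x : G}, x ∈ (S : Subgroup G) → π x ∈ (T : Subgroup G).map π → x ∈ W :=
    fun hx hx' => ⟨hx, hx'⟩
  have e := h.unique haa hbb hcc ha1' hb1' hne' ha' hb'
    (hmem _ (hinW ha' (ea ▸ (mem_inf.1 a.2).2))) (hmem _ (hinW hb' (eb ▸ (mem_inf.1 b.2).2)))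
  apply hAB
  refine Sylow.ext ?_
  show (S : Subgroup G).map π = (T : Subgroup G).map π
  have hgT : π (g : G) ∈ (T : Subgroup G).map π := g.2
  rw [e, Sylow.coe_subgroup_smul]
  ext w
  constructor
  · rintro ⟨_, ⟨y, hy, rfl⟩, rfl⟩
    show π ((g : G) * y * (g : G)⁻¹) ∈ _
    rw [map_mul, map_mul, map_inv]
    exact mul_mem (mul_mem hgT ⟨y, hy, rfl⟩) (inv_mem hgT)
  · intro hw
    have h2 := mul_mem (mul_mem (inv_mem hgT) hw) hgT
    obtain ⟨y, hy, ey⟩ := h2
    refine ⟨(g : G) * y * (g : G)⁻¹, ⟨y, hy, rfl⟩, ?_⟩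
    rw [map_mul, map_mul, map_inv, ey]
    group

/-- A subgroup contains three involutions generating an elementary group of order eight. -/
def HasEight (S : Subgroup G) : Prop :=
  ∃ a b c : G, a ∈ S ∧ b ∈ S ∧ c ∈ S ∧ a * a = 1 ∧ b * b = 1 ∧ c * c = 1 ∧ a * b = b * a ∧
    a * c = c * a ∧ b * c = c * b ∧ a ≠ 1 ∧ b ≠ 1 ∧ c ≠ 1 ∧ a ≠ b ∧ c ≠ a ∧ c ≠ b ∧ c ≠ a * b

/-- Case (a), for trivial odd core. -/
def ConclA (G : Type u) [Group G] : Prop :=
  (∃ n : ℕ, Nonempty (↥(Cfsg.pCore 2 G) ≃* QuaternionGroup (2 ^ (n + 1)))) ∧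
  (∃ S : Sylow 2 G, HasEight (S : Subgroup G)) ∧
  ∃ (G₁ : Subgroup G) (_ : ((Cfsg.pCore 2 G).subgroupOf G₁).Normal), G₁.Normal ∧ Odd G₁.index ∧
    Cfsg.pCore 2 G ≤ G₁ ∧ Bender.Consumers.Three (↥G₁ ⧸ (Cfsg.pCore 2 G).subgroupOf G₁)

abbrev SL25 := Matrix.SpecialLinearGroup (Fin 2) (ZMod 5)

/-- The diagonal of the two centres of `SL₂(5) × SL₂(5)`. -/
def negPair : Subgroup (SL25 × SL25) := Subgroup.zpowers ((-1 : SL25), (-1 : SL25))

instance negPair_normal : negPair.Normal := by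
  refine ⟨fun x hx g => ?_⟩
  have hc : Commute g ((-1 : SL25), (-1 : SL25)) :=
    Prod.ext (by simp) (by simp)
  obtain ⟨i, rfl⟩ := mem_zpowers_iff.1 hx
  rw [(hc.zpow_right i).eq, mul_inv_cancel_right]
  exact hx

/-- Case (b), for trivial odd core. -/
def ConclB (G : Type u) [Group G] : Prop :=
  ∃ G₁ : Subgroup G, G₁.Normal ∧ (Odd G₁.index ∨ ∃ k : ℕ, Odd k ∧ G₁.index = 2 * k) ∧
    Nonempty (↥G₁ ≃* (SL25 × SL25) ⧸ negPair)

/-- A centraliser of an involution of an elementary group of order eight centralises `S`. -/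
theorem Rk.core_cent (h : Rk G) {S : Sylow 2 G} {u v w : G} (hu : u * u = 1) (hv : v * v = 1)
    (hw : w * w = 1) (huv : u * v = v * u) (huw : u * w = w * u) (hvw : v * w = w * v)
    (huS : u ∈ (S : Subgroup G)) (hvS : v ∈ (S : Subgroup G)) (hwS : w ∈ (S : Subgroup G))
    (hu1 : u ≠ 1) (hv1 : v ≠ 1) (hw1 : w ≠ 1) (euv : u ≠ v) (euw : u ≠ w) (euvw : u ≠ v * w)
    (evw : v ≠ w) : ∀ d ∈ Cfsg.oddCore G, d * u = u * d →
      d ∈ centralizer ((S : Subgroup G) : Set G) := by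
  have key : ∀ x : G, x * x = 1 → u * x = x * u → x ∈ (S : Subgroup G) → x ≠ 1 → u ≠ x →
      ∀ d ∈ Cfsg.oddCore G, d * u = u * d → d * x = x * d →
      d ∈ centralizer ((S : Subgroup G) : Set G) := by
    intro x hx hux hxS hx1 hne d hd hdu hdx
    have hn := h.mem_normalizer hu hx hux hu1 hx1 hne huS hxS (n := d)
      (by rw [hdu, mul_inv_cancel_right]; exact huS) (by rw [hdx, mul_inv_cancel_right]; exact hxS)
    refine mem_centralizer_iff.2 fun s hs => ?_
    have h1 : d * s * d⁻¹ * s⁻¹ = 1 := eq_one_of_core S.2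
      (mul_mem ((mem_normalizer_iff.1 hn s).1 hs) (inv_mem hs)) (by
        rw [show d * s * d⁻¹ * s⁻¹ = d * (s * d⁻¹ * s⁻¹) by group]
        exact mul_mem hd ((DGroup.normal_oddCore G).conj_mem _ (inv_mem hd) s))
    rw [mul_inv_eq_one, mul_inv_eq_iff_eq_mul] at h1
    exact h1.symm
  intro d hd hdu
  set D := Cfsg.oddCore G ⊓ centralizer ({u} : Set G) with hDdef
  have hinv : ∀ {x : G}, u * x = x * u → ∀ y ∈ D, x * y * x⁻¹ ∈ D := by
    intro x hux y hy
    refine ⟨(DGroup.normal_oddCore G).conj_mem _ hy.1 x, mem_centralizer_singleton_iff.2 ?_⟩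
    exact (((show Commute u x from hux).symm.mul_left
      (show Commute y u from mem_centralizer_singleton_iff.1 hy.2)).mul_left
      (show Commute u x from hux).symm.inv_left).eq
  have hX : ∀ {x : G}, x ∈ (S : Subgroup G) → ∀ y ∈ centralizer ((S : Subgroup G) : Set G),
      x * y * x⁻¹ ∈ centralizer ((S : Subgroup G) : Set G) := by
    intro x hx y hy
    rw [show x * y * x⁻¹ = y from by rw [mem_centralizer_iff.1 hy x hx, mul_inv_cancel_right]]
    exact hy
  exact SmallCent.le_of_centralizers hv hw hvw hv1 hw1 evw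
    ((DGroup.odd_oddCore G).of_dvd_nat (card_dvd_of_le inf_le_left)) (hinv huv) (hinv huw) (hX hvS)
    (hX hwS) (fun y hy e => key v hv huv hvS hv1 euv y hy.1 (mem_centralizer_singleton_iff.1 hy.2) e)
    (fun y hy e => key w hw huw hwS hw1 euw y hy.1 (mem_centralizer_singleton_iff.1 hy.2) e)
    (fun y hy e => key (v * w) (by
        rw [show v * w * (v * w) = v * (w * v) * w by group, ← hvw,
          show v * (v * w) * w = v * v * (w * w) by group, hv, hw, one_mul])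
      ((show Commute u v from huv).mul_right huw).eq (mul_mem hvS hwS)
      (fun e => evw ((inv_eq_of_mul_eq_one_right hv).symm.trans (inv_eq_of_mul_eq_one_right e)))
      euvw y hy.1 (mem_centralizer_singleton_iff.1 hy.2) e)
    ⟨hd, mem_centralizer_singleton_iff.2 hdu⟩

/-- The odd core centralises a Sylow 2-subgroup with an elementary subgroup of order eight. -/
theorem Rk.core_centralizes (h : Rk G) {S : Sylow 2 G} (hE : HasEight (S : Subgroup G)) :
    Cfsg.oddCore G ≤ centralizer ((S : Subgroup G) : Set G) := by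
  obtain ⟨a, b, c, haS, hbS, hcS, ha, hb, hc, hab, hac, hbc, ha1, hb1, hc1, eab, eca, ecb, ecab⟩ := hE
  have hai : a⁻¹ = a := inv_eq_of_mul_eq_one_right ha
  have hab2 : a * b * (a * b) = 1 := by
    rw [show a * b * (a * b) = a * (b * a) * b by group, ← hab,
      show a * (a * b) * b = a * a * (b * b) by group, ha, hb, one_mul]
  intro d hd
  have hX : ∀ {x : G}, x ∈ (S : Subgroup G) → ∀ y ∈ centralizer ((S : Subgroup G) : Set G),
      x * y * x⁻¹ ∈ centralizer ((S : Subgroup G) : Set G) := by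
    intro x hx y hy
    rw [show x * y * x⁻¹ = y from by rw [mem_centralizer_iff.1 hy x hx, mul_inv_cancel_right]]
    exact hy
  exact SmallCent.le_of_centralizers ha hb hab ha1 hb1 eab (DGroup.odd_oddCore G)
    (fun y hy => (DGroup.normal_oddCore G).conj_mem _ hy a)
    (fun y hy => (DGroup.normal_oddCore G).conj_mem _ hy b) (hX haS) (hX hbS)
    (h.core_cent ha hb hc hab hac hbc haS hbS hcS ha1 hb1 hc1 eab eca.symm
      (fun e => ecab (by rw [e, hbc, mul_assoc, hb, mul_one])) ecb.symm)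
    (h.core_cent hb ha hc hab.symm hbc hac hbS haS hcS hb1 ha1 hc1 eab.symm ecb.symm
      (fun e => ecab (by rw [e, ← mul_assoc, ha, one_mul])) eca.symm)
    (h.core_cent hab2 ha hc (by rw [mul_assoc, hab.symm])
      ((show Commute a c from hac).mul_left hbc).eq hac (mul_mem haS hbS) haS hcS
      (fun e => eab (by rw [← inv_eq_of_mul_eq_one_right hb]; exact mul_eq_one_iff_eq_inv.1 e)) ha1 hc1
      (fun e => hb1 (mul_eq_left.1 e)) ecab.symm
      (fun e => ecb (mul_left_cancel e).symm) eca.symm) hd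

theorem conclA_lift (h : Rk G) (hA : ConclA (G ⧸ Cfsg.oddCore G)) :
    (∃ n : ℕ, Nonempty (↥(Cfsg.pCore 2 G) ≃* QuaternionGroup (2 ^ (n + 1)))) ∧
    ∃ (G₁ : Subgroup G) (_ : ((Cfsg.pCore 2 G ⊔ Cfsg.oddCore G).subgroupOf G₁).Normal), G₁.Normal ∧
      Odd G₁.index ∧ Cfsg.pCore 2 G ⊔ Cfsg.oddCore G ≤ G₁ ∧
      Bender.Consumers.Three (↥G₁ ⧸ (Cfsg.pCore 2 G ⊔ Cfsg.oddCore G).subgroupOf G₁) := by
  haveI : Fact (Nat.Prime 2) := ⟨Nat.prime_two⟩
  haveI := DGroup.normal_oddCore G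
  obtain ⟨⟨n, ⟨en⟩⟩, ⟨S', hE⟩, Y, hPn, hYn, hidx, hle, hthree⟩ := hA
  set π := QuotientGroup.mk' (Cfsg.oddCore G) with hπ
  obtain ⟨S, rfl⟩ := Sylow.mapSurjective_surjective (QuotientGroup.mk'_surjective _) 2 S'
  -- the elementary group of order eight lifts
  have hES : HasEight (S : Subgroup G) := by
    obtain ⟨_, _, _, ⟨a, haS, rfl⟩, ⟨b, hbS, rfl⟩, ⟨c, hcS, rfl⟩, ha, hb, hc, hab, hac, hbc, ha1,
      hb1, hc1, eab, eca, ecb, ecab⟩ := hE
    have lift : ∀ {x y : G}, x ∈ (S : Subgroup G) → y ∈ (S : Subgroup G) → π x = π y → x = y :=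
      fun hx hy e => inj_on_two S.2 hx hy e
    exact ⟨a, b, c, haS, hbS, hcS,
      lift (mul_mem haS haS) (one_mem _) (by rw [map_mul, map_one]; exact ha),
      lift (mul_mem hbS hbS) (one_mem _) (by rw [map_mul, map_one]; exact hb),
      lift (mul_mem hcS hcS) (one_mem _) (by rw [map_mul, map_one]; exact hc),
      lift (mul_mem haS hbS) (mul_mem hbS haS) (by rw [map_mul, map_mul]; exact hab),
      lift (mul_mem haS hcS) (mul_mem hcS haS) (by rw [map_mul, map_mul]; exact hac),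
      lift (mul_mem hbS hcS) (mul_mem hcS hbS) (by rw [map_mul, map_mul]; exact hbc),
      fun e => ha1 (by rw [e, map_one]), fun e => hb1 (by rw [e, map_one]),
      fun e => hc1 (by rw [e, map_one]), fun e => eab (congrArg π e), fun e => eca (congrArg π e),
      fun e => ecb (congrArg π e), fun e => ecab (by rw [e, map_mul])⟩
  have hO := h.core_centralizes hES
  -- so every 2-element centralises the odd core
  have hO2 : ∀ {x : G}, (∃ k : ℕ, x ^ 2 ^ k = 1) → ∀ o ∈ Cfsg.oddCore G, o * x = x * o := by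
    rintro x ⟨k, hk⟩ o ho
    obtain ⟨T, hT⟩ := (CentralMeet.isPGroup_zpowers_of_pow hk).exists_le_sylow
    obtain ⟨g, rfl⟩ := MulAction.exists_smul_eq G S T
    have hx := hT (mem_zpowers x)
    rw [Sylow.coe_subgroup_smul] at hx
    obtain ⟨s, hs, rfl⟩ := hx
    show o * (g * s * g⁻¹) = g * s * g⁻¹ * o
    have h1 := mem_centralizer_iff.1 (hO ((DGroup.normal_oddCore G).conj_mem _ ho g⁻¹)) s hs
    calc o * (g * s * g⁻¹) = g * ((g⁻¹ * o * g⁻¹⁻¹) * s) * g⁻¹ := by group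
      _ = g * (s * (g⁻¹ * o * g⁻¹⁻¹)) * g⁻¹ := by rw [← h1]
      _ = g * s * g⁻¹ * o := by group
  set K := (Cfsg.pCore 2 (G ⧸ Cfsg.oddCore G)).comap π with hK
  set P₀ := (S : Subgroup G) ⊓ K with hP₀
  have hK' : ∀ k ∈ K, ∃ p ∈ P₀, ∃ o ∈ Cfsg.oddCore G, k = p * o := by
    intro k hk
    obtain ⟨s, hs, es⟩ := pCore_le (G := G ⧸ Cfsg.oddCore G)
      (S.mapSurjective (f := π) (QuotientGroup.mk'_surjective _)) (show π k ∈ Cfsg.pCore 2 (G ⧸ Cfsg.oddCore G) from hk)
    refine ⟨s, ⟨hs, by show π s ∈ Cfsg.pCore 2 (G ⧸ Cfsg.oddCore G); rw [es]; exact hk⟩, s⁻¹ * k, QuotientGroup.eq.1 es, by group⟩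
  haveI hP₀n : P₀.Normal := ⟨fun p hp g => by
    obtain ⟨k, hk⟩ := CentralMeet.exists_pow_of_mem S.2 hp.1
    have hy : (g * p * g⁻¹) ^ 2 ^ k = 1 := by rw [conj_pow, hk, mul_one, mul_inv_cancel]
    obtain ⟨q, hq, o, ho, e⟩ := hK' _ ((inferInstance : K.Normal).conj_mem p hp.2 g)
    obtain ⟨j, hj⟩ := CentralMeet.exists_pow_of_mem S.2 hq.1
    have hc : Commute q o := (hO2 ⟨j, hj⟩ o ho).symm
    have ho1 : o = 1 := by
      have h1 : o ^ 2 ^ (k + j) = 1 := by
        have h2 : (q * o) ^ 2 ^ (k + j) = 1 := by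
          rw [← e, pow_add, pow_mul, hy, one_pow]
        rw [hc.mul_pow, pow_add, mul_comm (2 ^ k), pow_mul q, hj, one_pow, one_mul] at h2
        rw [pow_add, mul_comm (2 ^ k)]; exact h2
      exact eq_one_of_core (CentralMeet.isPGroup_zpowers_of_pow h1) (mem_zpowers o) ho
    rw [e, ho1, mul_one]
    exact hq⟩
  have hP : Cfsg.pCore 2 G = P₀ := by
    refine le_antisymm (fun p hp => ⟨pCore_le S hp, ?_⟩) (le_pCore hP₀n (S.2.to_le inf_le_left))
    exact le_pCore (Normal.map inferInstance π (QuotientGroup.mk'_surjective _))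
      (pCore_pgroup.map π) (mem_map_of_mem π hp)
  have hKsup : Cfsg.pCore 2 G ⊔ Cfsg.oddCore G = K := by
    refine le_antisymm (sup_le (hP ▸ inf_le_right) fun o ho => ?_) fun k hk => ?_
    · show π o ∈ Cfsg.pCore 2 (G ⧸ Cfsg.oddCore G)
      rw [show π o = 1 from (QuotientGroup.eq_one_iff o).2 ho]
      exact one_mem _
    · obtain ⟨p, hp, o, ho, rfl⟩ := hK' k hk
      exact mul_mem (mem_sup_left (hP ▸ hp)) (mem_sup_right ho)
  refine ⟨⟨n, ⟨(MulEquiv.ofBijective
    ((π.comp (Cfsg.pCore 2 G).subtype).codRestrict (Cfsg.pCore 2 (G ⧸ Cfsg.oddCore G)) fun p =>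
      (hP ▸ p.2 : (p : G) ∈ P₀).2) ⟨?_, ?_⟩).trans en⟩⟩, Y.comap π, inferInstance, inferInstance,
    ?_, ?_, ?_⟩
  · intro x y e
    exact Subtype.ext (inj_on_two pCore_pgroup x.2 y.2 (congrArg Subtype.val e))
  · rintro ⟨q, hq⟩
    obtain ⟨k, rfl⟩ := QuotientGroup.mk'_surjective _ q
    obtain ⟨p, hp, o, ho, rfl⟩ := hK' k hq
    refine ⟨⟨p, hP ▸ hp⟩, Subtype.ext ?_⟩
    show π p = π (p * o)
    rw [map_mul, show π o = 1 from (QuotientGroup.eq_one_iff o).2 ho, mul_one]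
  · rwa [index_comap_of_surjective _ (QuotientGroup.mk'_surjective _)]
  · rw [hKsup]; exact comap_mono hle
  · haveI := hPn
    let f : ↥(Y.comap π) →* ↥Y ⧸ (Cfsg.pCore 2 (G ⧸ Cfsg.oddCore G)).subgroupOf Y :=
      (QuotientGroup.mk' _).comp (π.subgroupComap Y)
    have hf : Function.Surjective f := (QuotientGroup.mk'_surjective _).comp
      (MonoidHom.subgroupComap_surjective_of_surjective π Y (QuotientGroup.mk'_surjective _))
    refine hthree.congr ((QuotientGroup.quotientMulEquivOfEq ?_).trans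
      (QuotientGroup.quotientKerEquivOfSurjective f hf))
    ext x
    rw [mem_subgroupOf, hKsup, MonoidHom.mem_ker]
    show (x : G) ∈ K ↔ QuotientGroup.mk' _ (π.subgroupComap Y x) = 1
    rw [QuotientGroup.mk'_apply, QuotientGroup.eq_one_iff, mem_subgroupOf]
    rfl

theorem conclB_lift (hB : ConclB (G ⧸ Cfsg.oddCore G)) :
    ∃ (G₁ : Subgroup G) (_ : ((Cfsg.oddCore G).subgroupOf G₁).Normal), G₁.Normal ∧
      (Odd G₁.index ∨ ∃ k : ℕ, Odd k ∧ G₁.index = 2 * k) ∧ Cfsg.oddCore G ≤ G₁ ∧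
      Nonempty (↥G₁ ⧸ (Cfsg.oddCore G).subgroupOf G₁ ≃* (SL25 × SL25) ⧸ negPair) := by
  haveI := DGroup.normal_oddCore G
  obtain ⟨Y, hYn, hidx, ⟨e⟩⟩ := hB
  set π := QuotientGroup.mk' (Cfsg.oddCore G) with hπ
  refine ⟨Y.comap π, inferInstance, inferInstance, ?_, ?_, ?_⟩
  · rwa [index_comap_of_surjective _ (QuotientGroup.mk'_surjective _)]
  · intro o ho
    show π o ∈ Y
    rw [show π o = 1 from (QuotientGroup.eq_one_iff o).2 ho]
    exact one_mem _
  · have hf := MonoidHom.subgroupComap_surjective_of_surjective π Y (QuotientGroup.mk'_surjective _)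
    refine ⟨((QuotientGroup.quotientMulEquivOfEq ?_).trans
      (QuotientGroup.quotientKerEquivOfSurjective (π.subgroupComap Y) hf)).trans e⟩
    ext x
    rw [mem_subgroupOf, MonoidHom.mem_ker]
    rw [Subtype.ext_iff]
    exact (QuotientGroup.eq_one_iff (x : G)).symm

end CfsgLib.RankOneMeet
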