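import Cfsg.Agent.RankOneMeet.Comp
import Cfsg.Agent.RankOneMeet.Quasi
import Cfsg.Agent.RankOneMeet.Reduce
import Mathlib.GroupTheory.SpecificGroups.Quaternion

/-!
# Intersections of Sylow 2-subgroups of rank at most one: quaternion `O₂(G)`
-/

set_option autoImplicit false
set_option linter.unusedSectionVars false
set_option linter.style.haveILetI false

namespace CfsgLib.RankOneMeet

open Subgroup

universe u

/-- Generators of order four of a quaternion group, and its centre. -/
theorem quaternion_data (n : ℕ) :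
    ∃ i j : QuaternionGroup (2 ^ (n + 1)), i * i ≠ 1 ∧ i * i * (i * i) = 1 ∧ j * j = i * i ∧
      j * i * j⁻¹ = i⁻¹ ∧
      ∀ q : QuaternionGroup (2 ^ (n + 1)), (∀ x, x * q = q * x) → q * q = 1 := by
  set m := 2 ^ (n + 1) with hm
  have hm2 : 2 ≤ m := by
    rw [hm, pow_succ]
    have := Nat.one_le_two_pow (n := n)
    omega
  haveI : NeZero m := ⟨by omega⟩
  have h2m : ((m : ZMod (2 * m)) + m) = 0 := by
    rw [← Nat.cast_add, ← two_mul, ZMod.natCast_self]
  have hmne : (m : ZMod (2 * m)) ≠ 0 := by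
    intro e
    rw [ZMod.natCast_eq_zero_iff] at e
    have := Nat.le_of_dvd (by omega) e
    omega
  have hp : ((2 ^ n : ℕ) : ZMod (2 * m)) + (2 ^ n : ℕ) = (m : ZMod (2 * m)) := by
    rw [← Nat.cast_add, hm, pow_succ, mul_two]
  refine ⟨.a ((2 ^ n : ℕ) : ZMod (2 * m)), .xa 0, ?_, ?_, ?_, ?_, ?_⟩
  · rw [QuaternionGroup.a_mul_a, hp, QuaternionGroup.one_def, ne_eq, QuaternionGroup.a.injEq]
    exact hmne
  · rw [QuaternionGroup.a_mul_a, hp, QuaternionGroup.a_mul_a, h2m, QuaternionGroup.one_def]
  · rw [QuaternionGroup.xa_mul_xa, QuaternionGroup.a_mul_a, hp, sub_zero, add_zero]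
  · refine mul_inv_eq_iff_eq_mul.2 (eq_inv_mul_iff_mul_eq.2 ?_)
    rw [QuaternionGroup.xa_mul_a, QuaternionGroup.a_mul_xa, zero_add, sub_self]
  · rintro (k | k) hq
    · have h1 := hq (.xa 0)
      rw [QuaternionGroup.xa_mul_a, QuaternionGroup.a_mul_xa, QuaternionGroup.xa.injEq] at h1
      rw [QuaternionGroup.a_mul_a, QuaternionGroup.one_def, QuaternionGroup.a.injEq]
      linear_combination h1
    · exfalso
      have h1 := hq (.a 1)
      rw [QuaternionGroup.xa_mul_a, QuaternionGroup.a_mul_xa, QuaternionGroup.xa.injEq] at h1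
      have h2 : ((2 : ℕ) : ZMod (2 * m)) = 0 := by push_cast; linear_combination -h1
      rw [ZMod.natCast_eq_zero_iff] at h2
      have := Nat.le_of_dvd (by omega) h2
      omega

variable {G : Type u} [Group G] [Finite G]

theorem quaternion_case (h : Rk G) (hO : Cfsg.oddCore G = ⊥) (hns : ¬ Group.IsSolvable G)
    {n : ℕ} (e : ↥(Cfsg.pCore 2 G) ≃* QuaternionGroup (2 ^ (n + 1))) : ConclA G := by
  haveI : Fact (Nat.Prime 2) := ⟨Nat.prime_two⟩
  obtain ⟨i', j', hii, hi4, hjj, hji, hcen⟩ := quaternion_data n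
  set P := Cfsg.pCore 2 G with hPdef
  have hPbot : P ≠ ⊥ := fun hb => hii (by
    have : (e.symm i' : P) = 1 := Subtype.ext (mem_bot.1 (hb ▸ (e.symm i').2))
    have h1 : i' = 1 := by rw [← e.apply_symm_apply i', this, map_one]
    rw [h1, one_mul])
  obtain ⟨z, hzP, hz, hz1, hzc, hzu⟩ := exists_pCore_invol h hns hPbot
  have hzG : ∀ g : G, g * z = z * g := fun g => mem_center_iff.1 hzc g
  -- the elements of order four
  set i : G := ((e.symm i' : P) : G) with hidef
  set j : G := ((e.symm j' : P) : G) with hjdef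
  have hiP : i ∈ P := (e.symm i').2
  have hjP : j ∈ P := (e.symm j').2
  have hiz : i * i = z := by
    refine hzu _ (mul_mem hiP hiP) ?_ fun h1 => hii ?_
    · have h1 : ((e.symm (i' * i' * (i' * i')) : P) : G) = 1 := by rw [hi4, map_one]; rfl
      rw [map_mul, map_mul, Subgroup.coe_mul, Subgroup.coe_mul] at h1
      exact h1
    · have h2 : e.symm (i' * i') = 1 := Subtype.ext (by rw [map_mul]; exact h1)
      exact e.symm.injective (h2.trans (map_one _).symm)
  have hjz : j * j = z := by
    have h1 := congrArg (fun q => ((e.symm q : P) : G)) hjj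
    simp only [map_mul, Subgroup.coe_mul] at h1
    exact h1.trans hiz
  have hiinv : i⁻¹ = i * z := inv_eq_of_mul_eq_one_right (by rw [← mul_assoc, hiz, hz])
  have hjiz : j * i = i * j * z := by
    have h1 := congrArg (fun q => ((e.symm q : P) : G)) hji
    simp only [map_mul, map_inv, Subgroup.coe_mul, InvMemClass.coe_inv] at h1
    change j * i * j⁻¹ = i⁻¹ at h1
    rw [mul_inv_eq_iff_eq_mul.1 h1, hiinv, mul_assoc, ← hzG j, ← mul_assoc]
  have hcenP : ∀ p ∈ P, (∀ q ∈ P, q * p = p * q) → p * p = 1 := fun p hp hc => by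
    have h1 := hcen (e ⟨p, hp⟩) fun x => by
      rw [← e.apply_symm_apply x, ← map_mul, ← map_mul]
      exact congrArg e (Subtype.ext (hc _ (e.symm x).2))
    rw [← map_mul] at h1
    exact congrArg Subtype.val (e.injective (h1.trans (map_one e).symm))
  obtain ⟨M, hM⟩ := exists_component h hO hns
  have hMns := Comp.component_not_solvable hM
  have hMP : ∀ {M : Subgroup G}, Cfsg.IsComponent M → ∀ x ∈ M, x ∈ P → x = 1 ∨ x = z := fun hM x hxM hxP => by
    rcases eq_or_ne x 1 with rfl | hx1
    · exact Or.inl rfl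
    · exact Or.inr (hzu x hxP (hcenP x hxP fun q hq => (component_centralizes hO hM x hxM q hq).symm) hx1)
  -- an involution of `P M` other than `z`
  have hd : ∀ {M : Subgroup G}, Cfsg.IsComponent M → ∀ x ∈ M, x ∉ P → (x * x = 1 ∨ x * x = z) →
      ∃ p ∈ P, x * p * (x * p) = 1 ∧ x * p ≠ 1 ∧ x * p ≠ z := by
    intro M hM x hxM hxP hx
    rcases hx with hx | hx
    · refine ⟨1, one_mem _, by rw [mul_one, hx], ?_, ?_⟩ <;> rw [mul_one] <;>
        exact fun e => hxP (e ▸ (by first | exact one_mem _ | exact hzP))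
    · have hc := component_centralizes hO hM x hxM i hiP
      refine ⟨i, hiP, ?_, fun e => hxP ?_, fun e => hxP ?_⟩
      · rw [show x * i * (x * i) = x * (i * x) * i by group, ← hc,
          show x * (x * i) * i = x * x * (i * i) by group, hx, hiz, hz]
      · rw [mul_eq_one_iff_eq_inv.1 e]; exact inv_mem hiP
      · rw [eq_mul_inv_of_mul_eq e]; exact mul_mem hzP (inv_mem hiP)
  -- a four-group in every Sylow subgroup meeting `M`
  have hfour : ∀ {M : Subgroup G}, Cfsg.IsComponent M → ∀ (R : Sylow 2 M),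
      ∃ x ∈ (R : Subgroup M), (x : G) ∉ P ∧ ((x : G) * x = 1 ∨ (x : G) * x = z) := by
    intro M hM R
    have hnot : ¬ ∀ r ∈ (R : Subgroup M), (r : G) ∈ P := fun hall => by
      refine Comp.component_not_solvable hM (GWApps.isSolvable_of_cyclic_sylow R ?_)
      haveI : IsCyclic ↥(zpowers z) := inferInstance
      let f : (R : Subgroup M) →* zpowers z := (M.subtype.comp (R : Subgroup M).subtype).codRestrict _
        fun r => by
          rcases hMP hM _ (r : M).2 (hall r r.2) with e | e
          · rw [show (M.subtype.comp (R : Subgroup M).subtype) r = ((r : M) : G) from rfl, e]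
            exact one_mem _
          · rw [show (M.subtype.comp (R : Subgroup M).subtype) r = ((r : M) : G) from rfl, e]
            exact mem_zpowers z
      exact isCyclic_of_injective f fun a b he => Subtype.ext (Subtype.ext (congrArg Subtype.val he :))
    push Not at hnot
    obtain ⟨r, hr, hrP⟩ := hnot
    obtain ⟨k, hk⟩ := CentralMeet.exists_pow_of_mem R.2 hr
    have hk' : (r : G) ^ 2 ^ k = 1 := congrArg Subtype.val hk
    clear hk
    induction k generalizing r with
    | zero => exact absurd (by rw [show (r : G) = 1 by simpa using hk']; exact one_mem _) hrP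
    | succ k ih =>
      by_cases h2 : (r : G) * r ∈ P
      · exact ⟨r, hr, hrP, hMP hM _ (mul_mem r.2 r.2) h2⟩
      · exact ih (r * r) (mul_mem hr hr) h2 (by
          show ((r : G) * r) ^ 2 ^ k = 1
          rw [← sq, ← pow_mul, ← pow_succ']; exact hk')
  have hu : ∀ N : Subgroup G, Cfsg.IsComponent N → N = M := by
    intro N hN
    by_contra hne
    obtain ⟨R⟩ : Nonempty (Sylow 2 M) := inferInstance
    obtain ⟨x, -, hxP, hx⟩ := hfour hM R
    obtain ⟨p, hp, hd2, hd1, hdz⟩ := hd hM x x.2 hxP hx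
    exact h.no_four_comm (N := N) (Comp.component_not_solvable hN) (a := (x : G) * p) (b := z) hd2 hz
      (hzG _) hd1 hz1 hdz (fun m hm => (((show Commute m (x : G) from
        component_commute hN hM hne m hm x x.2).mul_right
          (component_centralizes hO hN m hm p hp))).eq) fun m _ => hzG m
  haveI := normal_of_unique hM hu
  have hperf : ⁅M, M⁆ = M := Comp.component_perfect hM
  have hqs : Cfsg.IsQuasisimple M := hM.2
  have hZP : ∀ x ∈ M, (∀ m ∈ M, m * x = x * m) → x ∈ P := fun x hx hc =>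
    component_inter_centralizer hO hM hx hc
  have hZM : IsPGroup 2 (center M) := by
    refine (pCore_pgroup (G := G)).of_injective
      ((M.subtype.comp (center M).subtype).codRestrict P fun c => center_component_le hO hM ⟨c, c.2, rfl⟩)
      fun a b he => Subtype.ext (Subtype.ext (congrArg Subtype.val he :))
  -- Sylow subgroups of `M` modulo the centre meet trivially
  have hti : TI (M ⧸ center M) := by
    refine ti_quotient_center hZM fun R₁ R₂ x hx₁ hx₂ hxc hxx => ?_
    have hxP : (x : G) ∉ P := fun hP' => by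
      rcases hMP hM _ x.2 hP' with e | e
      · exact hxc (by rw [show x = 1 from Subtype.ext e]; exact one_mem _)
      · exact hxc (mem_center_iff.2 fun m => Subtype.ext (by
          show (m : G) * x = x * m
          rw [e]; exact hzG m))
    have hxx' : (x : G) * x = 1 ∨ (x : G) * x = z :=
      hMP hM _ (mul_mem x.2 x.2) (hZP _ (mul_mem x.2 x.2) fun m hm =>
        congrArg Subtype.val (mem_center_iff.1 hxx ⟨m, hm⟩))
    obtain ⟨p, hp, hd2, hd1, hdz⟩ := hd hM x x.2 hxP hxx'
    obtain ⟨U, hU⟩ := (R₁.2.map M.subtype).exists_le_sylow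
    obtain ⟨V, hV⟩ := (R₂.2.map M.subtype).exists_le_sylow
    have e1 : U = V := h.unique_of_ne hz hz1 hzc hzP U V _ hd2 hd1 hdz
      (mul_mem (hU ⟨x, hx₁, rfl⟩) (pCore_le U hp)) (mul_mem (hV ⟨x, hx₂, rfl⟩) (pCore_le V hp))
    subst e1
    have h1 : (U : Subgroup G).comap M.subtype = (R₁ : Subgroup M) :=
      R₁.3 U.2.comap_subtype fun p hp => hU ⟨p, hp, rfl⟩
    have h2 : (U : Subgroup G).comap M.subtype = (R₂ : Subgroup M) :=
      R₂.3 U.2.comap_subtype fun p hp => hV ⟨p, hp, rfl⟩
    exact Sylow.ext (h1.symm.trans h2)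
  set C := centralizer (M : Set G) with hCdef
  -- a four-group in `P (S ∩ M)`
  have hpair : ∀ S : Sylow 2 G, ∃ x ∈ (S : Subgroup G) ⊓ M, ∃ p ∈ P,
      x * p * (x * p) = 1 ∧ x * p ≠ 1 ∧ x * p ≠ z := by
    intro S
    obtain ⟨R, hR⟩ := PushL2.exists_sylow_inf M S
    obtain ⟨x, hx, hxP, hxx⟩ := hfour hM R
    obtain ⟨p, hp, h3⟩ := hd hM x x.2 hxP hxx
    exact ⟨x, ⟨by rw [hR] at hx; exact hx, x.2⟩, p, hp, h3⟩
  have hmove : ∀ (S : Sylow 2 G) (m : G), (∀ x ∈ (S : Subgroup G) ⊓ M,
      m * x * m⁻¹ ∈ (S : Subgroup G)) → m ∈ normalizer ((S : Subgroup G) : Set G) := by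
    intro S m hm
    obtain ⟨x, hx, p, hp, hd2, hd1, hdz⟩ := hpair S
    refine h.move hz hz1 hzc hzP hd2 hd1 hdz (mul_mem hx.1 (pCore_le S hp)) ?_
    rw [show m * (x * p) * m⁻¹ = m * x * m⁻¹ * (m * p * m⁻¹) by group]
    exact mul_mem (hm x hx) (pCore_le S ((inferInstance : P.Normal).conj_mem p hp m))
  obtain ⟨S⟩ : Nonempty (Sylow 2 G) := inferInstance
  have hodd : Odd (M ⊔ C).index := odd_index_sup M hqs hperf hti S
    (fun x hx hc => pCore_le S (hZP x hx hc)) fun m _ hm => hmove S m fun x hx => (hm x hx).1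
  -- `C` meets Sylow subgroups inside `P`
  have hCN : C ≤ normalizer ((S : Subgroup G) : Set G) := fun c hc => hmove S c fun x hx => by
    rw [show c * x * c⁻¹ = x by rw [← mem_centralizer_iff.1 hc x hx.2, mul_inv_cancel_right]]
    exact hx.1
  haveI : C.Normal := Subgroup.normal_centralizer
  have hSC : (S : Subgroup G) ⊓ C ≤ P := by
    rw [hPdef, ← fitting_eq hO]
    haveI : (((S : Subgroup G) ⊓ C).subgroupOf C).Normal := ⟨fun x hx c =>
      ⟨(mem_normalizer_iff.1 (hCN c.2) x).1 hx.1, ((c * x * c⁻¹ : C)).2⟩⟩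
    refine Comp.subnormal_nilpotent_le_fitting ?_ (S.2.to_le inf_le_left).isNilpotent
    have h1 := Comp.isSubnormal_map_subtype (Normal.isSubnormal (inferInstance : C.Normal))
      (inferInstance : (((S : Subgroup G) ⊓ C).subgroupOf C).Normal)
    rwa [Comp.map_subgroupOf_inf, inf_assoc, inf_idem] at h1
  have hPC : P ≤ C := fun p hp => mem_centralizer_iff.2 fun m hm => component_centralizes hO hM m hm p hp
  have hrel : Odd (P.relIndex C) := by
    obtain ⟨R, hR⟩ := PushL2.exists_sylow_inf C S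
    refine Odd.of_dvd_nat (Nat.not_even_iff_odd.1 fun h2 => R.not_dvd_index (even_iff_two_dvd.1 h2)) ?_
    rw [hR]
    refine index_dvd_of_le fun c hc => ?_
    exact mem_subgroupOf.2 (hSC ⟨hc, c.2⟩)
  set G₁ := M ⊔ P with hG₁
  have hPG₁ : P ≤ G₁ := le_sup_right
  have hodd₁ : Odd G₁.index := by
    have h1 : G₁ ≤ M ⊔ C := sup_le le_sup_left (hPC.trans le_sup_right)
    rw [← relIndex_mul_index h1]
    refine Odd.mul (hrel.of_dvd_nat ?_) hodd
    have h2 : M ⊔ C = C ⊔ G₁ := le_antisymm (sup_le (le_sup_left.trans le_sup_right) le_sup_left)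
      (sup_le le_sup_right h1)
    rw [h2, relIndex_sup_right]
    exact relIndex_dvd_of_le_left C hPG₁
  haveI : G₁.Normal := Subgroup.sup_normal M P
  haveI : (P.subgroupOf G₁).Normal := inferInstance
  -- the quotient
  have hmem₁ : ∀ g : G₁, ∃ m ∈ M, ∃ p ∈ P, (g : G) = m * p := fun g => by
    obtain ⟨m, hm, p, hp, e⟩ := mem_sup_of_normal_left.1 g.2
    exact ⟨m, hm, p, hp, e.symm⟩
  let f : G₁ →* socle M := ((QuotientGroup.mk' C).comp G₁.subtype).codRestrict _ fun g => by
    obtain ⟨m, hm, p, hp, e⟩ := hmem₁ g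
    refine ⟨m, hm, ?_⟩
    show QuotientGroup.mk' C m = QuotientGroup.mk' C (g : G)
    rw [e, map_mul, show QuotientGroup.mk' C p = 1 from (QuotientGroup.eq_one_iff p).2 (hPC hp), mul_one]
  have hf : Function.Surjective f := by
    rintro ⟨_, m, hm, rfl⟩
    exact ⟨⟨m, mem_sup_left hm⟩, rfl⟩
  have hker : f.ker = P.subgroupOf G₁ := by
    ext g
    rw [MonoidHom.mem_ker, mem_subgroupOf]
    refine ⟨fun hg => ?_, fun hg => Subtype.ext ((QuotientGroup.eq_one_iff _).2 (hPC hg))⟩
    have hgC : (g : G) ∈ C := (QuotientGroup.eq_one_iff _).1 (congrArg Subtype.val hg)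
    obtain ⟨m, hm, p, hp, e⟩ := hmem₁ g
    rw [e] at hgC ⊢
    have hmC : m ∈ C := by
      have := mul_mem hgC (inv_mem (hPC hp))
      rwa [mul_inv_cancel_right] at this
    exact mul_mem (hZP m hm fun m' hm' => mem_centralizer_iff.1 hmC m' hm') hp
  haveI : IsSimpleGroup (M ⧸ center M) := hqs.2
  have hnc : ¬ IsMulCommutative (M ⧸ center M) := fun hc => hMns (by
    letI : CommGroup (M ⧸ center M) :=
      { (inferInstance : Group (M ⧸ center M)) with mul_comm := hc.is_comm.comm }
    haveI : Group.IsSolvable (M ⧸ center M) := inferInstance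
    haveI : Group.IsSolvable (center M) := by
      letI : CommGroup (center M) :=
        { (inferInstance : Group (center M)) with mul_comm := fun a b => Subtype.ext (mem_center_iff.1 b.2 a) }
      infer_instance
    exact (Group.isSolvable_iff_subgroup_quotient (center M)).2 ⟨inferInstance, inferInstance⟩)
  obtain ⟨hR, h3, -⟩ := hti.data hnc
  refine ⟨⟨n, ⟨e⟩⟩, ⟨S, ?_⟩, G₁, inferInstance, inferInstance, hodd₁, hPG₁,
    h3.congr (((QuotientGroup.quotientMulEquivOfEq hker.symm).trans
      (QuotientGroup.quotientKerEquivOfSurjective f hf)).trans (socleEquiv M).symm)⟩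
  -- an elementary subgroup of order eight
  obtain ⟨R, hRS⟩ := PushL2.exists_sylow_inf M S
  set π := QuotientGroup.mk' (center M) with hπ
  let RX := R.mapSurjective (f := π) (QuotientGroup.mk'_surjective _)
  obtain ⟨a, b, ha, hb, haR, hbR, hab⟩ := hR.two_invols RX
  obtain ⟨x, hx, rfl⟩ := haR
  obtain ⟨y, hy, rfl⟩ := hbR
  have hq : ∀ {w : M}, orderOf (π w) = 2 → ((w : G) * w = 1 ∨ (w : G) * w = z) ∧ (w : G) ∉ P := by
    intro w hw
    have hc : w * w ∈ center M := (QuotientGroup.eq_one_iff _).1 (by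
      show π (w * w) = 1
      rw [map_mul]; exact CentralRankOne.mul_self_of_order_two hw)
    refine ⟨hMP hM _ (mul_mem w.2 w.2) (hZP _ (mul_mem w.2 w.2) fun m hm =>
      congrArg Subtype.val (mem_center_iff.1 hc ⟨m, hm⟩)), fun hP' => ?_⟩
    refine CentralRankOne.ne_one_of_order_two hw ((QuotientGroup.eq_one_iff w).2 (mem_center_iff.2 fun m => ?_))
    exact Subtype.ext (component_centralizes hO hM m m.2 w hP')
  obtain ⟨hx2, hxP⟩ := hq ha
  obtain ⟨hy2, hyP⟩ := hq hb
  -- both lifts have the same square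
  have hsqall : ∀ (x y : M), orderOf (π x) = 2 → orderOf (π y) = 2 → x ∈ (R : Subgroup M) → y ∈ (R : Subgroup M) →
      (x : G) * x = (y : G) * y := by
    intro x y ha hb hx hy
    obtain ⟨hx2, -⟩ := hq ha
    obtain ⟨nn, -, hnn⟩ := hR.transitive RX ha hb ⟨x, hx, rfl⟩ ⟨y, hy, rfl⟩
    obtain ⟨w, rfl⟩ := QuotientGroup.mk'_surjective (center M) nn
    rw [← map_inv, ← map_mul, ← map_mul] at hnn
    obtain ⟨c, hc, hyc⟩ : ∃ c ∈ center M, y = w * x * w⁻¹ * c :=
      ⟨_, QuotientGroup.eq.1 hnn, by group⟩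
    have hc2 : c * c = 1 := by
      have h2 := hMP hM _ c.2 (center_component_le hO hM ⟨c, hc, rfl⟩)
      rcases h2 with e | e <;> apply Subtype.ext <;> show (c : G) * c = 1 <;> rw [e]
      · rw [one_mul]
      · exact hz
    have h3 : (y * y : M) = w * (x * x) * w⁻¹ := by
      rw [hyc, show w * x * w⁻¹ * c * (w * x * w⁻¹ * c) = w * x * w⁻¹ * (c * (w * x * w⁻¹)) * c by group,
        ← mem_center_iff.1 hc (w * x * w⁻¹)]
      rw [show w * x * w⁻¹ * (w * x * w⁻¹ * c) * c = w * (x * x) * w⁻¹ * (c * c) by group, hc2, mul_one]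
    have h4 := congrArg Subtype.val h3
    simp only [Subgroup.coe_mul, InvMemClass.coe_inv] at h4
    rw [h4]
    rcases hx2 with e | e <;> rw [e]
    · rw [mul_one, mul_inv_cancel]
    · rw [hzG, mul_inv_cancel_right]
  have hsq := hsqall x y ha hb hx hy
  have hxy : (x : G)⁻¹ * y ∉ P := fun hP' => hab (QuotientGroup.eq.2 (mem_center_iff.2 fun m =>
    Subtype.ext (component_centralizes hO hM m m.2 _ hP')))
  have hxS : (x : G) ∈ (S : Subgroup G) := by rw [hRS] at hx; exact hx
  have hyS : (y : G) ∈ (S : Subgroup G) := by rw [hRS] at hy; exact hy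
  have hxc : ∀ p ∈ P, Commute (x : G) p := fun p hp => component_centralizes hO hM x x.2 p hp
  have hyc : ∀ p ∈ P, Commute (y : G) p := fun p hp => component_centralizes hO hM y y.2 p hp
  have hz2 : ∀ {g : G}, g * g = 1 → g * z * (g * z) = 1 := fun {g} hg => by
    rw [show g * z * (g * z) = g * (z * g) * z by group, ← hzG g,
      show g * (g * z) * z = g * g * (z * z) by group, hg, hz, one_mul]
  -- the lifts
  obtain ⟨p, hp, q, hq', hA, hB, hcomm⟩ : ∃ p ∈ P, ∃ q ∈ P, (x : G) * p * ((x : G) * p) = 1 ∧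
      (y : G) * q * ((y : G) * q) = 1 ∧ Commute ((x : G) * p) ((y : G) * q) := by
    have hsqr : ∀ (w : M) (p : G), Commute (w : G) p → (w : G) * p * ((w : G) * p) = (w : G) * w * (p * p) :=
      fun w p hwp => by
        rw [show (w : G) * p * ((w : G) * p) = (w : G) * (p * w) * p by group, ← hwp.eq]; group
    have hab' : π x * π y = π y * π x :=
      (CentralMeet.mem_zs.1 (hR.mem_zs_of_invol RX hb ⟨y, hy, rfl⟩)).2 _ ⟨x, hx, rfl⟩
    obtain ⟨u, hu, hxy'⟩ : ∃ u, (u = 1 ∨ u = z) ∧ (x : G) * y = y * x * u := by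
      have h1 : (y * x)⁻¹ * (x * y) ∈ center M := QuotientGroup.eq.1 (by
        show π (y * x) = π (x * y)
        rw [map_mul, map_mul, hab'])
      refine ⟨(((y * x)⁻¹ * (x * y) : M) : G), hMP hM _ ((y * x)⁻¹ * (x * y)).2
        (center_component_le hO hM ⟨_, h1, rfl⟩), ?_⟩
      simp only [Subgroup.coe_mul, InvMemClass.coe_inv]
      group
    have hxy2 : (x : G) * y * ((x : G) * y) = (x : G) * x * ((y : G) * y) * u := by
      rcases hu with e0 | e0 <;> rw [e0] at hxy' ⊢
      · rw [mul_one] at hxy' ⊢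
        rw [show (x : G) * y * ((x : G) * y) = x * (y * x) * y by group, ← hxy']; group
      · have hyx : (y : G) * x = x * y * z := by
          rw [hxy', mul_assoc, hz, mul_one]
        rw [show (x : G) * y * ((x : G) * y) = x * (y * x) * y by group, hyx,
          show (x : G) * (x * y * z) * y = x * x * y * (z * y) by group, ← hzG (y : G)]
        group
    rcases hx2 with e1 | e1
    · refine ⟨1, one_mem _, 1, one_mem _, by rw [mul_one, e1], by rw [mul_one, ← hsq, e1], ?_⟩
      rw [mul_one, mul_one]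
      have hab2 : orderOf (π (x * y)) = 2 := CentralRankOne.orderOf_two (by
        rw [map_mul, show π x * π y * (π x * π y) = π x * (π y * π x) * π y by group, ← hab',
          show π x * (π x * π y) * π y = π x * π x * (π y * π y) by group,
          CentralRankOne.mul_self_of_order_two ha, CentralRankOne.mul_self_of_order_two hb, one_mul])
        fun e2 => hab (by
          rw [map_mul] at e2
          rw [mul_eq_one_iff_eq_inv.1 e2]
          exact inv_eq_of_mul_eq_one_right (CentralRankOne.mul_self_of_order_two hb))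
      have h5 : (x : G) * x = ((x * y : M) : G) * (x * y : M) :=
        hsqall x (x * y) ha hab2 hx (mul_mem hx hy)
      rw [Subgroup.coe_mul, hxy2, ← hsq, e1, one_mul, one_mul] at h5
      show (x : G) * y = y * x
      rw [hxy', ← h5, mul_one]
    · rcases hu with e0 | e0 <;> rw [e0] at hxy'
      · refine ⟨i, hiP, i, hiP, by rw [hsqr x i (hxc i hiP), e1, hiz, hz],
          by rw [hsqr y i (hyc i hiP), ← hsq, e1, hiz, hz], ?_⟩
        rw [mul_one] at hxy'
        exact ((show Commute (x : G) y from hxy').mul_right (hxc i hiP)).mul_left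
          (((hyc i hiP).symm).mul_right (Commute.refl i))
      · refine ⟨i, hiP, j, hjP, by rw [hsqr x i (hxc i hiP), e1, hiz, hz],
          by rw [hsqr y j (hyc j hjP), ← hsq, e1, hjz, hz], ?_⟩
        show (x : G) * i * (y * j) = y * j * (x * i)
        calc (x : G) * i * (y * j) = x * (i * y) * j := by group
          _ = x * (y * i) * j := by rw [(hyc i hiP).eq]
          _ = x * y * (i * j) := by group
          _ = y * x * z * (i * j) := by rw [hxy']
          _ = y * x * (i * j * z) := by rw [hzG (i * j)]; group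
          _ = y * x * (j * i) := by rw [hjiz]
          _ = y * (x * j) * i := by group
          _ = y * (j * x) * i := by rw [(hxc j hjP).eq]
          _ = y * j * (x * i) := by group
  refine ⟨(x : G) * p, (y : G) * q, z, mul_mem hxS (pCore_le S hp), mul_mem hyS (pCore_le S hq'),
    pCore_le S hzP, hA, hB, hz, hcomm.eq, (hzG _), (hzG _), fun e => hxP ?_, fun e => hyP ?_, hz1,
    fun e => hxy ?_, fun e => hxP ?_, fun e => hyP ?_, fun e => hxy ?_⟩
  · rw [mul_eq_one_iff_eq_inv.1 e]; exact inv_mem hp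
  · rw [mul_eq_one_iff_eq_inv.1 e]; exact inv_mem hq'
  · rw [show (x : G)⁻¹ * y = p * q⁻¹ by
      rw [eq_mul_inv_iff_mul_eq, mul_assoc, ← e, inv_mul_cancel_left]]
    exact mul_mem hp (inv_mem hq')
  · rw [eq_mul_inv_of_mul_eq e.symm]; exact mul_mem hzP (inv_mem hp)
  · rw [eq_mul_inv_of_mul_eq e.symm]; exact mul_mem hzP (inv_mem hq')
  · have h1 : (x : G) * y ∈ P := by
      rw [show (x : G) * y = z * (p * q)⁻¹ by
        refine eq_mul_inv_of_mul_eq ?_
        rw [e, show (x : G) * y * (p * q) = x * (y * p) * q by group, (hyc p hp).eq]; group]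
      exact mul_mem hzP (inv_mem (mul_mem hp hq'))
    have h2 : (x : G) * x ∈ P := by
      rcases hx2 with e2 | e2 <;> rw [e2]
      · exact one_mem _
      · exact hzP
    rw [show (x : G)⁻¹ * y = ((x : G) * x)⁻¹ * ((x : G) * y) by group]
    exact mul_mem (inv_mem h2) h1

end CfsgLib.RankOneMeet
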