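import Cfsg.Agent.CentralRankOne.Rigid

/-!
# Outer elements of 2-power order over a simple group with rigid Sylow 2-subgroups, local form

The index is odd as soon as the elements of the subgroup moving the central involutions of a Sylow
2-subgroup into it normalize a Sylow 2-subgroup of the whole group.
-/

set_option autoImplicit false
set_option linter.unusedSectionVars false
set_option linter.style.haveILetI false

namespace CfsgLib.RankOneMeet

open Subgroup
open CfsgLib.CentralRankOne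

universe u

variable {Q : Type u} [Group Q] [Finite Q]

/-- A normal simple subgroup with rigid Sylow 2-subgroups has odd index. -/
theorem odd_index_of_rigid
    (L : Subgroup Q) [L.Normal] [IsSimpleGroup L] (hcent : centralizer (L : Set Q) = ⊥)
    (P : Sylow 2 L) (hR : Rigid P) (S : Sylow 2 Q)
    (hS : (P : Subgroup L).map L.subtype ≤ (S : Subgroup Q))
    (hmove : ∀ n : L, (∀ a ∈ omegaCenter P, n * a * n⁻¹ ∈ (P : Subgroup L)) →
      (n : Q) ∈ normalizer ((S : Subgroup Q) : Set Q)) : Odd L.index := by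
  classical
  haveI : Fact (Nat.Prime 2) := ⟨Nat.prime_two⟩
  obtain ⟨a₀, ha₀, b₀, hb₀, ha1, hb1, hab⟩ := hR.two
  set P' := (P : Subgroup L).map L.subtype with hP'
  have hSL : ∀ l : L, (l : Q) ∈ (S : Subgroup Q) → l ∈ (P : Subgroup L) := fun l hl => by
    have h1 : (S : Subgroup Q).comap L.subtype = (P : Subgroup L) :=
      P.3 (S.2.comap_subtype) fun p hp => hS ⟨p, hp, rfl⟩
    exact h1.le hl
  have hPS : ∀ l ∈ (P : Subgroup L), (l : Q) ∈ (S : Subgroup Q) := fun l hl => hS ⟨l, hl, rfl⟩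
  have heven : ¬ Odd (Nat.card L) := fun ho => by
    have h1 : orderOf a₀ = 2 := orderOf_two ha₀.2.1 ha1
    exact Nat.not_even_iff_odd.2 (ho.of_dvd_nat (h1 ▸ orderOf_dvd_natCard a₀)) even_two
  have hNS : ∀ n ∈ normalizer ((P : Subgroup L) : Set L), (n : Q) ∈ normalizer ((S : Subgroup Q) : Set Q) :=
    fun n hn => hmove n fun a ha => (mem_normalizer_iff.1 hn a).1 ha.1
  by_contra hodd
  obtain ⟨s, hsS, hsL⟩ : ∃ s ∈ (S : Subgroup Q), s ∉ L := by
    by_contra hno
    push Not at hno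
    exact S.not_dvd_index ((even_iff_two_dvd.1 (Nat.not_odd_iff_even.1 hodd)).trans
      (index_dvd_of_le hno))
  -- a complement of `P` in its normalizer
  set N := normalizer ((P : Subgroup L) : Set L) with hN
  have hPN : (P : Subgroup L) ≤ N := le_normalizer
  haveI : ((P : Subgroup L).subgroupOf N).Normal :=
    ⟨fun p hp n => (mem_normalizer_iff.1 n.2 (p : L)).1 hp⟩
  have hidx : ¬ 2 ∣ ((P : Subgroup L).subgroupOf N).index := fun hd =>
    P.not_dvd_index (hd.trans (relIndex_dvd_index_of_le hPN))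
  have hPN2 : IsPGroup 2 ((P : Subgroup L).subgroupOf N) := P.2.comap_subtype
  have hcop : Nat.Coprime (Nat.card ((P : Subgroup L).subgroupOf N))
      ((P : Subgroup L).subgroupOf N).index := by
    obtain ⟨k, hk⟩ := IsPGroup.iff_card.1 hPN2
    rw [hk]
    exact Nat.Coprime.pow_left k ((Nat.Prime.coprime_iff_not_dvd Nat.prime_two).2 hidx)
  obtain ⟨T, hT⟩ := exists_right_complement'_of_coprime hcop
  set T' := (T.map N.subtype).map L.subtype with hT'
  have hTodd : Odd (Nat.card T') := by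
    rw [hT', Subgroup.card_map_of_injective L.subtype_injective,
      Subgroup.card_map_of_injective N.subtype_injective]
    have h1 := hT.symm.index_eq_card
    rw [← h1]
    exact Nat.odd_iff.2 (Nat.two_dvd_ne_zero.1 hidx)
  -- a fixed element in the coset of `s`
  have hTn : ∀ t : T', (t : Q) ∈ L ∧ (t : Q) ∈ normalizer ((S : Subgroup Q) : Set Q) := by
    rintro ⟨_, _, ⟨n, -, rfl⟩, rfl⟩
    exact ⟨(n : L).2, hNS n n.2⟩
  set B := T'.map (MulAut.conj : Q →* MulAut Q) with hB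
  have hBodd : Odd (Nat.card B) := hTodd.of_dvd_nat (Subgroup.card_map_dvd _ _)
  have hsmul : ∀ (t : T') (g : Q),
      (⟨MulAut.conj (t : Q), (t : Q), t.2, rfl⟩ : B) • g = (t : Q) * g * (t : Q)⁻¹ := fun t g => rfl
  haveI : Group.IsSolvable P' := by
    haveI : Group.IsNilpotent P' := (P.2.map L.subtype).isNilpotent
    infer_instance
  have hPS' : ∀ {g : Q}, g ∈ L → g ∈ (S : Subgroup Q) → g ∈ P' := fun {g} hgL hgS =>
    ⟨⟨g, hgL⟩, hSL ⟨g, hgL⟩ hgS, rfl⟩
  obtain ⟨c, hc, hsc⟩ := Coprime.exists_fixed_mem_coset_of_isSolvable' (A := B) P'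
    (fun b g hg => by
      obtain ⟨_, t', ht', rfl⟩ := b
      obtain ⟨t, rfl⟩ : ∃ t : T', (t : Q) = t' := ⟨⟨t', ht'⟩, rfl⟩
      obtain ⟨l, hl, rfl⟩ := hg
      show (t : Q) * _ * (t : Q)⁻¹ ∈ P'
      exact hPS' (mul_mem (mul_mem (hTn t).1 l.2) (inv_mem (hTn t).1))
        ((mem_normalizer_iff.1 (hTn t).2 _).1 (hPS l hl)))
    (by
      obtain ⟨k, hk⟩ := IsPGroup.iff_card.1 (P.2.map L.subtype)
      rw [hk]
      exact Nat.Coprime.pow_right k (Nat.coprime_two_right.2 hBodd))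
    s (fun b => by
      obtain ⟨_, t', ht', rfl⟩ := b
      obtain ⟨t, rfl⟩ : ∃ t : T', (t : Q) = t' := ⟨⟨t', ht'⟩, rfl⟩
      show s⁻¹ * ((t : Q) * s * (t : Q)⁻¹) ∈ P'
      refine hPS' ?_ (mul_mem (inv_mem hsS) ((mem_normalizer_iff.1 (hTn t).2 s).1 hsS))
      rw [show s⁻¹ * ((t : Q) * s * (t : Q)⁻¹) = s⁻¹ * (t : Q) * s⁻¹⁻¹ * (t : Q)⁻¹ by group]
      exact mul_mem ((inferInstance : L.Normal).conj_mem _ (hTn t).1 s⁻¹) (inv_mem (hTn t).1))
  have hcS : c ∈ (S : Subgroup Q) := by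
    have := mul_mem hsS (hS hsc)
    rwa [mul_inv_cancel_left] at this
  have hcL : c ∉ L := fun e => hsL (by
    have h1 : s⁻¹ * c ∈ L := map_subtype_le _ hsc
    have := mul_mem e (inv_mem h1)
    rwa [show c * (s⁻¹ * c)⁻¹ = s by group] at this)
  have hdec : ∀ n ∈ N, ∃ p ∈ (P : Subgroup L), ∃ t ∈ N, (∀ g : Q, (∀ b : B, b • g = g) →
      g * (t : Q) = (t : Q) * g) ∧ n = p * t := by
    intro n hn
    obtain ⟨⟨p, t⟩, hpt⟩ := hT.2 ⟨n, hn⟩
    refine ⟨(p.1 : L), p.2, (t.1 : L), t.1.2, fun g hg => ?_, (congrArg Subtype.val hpt).symm⟩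
    have h1 := hg ⟨MulAut.conj ((t.1 : L) : Q), _, ⟨_, ⟨t.1, t.2, rfl⟩, rfl⟩, rfl⟩
    change ((t.1 : L) : Q) * g * ((t.1 : L) : Q)⁻¹ = g at h1
    exact (mul_inv_eq_iff_eq_mul.1 h1).symm
  -- an involution outside `L`
  obtain ⟨x, hxS, hx2, hxL, hxT⟩ : ∃ x ∈ (S : Subgroup Q), x * x = 1 ∧ x ∉ L ∧
      ∀ b : B, b • x = x := by
    obtain ⟨k, hk⟩ := S.2 ⟨c, hcS⟩
    have hk' : c ^ 2 ^ k = 1 := congrArg Subtype.val hk
    clear hk
    induction k with
    | zero => exact absurd (show c ∈ L by rw [show c = 1 by simpa using hk']; exact one_mem L) hcL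
    | succ j ih =>
      by_cases hj : c ^ 2 ^ j = 1
      · exact ih hj
      set y := c ^ 2 ^ j with hy
      have hy2 : y * y = 1 := by rw [hy, ← pow_add, ← two_mul, ← pow_succ']; exact hk'
      have hyT : ∀ b : B, b • y = y := fun b => by rw [hy, smul_pow', hc b]
      by_cases hyL : y ∈ L
      · exfalso
        have hyP : (⟨y, hyL⟩ : L) ∈ omegaCenter P :=
          hR.central _ (hSL _ (pow_mem hcS _)) (Subtype.ext hy2)
        have hfix : ∀ n ∈ N, n * (⟨y, hyL⟩ : L) * n⁻¹ = ⟨y, hyL⟩ := by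
          intro n hn
          obtain ⟨p, hp, t, -, ht, rfl⟩ := hdec n hn
          have h1 : (⟨y, hyL⟩ : L) * t = t * ⟨y, hyL⟩ := Subtype.ext (ht y hyT)
          rw [show p * t * ⟨y, hyL⟩ * (p * t)⁻¹ = p * (t * ⟨y, hyL⟩ * t⁻¹) * p⁻¹ by group, ← h1,
            mul_inv_cancel_right, commute_omegaCenter hyP hp, mul_inv_cancel_right]
        obtain ⟨n, hn, e⟩ := hR.trans _ hyP a₀ ha₀ (fun e => hj (congrArg Subtype.val e)) ha1
        obtain ⟨m, hm, e'⟩ := hR.trans _ hyP b₀ hb₀ (fun e => hj (congrArg Subtype.val e)) hb1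
        exact hab (by rw [← e, ← e', hfix n hn, hfix m hm])
      · exact ⟨y, pow_mem hcS _, hy2, hyL, hyT⟩
  let α : MulAut L := MulAut.conjNormal x
  have hαv : ∀ g : L, ((α g : L) : Q) = x * g * x⁻¹ := fun g => MulAut.conjNormal_apply x g
  have hα2 : ∀ g, α (α g) = g := fun g => Subtype.ext (by
    rw [hαv, hαv, show x * (x * (g : Q) * x⁻¹) * x⁻¹ = x * x * g * (x * x)⁻¹ by group, hx2,
      one_mul, inv_one, mul_one])
  have hαP : ∀ l ∈ (P : Subgroup L), α l ∈ (P : Subgroup L) := fun l hl => hSL _ (by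
    rw [hαv]; exact mul_mem (mul_mem hxS (hPS l hl)) (inv_mem hxS))
  have hαt : ∀ t : L, x * (t : Q) = (t : Q) * x → α t = t := fun t ht => Subtype.ext (by
    rw [hαv, ht, mul_inv_cancel_right])
  have hdecα : ∀ n ∈ N, ∃ p ∈ (P : Subgroup L), ∃ t ∈ N, α t = t ∧ n = p * t := fun n hn => by
    obtain ⟨p, hp, t, ht, htc, e⟩ := hdec n hn
    exact ⟨p, hp, t, ht, hαt t (htc x hxT), e⟩
  have hαW : ∀ a ∈ omegaCenter P, α a = a := by
    have hαmem : ∀ a ∈ omegaCenter P, α a ∈ omegaCenter P := fun a ha =>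
      hR.central _ (hαP a ha.1) (by rw [← map_mul, ha.2.1, map_one])
    obtain ⟨a, ha, ha', hafix⟩ : ∃ a ∈ omegaCenter P, a ≠ 1 ∧ α a = a := by
      by_cases h : a₀ * α a₀ = 1
      · exact ⟨a₀, ha₀, ha1, (inv_eq_of_mul_eq_one_right h).symm.trans
          (inv_eq_of_mul_eq_one_right ha₀.2.1)⟩
      · refine ⟨_, mul_mem ha₀ (hαmem _ ha₀), h, ?_⟩
        rw [map_mul, hα2]
        exact (commute_omegaCenter (hαmem _ ha₀) ha₀.1).symm
    intro b hb
    by_cases hb' : b = 1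
    · rw [hb', map_one]
    obtain ⟨n, hn, e⟩ := hR.trans a ha b hb ha' hb'
    obtain ⟨p, hp, t, ht, htα, rfl⟩ := hdecα n hn
    have h1 : p * (t * a * t⁻¹) * p⁻¹ = t * a * t⁻¹ := by
      rw [commute_omegaCenter (normalizer_conj_mem ht ha) hp, mul_inv_cancel_right]
    rw [← e, show p * t * a * (p * t)⁻¹ = p * (t * a * t⁻¹) * p⁻¹ by group, h1, map_mul, map_mul,
      map_inv, htα, hafix]
  have hαfixP := hR.aut_fix α hα2 hαP hαW hdecα
  have hαN : ∀ n ∈ N, α n = n := fun n hn => by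
    obtain ⟨p, hp, t, -, htα, rfl⟩ := hdecα n hn
    rw [map_mul, hαfixP p hp, htα]
  -- `x` is isolated over `L`
  set C := α.toMonoidHom.eqLocus (MonoidHom.id L) with hCdef
  have hPC : (P : Subgroup L) ≤ C := fun p hp => hαfixP p hp
  have hkey : ∀ l : L, Commute x ((l : Q) * x * (l : Q)⁻¹) → (l : Q) * x * (l : Q)⁻¹ = x := by
    intro l hl
    set p : L := l * α l⁻¹ with hp
    have hpv : (p : Q) = (l : Q) * x * (l : Q)⁻¹ * x⁻¹ := by
      rw [hp, Subgroup.coe_mul, hαv, Subgroup.coe_inv]; group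
    have hp2 : p * p = 1 := Subtype.ext (by
      show (p : Q) * p = 1
      have hxi : x⁻¹ = x := inv_eq_of_mul_eq_one_right hx2
      rw [hpv, hxi]
      calc (l : Q) * x * (l : Q)⁻¹ * x * ((l : Q) * x * (l : Q)⁻¹ * x)
          = (l : Q) * x * (l : Q)⁻¹ * (x * ((l : Q) * x * (l : Q)⁻¹)) * x := by group
        _ = (l : Q) * (x * x) * (l : Q)⁻¹ * (x * x) := by rw [hl.eq]; group
        _ = 1 := by rw [hx2]; group)
    have hpC : p ∈ C := by
      show α p = p
      refine Subtype.ext ?_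
      rw [hαv, hpv, show x * ((l : Q) * x * (l : Q)⁻¹ * x⁻¹) * x⁻¹ =
        x * ((l : Q) * x * (l : Q)⁻¹) * x⁻¹ * x⁻¹ by group, hl.eq]
      group
    obtain ⟨c', hc', hcp⟩ := FTRows.AutSylow.exists_conj_of_le P hPC (zpowers_le.2 hpC)
      (FTRows.CyclicMeet.isPGroup_zpowers (k := 1) (by rw [pow_one, sq, hp2]))
    have hp'W := hR.central _ (hcp p (mem_zpowers p)) (by
      rw [show c' * p * c'⁻¹ * (c' * p * c'⁻¹) = c' * (p * p) * c'⁻¹ by group, hp2, mul_one,
        mul_inv_cancel])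
    have hcx : α c' = c' := hc'
    set l' := c' * l with hl'
    have hl'p : l' * α l'⁻¹ = c' * p * c'⁻¹ := by
      rw [hl', hp, mul_inv_rev, map_mul, map_inv α c', hcx]; group
    have hW'' : ∀ a ∈ omegaCenter P, l'⁻¹ * a * l' ∈ C := by
      intro a ha
      show α (l'⁻¹ * a * l') = l'⁻¹ * a * l'
      have e1 : α l' = (c' * p * c'⁻¹)⁻¹ * l' := by
        rw [← hl'p, map_inv]; group
      rw [map_mul, map_mul, map_inv, hαW a ha, e1,
        show ((c' * p * c'⁻¹)⁻¹ * l')⁻¹ * a * ((c' * p * c'⁻¹)⁻¹ * l') =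
          l'⁻¹ * ((c' * p * c'⁻¹) * a) * (c' * p * c'⁻¹)⁻¹ * l' by group,
        commute_omegaCenter ha hp'W.1]
      group
    let Wl : Subgroup L := (omegaCenter P).map (MulAut.conj l'⁻¹).toMonoidHom
    have hWlC : Wl ≤ C := by
      rintro _ ⟨a, ha, rfl⟩
      simpa using hW'' a ha
    obtain ⟨d, hd, hdW⟩ := FTRows.AutSylow.exists_conj_of_le P hPC hWlC
      ((P.2.to_le omegaCenter_le).map _)
    have hm : d * l'⁻¹ ∈ N := by
      have hmem : ∀ a ∈ omegaCenter P, d * l'⁻¹ * a * (d * l'⁻¹)⁻¹ ∈ (P : Subgroup L) := fun a ha => by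
        have := hdW (l'⁻¹ * a * l'⁻¹⁻¹) ⟨a, ha, by simp⟩
        rwa [show d * l'⁻¹ * a * (d * l'⁻¹)⁻¹ = d * (l'⁻¹ * a * l'⁻¹⁻¹) * d⁻¹ by group]
      have hn := hmove (d * l'⁻¹) hmem
      refine mem_normalizer_iff.2 fun g => ⟨fun hg => hSL _ ?_, fun hg => hSL _ ?_⟩
      · exact (mem_normalizer_iff.1 hn (g : Q)).1 (hPS g hg)
      · exact (mem_normalizer_iff.1 hn (g : Q)).2 (hPS _ hg)
    have hl'fix : α l' = l' := by
      have h1 := hαN _ hm
      rw [map_mul, show α d = d from hd, map_inv, mul_right_inj, inv_inj] at h1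
      exact h1
    have hlfix : α l = l := by
      rw [hl', map_mul, hcx, mul_right_inj] at hl'fix
      exact hl'fix
    have h2 : x * (l : Q) * x⁻¹ = l := by rw [← hαv, hlfix]
    exact mul_inv_eq_iff_eq_mul.2 (mul_inv_eq_iff_eq_mul.1 h2).symm
  set X := L ⊔ zpowers x with hX
  have hxX : x ∈ X := mem_sup_right (mem_zpowers x)
  obtain ⟨M, hM, hModd, hMc⟩ := ZStar.zstar (a := (⟨x, hxX⟩ : X))
    ⟨orderOf_two (Subtype.ext hx2) (fun e => hxL (by rw [show x = 1 from congrArg Subtype.val e]; exact one_mem L)), by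
      rintro ⟨g, hg⟩ hcomm
      obtain ⟨l, hl, z, hz, rfl⟩ := mem_sup_of_normal_left.1 hg
      obtain ⟨i, rfl⟩ := mem_zpowers_iff.1 hz
      have e : l * x ^ i * x * (l * x ^ i)⁻¹ = l * x * l⁻¹ := by group
      refine Subtype.ext ?_
      show l * x ^ i * x * (l * x ^ i)⁻¹ = x
      have hcomm' : Commute x (l * x ^ i * x * (l * x ^ i)⁻¹) := congrArg Subtype.val hcomm.eq
      rw [e] at hcomm' ⊢
      exact hkey ⟨l, hl⟩ hcomm'⟩
  haveI := hM
  have hML : (M.comap (Subgroup.inclusion (le_sup_left : L ≤ X))) = ⊥ := by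
    rcases (Normal.comap hM (Subgroup.inclusion (le_sup_left : L ≤ X))).eq_bot_or_eq_top with e | e
    · exact e
    · exfalso
      refine heven (hModd.of_dvd_nat ?_)
      rw [← card_top (G := L), ← e]
      exact Subgroup.card_comap_dvd_of_injective M (Subgroup.inclusion (le_sup_left : L ≤ X))
        (Subgroup.inclusion_injective _)
  have hxc : x ∈ centralizer (L : Set Q) := mem_centralizer_iff.2 fun g hg => by
    have h1 := hMc ⟨g, mem_sup_left hg⟩
    have h2 : x * g * x⁻¹ * g⁻¹ ∈ L :=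
      mul_mem ((inferInstance : L.Normal).conj_mem g hg x) (inv_mem hg)
    have h3 : (⟨_, h2⟩ : L) ∈ M.comap (Subgroup.inclusion (le_sup_left : L ≤ X)) := h1
    rw [hML, mem_bot] at h3
    have h4 : x * g * x⁻¹ * g⁻¹ = 1 := congrArg Subtype.val h3
    rw [mul_inv_eq_one, mul_inv_eq_iff_eq_mul] at h4
    exact h4.symm
  rw [hcent, mem_bot] at hxc
  exact hxL (hxc ▸ one_mem L)

end CfsgLib.RankOneMeet
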