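import Cfsg.Agent.CentralRankOne.Simple
import Cfsg.Agent.CentralRankOne.Cyclic
import Cfsg.Agent.CentralMeet.RankOne
import Cfsg.Agent.PiClosed.UnitaryEmbedded
import Cfsg.Agent.RankOneMeet.Outer
import Cfsg.Agent.Criterion.LocalData
import Cfsg.Agent.Criterion.Action.Bridge
import Cfsg.Agent.CentralRankOne.U34

/-!
# Simple groups: strongly embedded normalizers of Sylow 2-subgroups
-/

set_option autoImplicit false
set_option linter.unusedSectionVars false
set_option linter.style.haveILetI false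

namespace CfsgLib.RankOneMeet

open Subgroup
open CfsgLib.CentralRankOne CfsgLib.Bender
open CfsgLib.CentralMeet (RankOne)

universe u

theorem hCore : Criterion.Act.Core.{u} :=
  Criterion.Act.core_of_localData Criterion.localData

variable {X : Type u} [Group X] [Finite X]

theorem strong_conj {H : Subgroup X} (hH : Cfsg.IsStronglyEmbedded H) (c : X) :
    Cfsg.IsStronglyEmbedded (H.map (MulAut.conj c).toMonoidHom) := by
  have hinj : Function.Injective (MulAut.conj c).toMonoidHom := (MulAut.conj c).injective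
  refine ⟨fun e => hH.1 (map_injective hinj (e.trans (map_top_of_surjective _ (MulAut.conj c).surjective).symm)),
    by rw [card_map_of_injective hinj]; exact hH.2.1, fun g hg => ?_⟩
  have hg' : c⁻¹ * g * c ∉ H := fun hm => hg ⟨_, hm, by simp [mul_assoc]⟩
  have h1 := hH.2.2 _ hg'
  rwa [← card_map_of_injective hinj, Subgroup.map_inf _ _ _ hinj, map_map,
    show (MulAut.conj c).toMonoidHom.comp (MulAut.conj (c⁻¹ * g * c)).toMonoidHom =
      (MulAut.conj g).toMonoidHom.comp (MulAut.conj c).toMonoidHom from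
      MonoidHom.ext fun x => by simp [mul_assoc], ← map_map] at h1

/-- Rigidity is preserved by automorphisms. -/
theorem rigid_map (α : MulAut X) (P : Sylow 2 X) (hP : Rigid P) :
    Rigid (P.mapSurjective (f := α.toMonoidHom) α.surjective) := by
  haveI : Fact (Nat.Prime 2) := ⟨Nat.prime_two⟩
  set R := P.mapSurjective (f := α.toMonoidHom) α.surjective with hRdef
  have hmem : ∀ x, α x ∈ (R : Subgroup X) ↔ x ∈ (P : Subgroup X) := fun x =>
    ⟨fun ⟨y, hy, e⟩ => α.injective e ▸ hy, fun hx => ⟨x, hx, rfl⟩⟩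
  have hW : ∀ x, α x ∈ omegaCenter R ↔ x ∈ omegaCenter P := fun x => by
    constructor
    · rintro ⟨h1, h2, h3⟩
      refine ⟨(hmem x).1 h1, α.injective (by rw [map_mul, h2, map_one]), fun s hs => α.injective ?_⟩
      rw [map_mul, map_mul]
      exact h3 _ ((hmem s).2 hs)
    · rintro ⟨h1, h2, h3⟩
      refine ⟨(hmem x).2 h1, by rw [← map_mul, h2, map_one], ?_⟩
      intro s hs
      obtain ⟨s, rfl⟩ := α.surjective s
      rw [← map_mul, ← map_mul, h3 s ((hmem s).1 hs)]
  have hN : ∀ x, α x ∈ normalizer ((R : Subgroup X) : Set X) ↔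
      x ∈ normalizer ((P : Subgroup X) : Set X) := fun x => by
    rw [mem_normalizer_iff, mem_normalizer_iff]
    refine ⟨fun h y => ?_, fun h y => ?_⟩
    · have := h (α y)
      rwa [← map_inv, ← map_mul, ← map_mul, hmem, hmem] at this
    · obtain ⟨y, rfl⟩ := α.surjective y
      rw [← map_inv, ← map_mul, ← map_mul, hmem, hmem]
      exact h y
  refine ⟨?_, ?_, ?_, ?_⟩
  · intro a ha h2
    obtain ⟨a, rfl⟩ := α.surjective a
    exact (hW a).2 (hP.central a ((hmem a).1 ha) (α.injective (by rw [map_mul, h2, map_one])))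
  · obtain ⟨a, ha, b, hb, ha1, hb1, hab⟩ := hP.two
    exact ⟨α a, (hW a).2 ha, α b, (hW b).2 hb, fun e => ha1 (α.injective (e.trans (map_one α).symm)),
      fun e => hb1 (α.injective (e.trans (map_one α).symm)), fun e => hab (α.injective e)⟩
  · intro a ha b hb ha1 hb1
    obtain ⟨a, rfl⟩ := α.surjective a
    obtain ⟨b, rfl⟩ := α.surjective b
    obtain ⟨n, hn, e⟩ := hP.trans a ((hW a).1 ha) b ((hW b).1 hb) (fun e => ha1 (by rw [e, map_one]))
      fun e => hb1 (by rw [e, map_one])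
    exact ⟨α n, (hN n).2 hn, by rw [← map_inv, ← map_mul, ← map_mul, e]⟩
  · rcases hP.shape with h | ⟨h1, h2, h3, h4⟩
    · refine Or.inl fun s hs => ?_
      obtain ⟨s, rfl⟩ := α.surjective s
      rw [← map_mul, h s ((hmem s).1 hs), map_one]
    · refine Or.inr ⟨fun s hs => ?_, fun s hs t ht => ?_, ?_, fun K hK1 hK2 hK3 => ?_⟩
      · obtain ⟨s, rfl⟩ := α.surjective s
        rw [← map_mul, hW]
        exact h1 s ((hmem s).1 hs)
      · obtain ⟨s, rfl⟩ := α.surjective s
        obtain ⟨t, rfl⟩ := α.surjective t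
        rw [← map_mul, ← map_inv, ← map_mul, ← map_inv, ← map_mul, hW]
        exact h2 s ((hmem s).1 hs) t ((hmem t).1 ht)
      · have hc1 : Nat.card (omegaCenter R) = Nat.card (omegaCenter P) :=
          Nat.card_congr (α.symm.toEquiv.subtypeEquiv fun x => by
            rw [← hW]; simp)
        have hc2 : Nat.card (R : Subgroup X) = Nat.card (P : Subgroup X) :=
          Nat.card_congr (α.symm.toEquiv.subtypeEquiv fun x => by
            rw [← hmem]; simp)
        rw [hc1, hc2]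
        exact h3
      · have h5 := h4 (K.comap α.toMonoidHom) (fun x hx => hK1 ((hW x).2 hx))
          (fun x hx => (hmem x).1 (hK2 hx)) (fun n hn k hk => by
            show α (n * k * n⁻¹) ∈ K
            rw [map_mul, map_mul, map_inv]
            exact hK3 _ ((hN n).2 hn) _ hk)
        rcases h5 with e | e
        · refine Or.inl (ext fun x => ?_)
          obtain ⟨x, rfl⟩ := α.surjective x
          rw [hW, ← e]
          rfl
        · refine Or.inr (ext fun x => ?_)
          obtain ⟨x, rfl⟩ := α.surjective x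
          rw [hmem, ← e]
          rfl

/-- Sylow 2-subgroups of a rank-one group meet trivially. -/
theorem inf_eq_bot (h : RankOne X) {S T : Sylow 2 X} (hST : S ≠ T) :
    (S : Subgroup X) ⊓ (T : Subgroup X) = ⊥ := by
  haveI : Fact (Nat.Prime 2) := ⟨Nat.prime_two⟩
  by_contra hne
  obtain ⟨x, hx, hx1⟩ : ∃ x ∈ (S : Subgroup X) ⊓ (T : Subgroup X), x ≠ 1 := by
    by_contra hno
    push Not at hno
    exact hne ((eq_bot_iff_forall _).2 hno)
  haveI : Nontrivial ↥((S : Subgroup X) ⊓ (T : Subgroup X)) :=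
    ⟨⟨⟨x, hx⟩, 1, fun e => hx1 (congrArg Subtype.val e)⟩⟩
  obtain ⟨y, hy⟩ := exists_prime_orderOf_dvd_card' (G := ↥((S : Subgroup X) ⊓ (T : Subgroup X))) 2
    (((S.2.to_le inf_le_left).card_eq_or_dvd).resolve_left Finite.one_lt_card.ne')
  rw [← Subgroup.orderOf_coe] at hy
  obtain ⟨z, hz, hzT⟩ := h.exists_central T
  have hzc : Commute z (y : X) := ((CentralMeet.mem_zs.1 hzT).2 _ (mem_inf.1 y.2).2).symm
  have hzN := StrongEmbed.mem_of_commute (h.se S) (le_normalizer (mem_inf.1 y.2).1) hy hzc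
  have hTN : (T : Subgroup X) ≤ normalizer ((S : Subgroup X) : Set X) := fun t ht =>
    StrongEmbed.mem_of_commute (h.se S) hzN hz ((CentralMeet.mem_zs.1 hzT).2 t ht)
  exact hST (Sylow.ext (T.3 S.2 (CentralMeet.le_sylow_of_normalizes T.2 hTN)))

/-- In a simple group a strongly embedded subgroup normalizes a Sylow 2-subgroup. -/
theorem rankOne_of_se [IsSimpleGroup X] {H : Subgroup X} (hse : Cfsg.IsStronglyEmbedded H) :
    RankOne X := by
  haveI : Fact (Nat.Prime 2) := ⟨Nat.prime_two⟩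
  obtain ⟨T₀, hTH, hn, hT2, htr⟩ := Consumers.shape_of_simple Consumers.structure_all hse
  obtain ⟨U, hU⟩ := hT2.exists_le_sylow
  have htwo : ∀ {x : X}, x ∈ H → x ∈ (U : Subgroup X) → x ∈ T₀ := fun hx hxU => by
    obtain ⟨k, hk⟩ := CentralMeet.exists_pow_of_mem U.2 hxU
    exact Consumers.two_mem_of_shape hse hTH hn htr hx hk
  obtain ⟨i, hi⟩ := exists_prime_orderOf_dvd_card' (G := H) 2 (even_iff_two_dvd.1 hse.2.1)
  rw [← Subgroup.orderOf_coe] at hi
  have hiT : (i : X) ∈ T₀ := Consumers.two_mem_of_shape hse hTH hn htr i.2 (i := 1)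
    (by rw [pow_one, ← hi]; exact pow_orderOf_eq_one _)
  have hUH : (U : Subgroup X) ≤ H := by
    obtain ⟨z, hz, hz1⟩ := exists_omegaCenter (S := U) (hU hiT)
      (fun e => by rw [e, orderOf_one] at hi; omega)
    have hzH : z ∈ H := StrongEmbed.mem_of_commute hse i.2 hi
      (commute_omegaCenter hz (hU hiT)).symm
    exact fun u hu => StrongEmbed.mem_of_commute hse hzH (orderOf_two hz.2.1 hz1)
      (commute_omegaCenter hz hu)
  have hUT : (U : Subgroup X) = T₀ := le_antisymm (fun x hx => htwo (hUH hx) hx) hU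
  have hHN : normalizer ((U : Subgroup X) : Set X) = H := by
    refine le_antisymm (fun g hg => ?_) (hUT ▸ hn)
    refine StrongEmbed.mem_of_conj_mem hse i.2 hi (hUH ?_)
    have := (mem_normalizer_iff.1 (inv_mem hg) (i : X)).1 (hU hiT)
    rwa [inv_inv] at this
  refine ⟨Consumers.oddCore_eq_bot_of_simple hse, Consumers.pairRank_of_simple hse, fun Q => ?_⟩
  obtain ⟨g, rfl⟩ := MulAction.exists_smul_eq X U Q
  have hQ : normalizer (((g • U : Sylow 2 X) : Subgroup X) : Set X) =
      H.map (MulAut.conj g).toMonoidHom := by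
    rw [← hHN, Subgroup.map_equiv_normalizer_eq]
    rfl
  rw [hQ]
  exact strong_conj hse g

/-- Simple groups whose Sylow intersections have rank one: elementary Sylow 2-subgroups or
strongly embedded normalizers. -/
theorem elementary_or_rankOne [IsSimpleGroup X] (hG : ¬ IsMulCommutative X) (hM : Meets X) :
    (∀ S : Sylow 2 X, ∀ s ∈ (S : Subgroup X), s * s = 1) ∨ RankOne X := by
  classical
  haveI : Fact (Nat.Prime 2) := ⟨Nat.prime_two⟩
  obtain ⟨S⟩ : Nonempty (Sylow 2 X) := inferInstance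
  have hall : (∀ s ∈ (S : Subgroup X), s * s = 1) → ∀ T : Sylow 2 X, ∀ t ∈ (T : Subgroup X), t * t = 1 := by
    intro h T t ht
    obtain ⟨g, rfl⟩ := MulAction.exists_smul_eq X S T
    rw [Sylow.coe_subgroup_smul] at ht
    obtain ⟨s, hs, rfl⟩ := ht
    show g * s * g⁻¹ * (g * s * g⁻¹) = 1
    rw [show g * s * g⁻¹ * (g * s * g⁻¹) = g * (s * s) * g⁻¹ by group, h s hs, mul_one, mul_inv_cancel]
  letI : Fintype (GaloisField 2 4) := Fintype.ofFinite _
  have hF : Fintype.card (GaloisField 2 4) = 16 := by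
    rw [← Nat.card_eq_fintype_card, GaloisField.card 2 4 (by norm_num)]; norm_num
  obtain ⟨P'⟩ : Nonempty (Sylow 2 (Cfsg.PSU 3 (GaloisField 2 4) 4)) := Sylow.nonempty
  obtain ⟨z₀, hz₀, hz₀1, hsec⟩ := exists_two hG hM S
  by_cases hr : Cfsg.PRankLE 2 2 X
  · obtain ⟨y, hy, hy1, hyz⟩ := hsec z₀ hz₀ hz₀1
    have hcent : ∀ p : (S : Subgroup X), p * p = 1 → ∀ q : (S : Subgroup X), q * p = p * q :=
      fun p hp q => Subtype.ext (commute_omegaCenter
        (invol_central hr hz₀ hz₀1 hy hy1 hyz p.2 (congrArg Subtype.val hp)) q.2)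
    rcases FTRows.simple_two_rank_two (fun Y [_] [_] hY => Cfsg.Agent.S0205.result hY) hG hr S hF P'
      with ⟨n, hn, ⟨e⟩⟩ | ⟨n, hn, -, a, b, ha, hb, hab⟩ | ⟨n, hn, -, a, b, t, ha, -, hdisj, ht, htab⟩ | hU'
    · left
      refine hall fun p hp => ?_
      have hc := hcent (e.symm (DihedralGroup.sr 0)) (by
        rw [← map_mul, DihedralGroup.sr_mul_self, map_one]) (e.symm (DihedralGroup.r 1))
      rw [← map_mul, ← map_mul, e.symm.injective.eq_iff, DihedralGroup.r_mul_sr,
        DihedralGroup.sr_mul_r] at hc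
      have h2 : ((2 : ℕ) : ZMod n) = 0 := by
        have h3 : (0 : ZMod n) - 1 = 0 + 1 := DihedralGroup.sr.inj hc
        push_cast
        linear_combination -h3
      rw [ZMod.natCast_eq_zero_iff] at h2
      have hn2 : n = 2 := le_antisymm (Nat.le_of_dvd two_pos h2) hn
      subst hn2
      have h1 : (⟨p, hp⟩ : (S : Subgroup X)) * ⟨p, hp⟩ = 1 := e.injective (by
        rw [map_mul, map_one]
        exact (by decide : ∀ d : DihedralGroup 2, d * d = 1) _)
      exact congrArg Subtype.val h1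
    · exfalso
      have hc := hcent b (mul_self_of_order_two hb) a
      rw [show b * a * b⁻¹ = a by rw [← hc, mul_inv_cancel_right]] at hab
      obtain ⟨m, rfl⟩ : ∃ m, n = m + 3 := ⟨n - 3, by omega⟩
      rw [show m + 3 - 1 = m + 2 from rfl] at hab
      have h4 : 4 ≤ 2 ^ (m + 2) := by
        simpa using Nat.pow_le_pow_right (two_pos : 0 < 2) (show 2 ≤ m + 2 by omega)
      obtain ⟨r, hr'⟩ := Nat.exists_eq_add_of_le (show 1 ≤ 2 ^ (m + 2) - 1 by omega)
      rw [hr', pow_add, pow_one] at hab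
      have h5 : a ^ r = 1 := mul_left_cancel (hab.symm.trans (mul_one a).symm)
      have h6 := Nat.le_of_dvd (by omega) (orderOf_dvd_of_pow_eq_one h5)
      rw [ha] at h6
      have : 2 ^ (m + 2) ≤ 2 ^ (m + 3) := Nat.pow_le_pow_right two_pos (by omega)
      omega
    · exfalso
      have hc := hcent t (mul_self_of_order_two ht) a
      rw [show t * a * t⁻¹ = a by rw [← hc, mul_inv_cancel_right]] at htab
      subst htab
      rw [inf_idem, zpowers_eq_bot] at hdisj
      rw [hdisj, orderOf_one] at ha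
      have := Nat.pow_le_pow_right (two_pos : 0 < 2) hn
      omega
    · right
      obtain ⟨e⟩ := u34_simple X (GaloisField 2 4) hF S P' hU'
      obtain ⟨H, hH⟩ := PiClosed.psu_strongly (F := GaloisField 2 4) hG (n := 2) le_rfl
        (by rw [hF]; norm_num) e
      exact rankOne_of_se hH
  by_cases hgood : ∀ w ∈ omegaCenter S, w ≠ 1 →
      centralizer ({w} : Set X) ≤ normalizer ((S : Subgroup X) : Set X)
  · right
    obtain ⟨H, hH⟩ := Criterion.Act.aschbacher_row hCore _ (normalizer_sylow_ne_top hG S) z₀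
      (orderOf_two hz₀.2.1 hz₀1) (le_normalizer hz₀.1)
      ⟨S, hz₀.1, fun s hs => commute_omegaCenter hz₀ hs⟩
      (fun g hg => mem_normalizer_of_conj hM hz₀ hz₀1 (hgood z₀ hz₀ hz₀1) hg) (fun g hcomm hne => by
        have h2 : g * z₀ * g⁻¹ * (g * z₀ * g⁻¹) = 1 := by
          rw [show g * z₀ * g⁻¹ * (g * z₀ * g⁻¹) = g * (z₀ * z₀) * g⁻¹ by group, hz₀.2.1, mul_one,
            mul_inv_cancel]
        have hv : g * z₀ * g⁻¹ ∈ (S : Subgroup X) := invol_mem h2
          (hgood z₀ hz₀ hz₀1 (mem_centralizer_singleton_iff.2 hcomm.eq.symm))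
        have hvW := conj_mem_omegaCenter hM hz₀ hz₀1 hv
        refine hgood _ (mul_mem hz₀ hvW) fun e => hne ?_
        exact (inv_eq_of_mul_eq_one_right e).symm.trans (inv_eq_of_mul_eq_one_right hz₀.2.1))
    exact rankOne_of_se hH
  · left
    refine hall ?_
    push Not at hgood
    obtain ⟨z, hz, hz1, hbad⟩ := hgood
    have h : Bad S z := ⟨hM, hz, hz1, hbad⟩
    obtain ⟨E, hE4, hE2, hEc, hES⟩ : ∃ E : Subgroup X, 4 < Nat.card E ∧ (∀ a ∈ E, a * a = 1) ∧
        (∀ a ∈ E, ∀ b ∈ E, a * b = b * a) ∧ E ≤ (S : Subgroup X) := by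
      unfold Cfsg.PRankLE at hr
      push Not at hr
      obtain ⟨A, hAc, hA2, hA4⟩ := hr
      have hAp : IsPGroup 2 A := fun a => ⟨1, Subtype.ext (by simpa [pow_one] using hA2 a a.2)⟩
      obtain ⟨R, hR⟩ := hAp.exists_le_sylow
      obtain ⟨g, hg⟩ := MulAction.exists_smul_eq X R S
      refine ⟨A.map (MulAut.conj g).toMonoidHom, ?_, ?_, ?_, ?_⟩
      · rw [Subgroup.card_map_of_injective (MulAut.conj g).injective]
        simpa using hA4
      · rintro _ ⟨a, ha, rfl⟩
        rw [← map_mul, ← sq, hA2 a ha, map_one]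
      · rintro _ ⟨a, ha, rfl⟩ _ ⟨b, hb, rfl⟩
        rw [← map_mul, ← map_mul]
        exact congrArg _ (congrArg Subtype.val (hAc.is_comm.comm ⟨a, ha⟩ ⟨b, hb⟩))
      · rintro _ ⟨a, ha, rfl⟩
        rw [← hg, Sylow.coe_subgroup_smul]
        exact ⟨a, hR ha, rfl⟩
    obtain ⟨a, haE, b, hbE, ha1, hb1, haz, hbz, hab, habz⟩ := exists_avoid hE4 hE2 z
    have hO := h.oddCore_eq_bot_of_pair (hES haE) (hES hbE) (hE2 a haE) (hE2 b hbE)
      (hEc a haE b hbE) ha1 hb1 haz hbz hab habz
    obtain ⟨x, hx, hx1, hxz⟩ := hsec z h.mem h.ne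
    obtain ⟨y, hy, hy1, hyz, hyx, hyxz⟩ := h.exists_third hx hx1 hxz hO
    obtain ⟨h8, htr⟩ := h.transitive hG hCore hO hx hx1 hxz hy hy1 hyz hyx hyxz
    rcases h.qgroup_type hCore hO hx hx1 hxz h8 hF P' with h4 | ⟨P, hP, ⟨eP⟩⟩
    · exact fun s hs => (h.sylow_eq hCore hO hx hx1 hxz h8 h4 htr hs).2.1
    · exact (h.unitary_false hCore hO hx hx1 hxz u34_simple h8 htr hF P' P hP eP).elim

/-- A simple normal subgroup with trivial centralizer, elements of which moving two central
involutions of its Sylow subgroup into it normalize a Sylow 2-subgroup of the group: odd index. -/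
theorem odd_index_of_kind {Q : Type u} [Group Q] [Finite Q] (L : Subgroup Q) [L.Normal]
    [IsSimpleGroup L] (hcent : centralizer (L : Set Q) = ⊥) (hK : Kind L) (S : Sylow 2 Q)
    (hmove : ∀ (P : Sylow 2 L), (∀ p ∈ (P : Subgroup L), (p : Q) ∈ (S : Subgroup Q)) →
      ∀ n : L, (∀ a ∈ omegaCenter P, n * a * n⁻¹ ∈ (P : Subgroup L)) →
        (∃ a ∈ omegaCenter P, ∃ b ∈ omegaCenter P, a ≠ 1 ∧ b ≠ 1 ∧ a ≠ b) →
        (n : Q) ∈ normalizer ((S : Subgroup Q) : Set Q)) : Odd L.index := by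
  haveI : Fact (Nat.Prime 2) := ⟨Nat.prime_two⟩
  rcases hK with ⟨F, i1, i2, m, hm, hc, ⟨e⟩⟩ | ⟨P₁, hP₁⟩
  · refine Odd.of_dvd_nat ?_ (index_dvd_out L hcent)
    have h1 : Nat.card (Cfsg.Out L) = Nat.card (Cfsg.Out ↥(Cfsg.Lie.Sz F (2 ^ (m + 1)))) :=
      Nat.card_congr (QuotientGroup.congr _ _ (MulAut.congr e) (by
        rw [MonoidHom.map_range]
        ext α
        constructor
        · rintro ⟨g, rfl⟩
          exact ⟨e g, MulEquiv.ext fun y => by simp [MulAut.congr, MulAut.conj_apply]⟩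
        · rintro ⟨g, rfl⟩
          exact ⟨e.symm g, MulEquiv.ext fun y => by simp [MulAut.congr, MulAut.conj_apply]⟩)).toEquiv
    rw [h1, Cfsg.Agent.S2126.result hm hc]
    exact odd_two_mul_add_one m
  · obtain ⟨S₁, hS₁⟩ := (show IsPGroup 2 ((P₁ : Subgroup L).map L.subtype) from P₁.2.map _).exists_le_sylow
    obtain ⟨g, hg⟩ := MulAction.exists_smul_eq Q S₁ S
    -- a conjugate inside `S`
    let α : MulAut L := MulAut.conjNormal g
    let P : Sylow 2 L := P₁.mapSurjective (f := α.toMonoidHom) α.surjective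
    have hPS : ∀ p ∈ (P : Subgroup L), (p : Q) ∈ (S : Subgroup Q) := by
      rintro _ ⟨p, hp, rfl⟩
      rw [← hg, Sylow.coe_subgroup_smul]
      exact ⟨p, hS₁ ⟨p, hp, rfl⟩, (MulAut.conjNormal_apply g p).symm⟩
    have hR : Rigid P := rigid_map α P₁ hP₁
    exact odd_index_of_rigid L hcent P hR S (by rintro _ ⟨p, hp, rfl⟩; exact hPS p hp)
      fun n hn => hmove P hPS n hn hR.two

end CfsgLib.RankOneMeet
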