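import Cfsg.Agent.RankOneMeet.Comp
import Cfsg.Agent.RankOneMeet.Simple

/-!
# Intersections of Sylow 2-subgroups of rank at most one: `O₂(G) = 1`
-/

set_option autoImplicit false
set_option linter.unusedSectionVars false
set_option linter.style.haveILetI false

namespace CfsgLib.RankOneMeet

open Subgroup
open CfsgLib.CentralRankOne (Meets omegaCenter)

universe u

variable {G : Type u} [Group G] [Finite G]

theorem not_comm_of_component {M : Subgroup G} (hM : Cfsg.IsComponent M) : ¬ IsMulCommutative M :=
  fun hc => Comp.component_not_solvable hM (by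
    letI : CommGroup M := { (inferInstance : Group M) with mul_comm := hc.is_comm.comm }
    infer_instance)

theorem simple_of_component (hO : Cfsg.oddCore G = ⊥) (hP : Cfsg.pCore 2 G = ⊥) {M : Subgroup G}
    (hM : Cfsg.IsComponent M) : IsSimpleGroup M := by
  have hc : center M = ⊥ := (map_eq_bot_iff_of_injective _ M.subtype_injective).1
    (le_bot_iff.1 (hP ▸ center_component_le hO hM))
  haveI := hM.2.2
  exact ((QuotientGroup.quotientMulEquivOfEq hc).trans QuotientGroup.quotientBot).symm.isSimpleGroup

/-- Cyclic intersections: the case `O₂(G) = 1`. -/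
theorem trivial_two_core_false (h : Rk G) (hO : Cfsg.oddCore G = ⊥) (hns : ¬ Group.IsSolvable G)
    (hnC : ∃ S T : Sylow 2 G, S ≠ T ∧ ¬ IsCyclic ↥((S : Subgroup G) ⊓ (T : Subgroup G)))
    (hP : Cfsg.pCore 2 G = ⊥) : False := by
  haveI : Fact (Nat.Prime 2) := ⟨Nat.prime_two⟩
  obtain ⟨M, hM⟩ := exists_component h hO hns
  -- the component is unique
  have hu : ∀ N : Subgroup G, Cfsg.IsComponent N → N = M := by
    intro N hN
    by_contra hne
    haveI := simple_of_component hO hP hM
    obtain ⟨R⟩ : Nonempty (Sylow 2 M) := inferInstance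
    obtain ⟨a, ha, ha1, hsec⟩ := CentralRankOne.exists_two (not_comm_of_component hM)
      (h.subgroup M).meets R
    obtain ⟨b, hb, hb1, hba⟩ := hsec a ha ha1
    exact h.no_four_comm (N := N) (Comp.component_not_solvable hN) (a := (a : G)) (b := (b : G))
      (congrArg Subtype.val ha.2.1) (congrArg Subtype.val hb.2.1)
      (congrArg Subtype.val (CentralRankOne.commute_omegaCenter hb ha.1))
      (fun e => ha1 (Subtype.ext e)) (fun e => hb1 (Subtype.ext e))
      (fun e => hba (Subtype.ext e).symm)
      (fun n hn => component_commute hN hM hne n hn a a.2)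
      (fun n hn => component_commute hN hM hne n hn b b.2)
  haveI := normal_of_unique hM hu
  haveI := simple_of_component hO hP hM
  have hG := not_comm_of_component hM
  have hMm : Meets M := (h.subgroup M).meets
  have hcent : centralizer (M : Set G) = ⊥ := by
    refine (eq_bot_iff_forall _).2 fun x hx => ?_
    have h1 := centralizer_inf_le hO hM hu (x := x) (fun m hm => mem_centralizer_iff.1 hx m hm)
      (fun p hp => by rw [hP, mem_bot] at hp; rw [hp, one_mul, mul_one])
    rwa [hP, mem_bot] at h1
  have hK := (CentralRankOne.simple_kind CentralRankOne.u34_simple hCore hG hMm).2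
  obtain ⟨S, T, hST, hnc⟩ := hnC
  have hodd : Odd M.index := odd_index_of_kind M hcent hK S fun P hPS n hn ⟨a, ha, b, hb, ha1, hb1, hab⟩ =>
    h.mem_normalizer (congrArg Subtype.val ha.2.1) (congrArg Subtype.val hb.2.1)
      (congrArg Subtype.val (CentralRankOne.commute_omegaCenter hb ha.1))
      (fun e => ha1 (Subtype.ext e)) (fun e => hb1 (Subtype.ext e)) (fun e => hab (Subtype.ext e))
      (hPS a ha.1) (hPS b hb.1) (hPS _ (hn a ha)) (hPS _ (hn b hb))
  have hle : ∀ R : Sylow 2 G, (R : Subgroup G) ≤ M := fun R x hx => by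
    obtain ⟨k, hk⟩ := CentralMeet.exists_pow_of_mem R.2 hx
    have h1 : (x : G ⧸ M) = 1 := by
      refine Bender.Consumers.eq_one_of_two_of_odd ?_ (i := k) (by rw [← QuotientGroup.mk_pow, hk, QuotientGroup.mk_one])
      exact (M.index_eq_card ▸ hodd).of_dvd_nat (orderOf_dvd_natCard _)
    exact (QuotientGroup.eq_one_iff x).1 h1
  let S' := S.subtype (hle S)
  let T' := T.subtype (hle T)
  have hne : S' ≠ T' := fun e => hST (Sylow.ext (SetLike.ext fun x => by
    constructor
    · intro hx
      have h1 : (⟨x, hle S hx⟩ : M) ∈ (S' : Subgroup M) := hx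
      rw [e] at h1
      exact h1
    · intro hx
      have h1 : (⟨x, hle T hx⟩ : M) ∈ (T' : Subgroup M) := hx
      rw [← e] at h1
      exact h1))
  rcases elementary_or_rankOne hG hMm with hel | hR
  · refine hnc ?_
    have hsq : ∀ s ∈ (S : Subgroup G), s * s = 1 := fun s hs =>
      congrArg Subtype.val (hel S' ⟨s, hle S hs⟩ hs)
    have h2 := h S T hST ⊤ ⟨⟨fun a b => by
      have hab := hsq _ (mem_inf.1 (a.1 * b.1).2).1
      refine Subtype.ext (Subtype.ext ?_)
      show (a.1.1 : G) * b.1.1 = b.1.1 * a.1.1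
      have ha := hsq _ (mem_inf.1 a.1.2).1
      have hb := hsq _ (mem_inf.1 b.1.2).1
      calc (a.1.1 : G) * b.1.1 = (a.1.1 * b.1.1)⁻¹ := (inv_eq_of_mul_eq_one_right hab).symm
        _ = b.1.1 * a.1.1 := by
          rw [mul_inv_rev, inv_eq_of_mul_eq_one_right ha, inv_eq_of_mul_eq_one_right hb]⟩⟩
      (fun a _ => Subtype.ext (by rw [sq]; exact hsq _ (mem_inf.1 a.2).1))
    rw [card_top] at h2
    have hpos := Nat.card_pos (α := ↥((S : Subgroup G) ⊓ (T : Subgroup G)))
    interval_cases hcard : Nat.card ↥((S : Subgroup G) ⊓ (T : Subgroup G))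
    · haveI := (Nat.card_eq_one_iff_unique.1 hcard).1
      infer_instance
    · exact isCyclic_of_prime_card (p := 2) hcard
  · refine hnc ?_
    have hbot := inf_eq_bot hR hne
    haveI : Subsingleton ↥((S : Subgroup G) ⊓ (T : Subgroup G)) := ⟨fun a b => by
      have key : ∀ w : ↥((S : Subgroup G) ⊓ (T : Subgroup G)), (w : G) = 1 := fun w => by
        have h1 : (⟨w, hle S (mem_inf.1 w.2).1⟩ : M) ∈ (S' : Subgroup M) ⊓ (T' : Subgroup M) :=
          ⟨(mem_inf.1 w.2).1, (mem_inf.1 w.2).2⟩
        rw [hbot, mem_bot] at h1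
        exact congrArg Subtype.val h1
      exact Subtype.ext (by rw [key a, key b])⟩
    infer_instance

end CfsgLib.RankOneMeet
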