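import Cfsg.Agent.RankOneMeet.Comp
import Cfsg.Agent.RankOneMeet.Quasi
import Cfsg.Agent.RankOneMeet.Quaternion
import Cfsg.Agent.RankOneMeet.Tools
import Cfsg.Agent.CentralMeet.Dichotomy

/-!
# Intersections of Sylow 2-subgroups of rank at most one: two components
-/

set_option autoImplicit false
set_option linter.unusedSectionVars false
set_option linter.style.haveILetI false

namespace CfsgLib.RankOneMeet

open Subgroup

universe u

variable {G : Type u} [Group G] [Finite G]

/-- With two components and `O₂(G) ≠ 1`: case (b). -/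
theorem two_comp (h : Rk G) (hO : Cfsg.oddCore G = ⊥) (hns : ¬ Group.IsSolvable G)
    (hP : Cfsg.pCore 2 G ≠ ⊥) {M₁ M₂ : Subgroup G} (h₁ : Cfsg.IsComponent M₁)
    (h₂ : Cfsg.IsComponent M₂) (hne : M₁ ≠ M₂) : ConclB G := by
  classical
  haveI : Fact (Nat.Prime 2) := ⟨Nat.prime_two⟩
  obtain ⟨z, hzP, hz, hz1, hzc, hzu⟩ := exists_pCore_invol h hns hP
  have hzG : ∀ g : G, g * z = z * g := fun g => mem_center_iff.1 hzc g
  have hother : ∀ {M : Subgroup G}, Cfsg.IsComponent M → ∃ N, Cfsg.IsComponent N ∧ N ≠ M := fun {M} _ => by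
    by_cases e : M = M₁
    · exact ⟨M₂, h₂, e ▸ hne.symm⟩
    · exact ⟨M₁, h₁, Ne.symm e⟩
  -- an involution centralizing a component is `z`
  have hcentz : ∀ {N : Subgroup G}, Cfsg.IsComponent N → ∀ d : G, d * d = 1 → d ≠ 1 →
      (∀ n ∈ N, n * d = d * n) → d = z := fun {N} hN d hd hd1 hdN => by
    by_contra hdz
    exact h.no_four_comm (Comp.component_not_solvable hN) hd hz (hzG d) hd1 hz1 hdz hdN fun n _ => hzG n
  have hinv : ∀ {M : Subgroup G}, Cfsg.IsComponent M → ∀ d ∈ M, d * d = 1 → d ≠ 1 → d = z :=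
    fun {M} hM d hd hd2 hd1 => by
      obtain ⟨N, hN, hNM⟩ := hother hM
      exact hcentz hN d hd2 hd1 fun n hn => component_commute hN hM hNM n hn d hd
  -- the Sylow subgroups of a component
  have hquat : ∀ {M : Subgroup G}, Cfsg.IsComponent M → ∀ R : Sylow 2 M,
      (∃ k : ℕ, Nonempty ((R : Subgroup M) ≃* QuaternionGroup (2 ^ (k + 1)))) ∧
      ∃ y ∈ (R : Subgroup M), (y : G) ∉ Cfsg.pCore 2 G ∧ (y : G) * y = z := by
    intro M hM R
    have hR1 : Cfsg.PRankLE 2 1 (R : Subgroup M) := pRankLE_one_of fun a b ha hb _ ha1 hb1 =>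
      Subtype.ext (Subtype.ext ((hinv hM _ (a : M).2
        (congrArg (fun w : (R : Subgroup M) => ((w : M) : G)) ha) (fun e => ha1 (Subtype.ext (Subtype.ext e)))).trans
        (hinv hM _ (b : M).2 (congrArg (fun w : (R : Subgroup M) => ((w : M) : G)) hb)
          (fun e => hb1 (Subtype.ext (Subtype.ext e)))).symm))
    rcases GWApps.cyclic_or_quaternion_of_rank R.2 hR1 with hc | ⟨k, hk, ⟨e⟩⟩
    · exact absurd (GWApps.isSolvable_of_cyclic_sylow R hc) (Comp.component_not_solvable hM)
    obtain ⟨k, rfl⟩ : ∃ k', k = k' + 1 := ⟨k - 1, by omega⟩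
    refine ⟨⟨k, ⟨e⟩⟩, ?_⟩
    obtain ⟨i, j, hii, hi4, -, -, hcen⟩ := quaternion_data k
    refine ⟨(e.symm i : M), (e.symm i).2, fun hP' => hii (hcen i fun x => ?_), ?_⟩
    · refine e.symm.injective (Subtype.ext (Subtype.ext ?_))
      rw [map_mul, map_mul]
      exact component_centralizes hO hM _ (e.symm x : M).2 _ hP'
    · refine hinv hM _ (mul_mem (e.symm i : M).2 (e.symm i : M).2) ?_ fun h1 => hii ?_
      · have h1 := congrArg (fun q => (((e.symm q : (R : Subgroup M)) : M) : G)) hi4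
        simp only [map_mul, map_one, Subgroup.coe_mul, OneMemClass.coe_one] at h1
        exact h1
      · refine e.symm.injective (Subtype.ext (Subtype.ext ?_))
        rw [map_mul, map_one]
        exact h1
  -- `O₂(G) = ⟨z⟩`
  obtain ⟨R₁⟩ : Nonempty (Sylow 2 M₁) := inferInstance
  obtain ⟨-, y₁, -, hy₁P, hy₁⟩ := hquat h₁ R₁
  have hroot : ∀ v ∈ Cfsg.pCore 2 G, v * v ≠ z := by
    intro v hv hvz
    have hc : (y₁ : G) * v = v * y₁ := component_centralizes hO h₁ y₁ y₁.2 v hv
    have h1 := hcentz h₂ ((y₁ : G) * v) (by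
        rw [show (y₁ : G) * v * ((y₁ : G) * v) = (y₁ : G) * (v * y₁) * v by group, ← hc,
          show (y₁ : G) * ((y₁ : G) * v) * v = (y₁ : G) * y₁ * (v * v) by group, hy₁, hvz, hz])
      (fun e => hy₁P (by rw [mul_eq_one_iff_eq_inv.1 e]; exact inv_mem hv))
      fun n hn => ((show Commute n (y₁ : G) from component_commute h₂ h₁ hne.symm n hn y₁ y₁.2).mul_right
        (component_centralizes hO h₂ n hn v hv)).eq
    exact hy₁P (by rw [eq_mul_inv_of_mul_eq h1]; exact mul_mem hzP (inv_mem hv))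
  have hPz : ∀ p ∈ Cfsg.pCore 2 G, p = 1 ∨ p = z := by
    intro p hp
    obtain ⟨k, hk⟩ := CentralMeet.exists_pow_of_mem pCore_pgroup hp
    induction k generalizing p with
    | zero => exact Or.inl (by simpa using hk)
    | succ k ih =>
      rcases ih (p * p) (mul_mem hp hp) (by rw [← sq, ← pow_mul, ← pow_succ']; exact hk) with h1 | h1
      · by_cases hp1 : p = 1
        · exact Or.inl hp1
        · exact Or.inr (hzu p hp h1 hp1)
      · exact absurd h1 (hroot p hp)
  have hzM : ∀ {M : Subgroup G}, Cfsg.IsComponent M → z ∈ M := fun {M} hM => by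
    obtain ⟨R⟩ : Nonempty (Sylow 2 M) := inferInstance
    obtain ⟨-, y, -, -, hy⟩ := hquat hM R
    exact hy ▸ mul_mem y.2 y.2
  -- only two components
  have honly : ∀ N : Subgroup G, Cfsg.IsComponent N → N = M₁ ∨ N = M₂ := by
    intro N hN
    by_contra hno
    push Not at hno
    obtain ⟨R₂⟩ : Nonempty (Sylow 2 M₂) := inferInstance
    obtain ⟨-, y₂, -, hy₂P, hy₂⟩ := hquat h₂ R₂
    have hc : (y₁ : G) * y₂ = y₂ * y₁ := component_commute h₁ h₂ hne y₁ y₁.2 y₂ y₂.2
    have hzi : z⁻¹ = z := inv_eq_of_mul_eq_one_right hz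
    have hxy : ∀ w : G, (y₁ : G) * y₂ = w → (y₂ : G) = (y₁ : G)⁻¹ * w := fun w e => by rw [← e]; group
    have hd1 : (y₁ : G) * y₂ ≠ 1 := fun e => hy₂P (component_inter_centralizer hO h₂ y₂.2 fun m hm => by
      have e' := hxy _ e
      rw [mul_one] at e'
      exact component_commute h₂ h₁ hne.symm m hm y₂ (e' ▸ inv_mem y₁.2))
    have h1 := hcentz hN ((y₁ : G) * y₂) (by
        rw [show (y₁ : G) * y₂ * ((y₁ : G) * y₂) = (y₁ : G) * (y₂ * y₁) * y₂ by group, ← hc,
          show (y₁ : G) * ((y₁ : G) * y₂) * y₂ = (y₁ : G) * y₁ * (y₂ * y₂) by group, hy₁, hy₂, hz])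
      hd1 fun n hn => ((show Commute n (y₁ : G) from component_commute hN h₁ hno.1 n hn y₁ y₁.2).mul_right
        (component_commute hN h₂ hno.2 n hn y₂ y₂.2)).eq
    exact hy₂P (component_inter_centralizer hO h₂ y₂.2 fun m hm =>
      component_commute h₂ h₁ hne.symm m hm y₂ (hxy _ h1 ▸ mul_mem (inv_mem y₁.2) (hzM h₁)))
  -- the shape of a component
  have hshape : ∀ {M : Subgroup G}, Cfsg.IsComponent M →
      TI (M ⧸ center M) ∧ Nonempty (M ≃* SL25) := by
    intro M hM
    obtain ⟨N, hN, hNM⟩ := hother hM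
    have hcM : ∀ c : M, c ∈ center M → (c : G) = 1 ∨ (c : G) = z := fun c hc =>
      hPz c (center_component_le hO hM ⟨c, hc, rfl⟩)
    have hZM : IsPGroup 2 (center M) := by
      refine (pCore_pgroup (G := G)).of_injective
        ((M.subtype.comp (center M).subtype).codRestrict (Cfsg.pCore 2 G)
          fun c => center_component_le hO hM ⟨c, c.2, rfl⟩)
        fun a b he => Subtype.ext (Subtype.ext (congrArg Subtype.val he :))
    have hti : TI (M ⧸ center M) := by
      refine ti_quotient_center hZM fun Q₁ Q₂ x hx₁ hx₂ hxc hxx => ?_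
      have hxz : (x : G) * x = z := by
        rcases hcM _ hxx with e | e
        · exfalso
          refine hxc ?_
          by_cases hx1 : (x : G) = 1
          · rw [show x = 1 from Subtype.ext hx1]; exact one_mem _
          · exact mem_center_iff.2 fun m => Subtype.ext (by
              show (m : G) * x = x * m
              rw [hinv hM x x.2 e hx1]; exact hzG m)
        · exact e
      obtain ⟨RN⟩ : Nonempty (Sylow 2 N) := inferInstance
      obtain ⟨-, y, hy, -, hyz⟩ := hquat hN RN
      have hex : ∀ Q : Sylow 2 M, ∃ U : Sylow 2 G, (Q : Subgroup M).map M.subtype ≤ (U : Subgroup G) ∧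
          (y : G) ∈ (U : Subgroup G) := by
        intro Q
        obtain ⟨U, hU⟩ := ((RN.2.map N.subtype).to_sup_of_normal_right' (Q.2.map M.subtype) (by
          rintro _ ⟨w, -, rfl⟩
          refine LocalB.mem_normalizer_of_conj_le fun g hg => ?_
          obtain ⟨q, hq, rfl⟩ := hg
          show (w : G) * (q : G) * (w : G)⁻¹ ∈ _
          rw [component_commute hN hM hNM w w.2 q q.2, mul_inv_cancel_right]
          exact ⟨q, hq, rfl⟩)).exists_le_sylow
        exact ⟨U, le_sup_right.trans hU, hU (mem_sup_left ⟨y, hy, rfl⟩)⟩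
      obtain ⟨U, hU, hyU⟩ := hex Q₁
      obtain ⟨V, hV, hyV⟩ := hex Q₂
      have hc : (x : G) * y = y * x := component_commute hM hN hNM.symm x x.2 y y.2
      have hdz : (x : G) * y ≠ z := fun e => hxc (mem_center_iff.2 fun m => Subtype.ext
        (component_commute hM hN hNM.symm m m.2 x (by
          rw [eq_mul_inv_of_mul_eq e]; exact mul_mem (hzM hN) (inv_mem y.2))))
      have hd1 : (x : G) * y ≠ 1 := fun e => hxc (mem_center_iff.2 fun m => Subtype.ext
        (component_commute hM hN hNM.symm m m.2 x (by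
          rw [mul_eq_one_iff_eq_inv.1 e]; exact inv_mem y.2)))
      have e := h.unique_of_ne hz hz1 hzc hzP U V ((x : G) * y) (by
        rw [show (x : G) * y * ((x : G) * y) = (x : G) * (y * x) * y by group, ← hc,
          show (x : G) * ((x : G) * y) * y = (x : G) * x * (y * y) by group, hxz, hyz, hz]) hd1 hdz
        (mul_mem (hU ⟨x, hx₁, rfl⟩) hyU) (mul_mem (hV ⟨x, hx₂, rfl⟩) hyV)
      subst e
      have e1 : (U : Subgroup G).comap M.subtype = (Q₁ : Subgroup M) :=
        Q₁.3 U.2.comap_subtype fun p hp => hU ⟨p, hp, rfl⟩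
      have e2 : (U : Subgroup G).comap M.subtype = (Q₂ : Subgroup M) :=
        Q₂.3 U.2.comap_subtype fun p hp => hV ⟨p, hp, rfl⟩
      exact Sylow.ext (e1.symm.trans e2)
    refine ⟨hti, ?_⟩
    haveI : IsSimpleGroup (M ⧸ center M) := hM.2.2
    have hnc : ¬ IsMulCommutative (M ⧸ center M) := fun hc => Comp.component_not_solvable hM (by
      letI : CommGroup (M ⧸ center M) :=
        { (inferInstance : Group (M ⧸ center M)) with mul_comm := hc.is_comm.comm }
      haveI : Group.IsSolvable (M ⧸ center M) := inferInstance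
      haveI : Group.IsSolvable (center M) := by
        letI : CommGroup (center M) :=
          { (inferInstance : Group (center M)) with mul_comm := fun a b => Subtype.ext (mem_center_iff.1 b.2 a) }
        infer_instance
      exact (Group.isSolvable_iff_subgroup_quotient (center M)).2 ⟨inferInstance, inferInstance⟩)
    obtain ⟨hR, h3, -⟩ := hti.data hnc
    obtain ⟨R⟩ : Nonempty (Sylow 2 M) := inferInstance
    obtain ⟨⟨k, ⟨e⟩⟩, -⟩ := hquat hM R
    set π := QuotientGroup.mk' (center M) with hπ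
    let RX := R.mapSurjective (f := π) (QuotientGroup.mk'_surjective _)
    haveI : NeZero (2 ^ (k + 1)) := ⟨by positivity⟩
    let φ : QuaternionGroup (2 ^ (k + 1)) →* M ⧸ center M :=
      π.comp ((R : Subgroup M).subtype.comp e.symm.toMonoidHom)
    have hφR : ∀ q, φ q ∈ (RX : Subgroup (M ⧸ center M)) := fun q => ⟨_, (e.symm q).2, rfl⟩
    -- the images of the elements outside the cyclic subgroup are central
    have hxa : ∀ l, ∀ s ∈ (RX : Subgroup (M ⧸ center M)), s * φ (.xa l) = φ (.xa l) * s := by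
      intro l s hs
      set q : QuaternionGroup (2 ^ (k + 1)) := .xa l with hq
      by_cases h1 : φ q = 1
      · rw [h1, one_mul, mul_one]
      refine (CentralMeet.mem_zs.1 (hR.mem_zs_of_invol RX (orderOf_eq_prime ?_ h1) (hφR q))).2 s hs
      have h4 : q ^ 4 = 1 := by
        rw [← QuaternionGroup.orderOf_xa (n := 2 ^ (k + 1)) l]
        exact pow_orderOf_eq_one q
      have hw : ((e.symm q : M) * (e.symm q : M) : M) * ((e.symm q : M) * (e.symm q : M)) = 1 := by
        rw [← Subgroup.coe_mul, ← Subgroup.coe_mul, ← map_mul, ← map_mul,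
          show q * q * (q * q) = q ^ 4 from ((congrArg₂ (· * ·) (sq q).symm (sq q).symm).trans (pow_add q 2 2).symm), h4, map_one]
        rfl
      rw [sq]
      refine (QuotientGroup.eq_one_iff ((e.symm q : M) * (e.symm q : M))).2 (mem_center_iff.2 fun m => ?_)
      refine Subtype.ext ?_
      by_cases h2 : (((e.symm q : M) * (e.symm q : M) : M) : G) = 1
      · show (m : G) * _ = _ * (m : G)
        rw [h2, one_mul, mul_one]
      · show (m : G) * _ = _ * (m : G)
        rw [hinv hM _ ((e.symm q : M) * (e.symm q : M)).2 (congrArg Subtype.val hw) h2]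
        exact hzG m
    have hφc : ∀ q, ∀ s ∈ (RX : Subgroup (M ⧸ center M)), s * φ q = φ q * s := by
      rintro (l | l) s hs
      · rw [show QuaternionGroup.a l = (QuaternionGroup.xa (0 : ZMod (2 * 2 ^ (k + 1))))⁻¹ *
            QuaternionGroup.xa l by rw [eq_inv_mul_iff_mul_eq, QuaternionGroup.xa_mul_a, zero_add],
          map_mul, map_inv]
        exact ((show Commute s (φ (.xa 0)) from hxa 0 s hs).inv_right.mul_right (hxa l s hs)).eq
      · exact hxa l s hs
    have hab : ∀ a ∈ (R : Subgroup M).map π, ∀ b ∈ (R : Subgroup M).map π, a * b = b * a := by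
      intro a ha b hb
      obtain ⟨r, hr, rfl⟩ := hb
      have e' : φ (e ⟨r, hr⟩) = π r := congrArg (fun w : (R : Subgroup M) => π (w : M)) (e.symm_apply_apply ⟨r, hr⟩)
      rw [← e']
      exact hφc _ a ha
    have hRna : ¬ IsMulCommutative (R : Subgroup M) := fun hc => by
      obtain ⟨i, j, hii, -, -, -, hcen⟩ := quaternion_data k
      exact hii (hcen i fun x => e.symm.injective (by rw [map_mul, map_mul]; exact hc.is_comm.comm _ _))
    rcases CentralMeet.small_or_nonab le_rfl hZM h3 hR R hRna with ⟨F, i1, i2, hF, ⟨eF⟩, -⟩ | hna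
    · have hperf : commutator M = ⊤ := hM.2.1.1
      obtain ⟨e5⟩ := CentralMeet.sl_two_five h3 le_rfl hZM (CentralMeet.three_not_comm hR) hRna hF eF hab
      exact ⟨((topEquiv.symm).trans (MulEquiv.subgroupCongr hperf.symm)).trans e5⟩
    · exact absurd ⟨⟨fun a b => Subtype.ext (hab _ a.2 _ b.2)⟩⟩ hna
  obtain ⟨hti₁, ⟨e₁⟩⟩ := hshape h₁
  obtain ⟨hti₂, ⟨e₂⟩⟩ := hshape h₂
  have hc12 := component_commute h₁ h₂ hne
  set G₁ := M₁ ⊔ M₂ with hG₁
  obtain ⟨Z, hZn, hZ, ⟨eG⟩⟩ := join_sl_two_five hc12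
    (fun hb => hz1 (mem_bot.1 (hb ▸ ⟨hzM h₁, hzM h₂⟩))) e₁ e₂
  obtain rfl : Z = negPair := hZ
  refine ⟨G₁, ?_, ?_, ⟨eG⟩⟩
  · have hlayer : Cfsg.layer G = G₁ := le_antisymm
      (Comp.layer_le fun L hL => by rcases honly L hL with rfl | rfl <;> simp [hG₁])
      (sup_le (Comp.component_le_layer h₁) (Comp.component_le_layer h₂))
    rw [← hlayer]
    infer_instance
  -- the elements fixing both components
  set N₀ := normalizer (M₁ : Set G) with hN₀
  have hperm : ∀ g : G, g ∉ N₀ → M₁.map (MulAut.conj g).toMonoidHom = M₂ := fun g hg => by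
    refine (honly _ (Comp.component_conj g h₁)).resolve_left fun e => hg ?_
    exact LocalB.mem_normalizer_of_conj_le fun x hx => e.le ⟨x, hx, rfl⟩
  have hmemN : ∀ g : G, M₁.map (MulAut.conj g).toMonoidHom = M₁ → g ∈ N₀ := fun g e =>
    LocalB.mem_normalizer_of_conj_le fun x hx => e.le ⟨x, hx, rfl⟩
  have hidx : N₀.index = 1 ∨ N₀.index = 2 := by
    by_cases hall : N₀ = ⊤
    · exact Or.inl (by rw [hall, index_top])
    refine Or.inr ?_
    obtain ⟨a, -, ha⟩ := SetLike.exists_of_lt (lt_top_iff_ne_top.2 hall)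
    have hai : a⁻¹ ∉ N₀ := fun e => ha (inv_mem_iff.1 e)
    refine index_eq_two_iff.2 ⟨a, fun b => ?_⟩
    by_cases hb : b ∈ N₀
    · exact Or.inr ⟨hb, fun e => ha (by simpa using mul_mem (inv_mem hb) e)⟩
    refine Or.inl ⟨hmemN _ ?_, hb⟩
    have hbinv : b⁻¹ ∉ N₀ := fun e => hb (inv_mem_iff.1 e)
    have h1 := congrArg (Subgroup.map (MulAut.conj b).toMonoidHom) (hperm _ hbinv)
    rw [map_map, show (MulAut.conj b).toMonoidHom.comp (MulAut.conj b⁻¹).toMonoidHom = MonoidHom.id G from
      MonoidHom.ext fun x => by simp [mul_assoc], map_id] at h1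
    rw [show (MulAut.conj (b * a)).toMonoidHom =
        (MulAut.conj b).toMonoidHom.comp (MulAut.conj a).toMonoidHom from
      MonoidHom.ext fun x => by simp [mul_assoc], ← map_map, hperm a ha, ← h1]
  haveI hN₀n : N₀.Normal := by
    rcases hidx with e | e
    · rw [index_eq_one.1 e]; infer_instance
    · exact normal_of_index_eq_two e
  have hM1N : M₁ ≤ N₀ := le_normalizer
  have hM2N : M₂ ≤ N₀ := fun m hm => LocalB.mem_normalizer_of_conj_le fun x hx => by
    rw [← hc12 x hx m hm, mul_inv_cancel_right]; exact hx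
  have hN₀2 : ∀ g ∈ N₀, ∀ x ∈ M₂, g * x * g⁻¹ ∈ M₂ := fun g hg x hx => by
    have e := (honly _ (Comp.component_conj g h₂)).resolve_left fun e => hne ?_
    · exact e.le ⟨x, hx, rfl⟩
    refine le_antisymm (fun w hw => ?_) (fun w hw => ?_)
    · obtain ⟨v, hv, ev⟩ := e.ge ((mem_normalizer_iff.1 hg w).1 hw)
      rw [← mul_left_cancel (mul_right_cancel ev)]
      exact hv
    · have h1 := (mem_normalizer_iff.1 hg w).2 (e.le ⟨w, hw, rfl⟩)
      exact h1
  obtain ⟨S⟩ : Nonempty (Sylow 2 G) := inferInstance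
  obtain ⟨S₀, hS₀⟩ := PushL2.exists_sylow_inf N₀ S
  have hzS : z ∈ (S : Subgroup G) := pCore_le S hzP
  have hmain : ∀ {A B : Subgroup G}, Cfsg.IsComponent A → Cfsg.IsComponent B → A ≠ B → A ≤ N₀ → B ≤ N₀ →
      (∀ g ∈ N₀, ∀ x ∈ A, g * x * g⁻¹ ∈ A) → (∀ g ∈ N₀, ∀ x ∈ B, g * x * g⁻¹ ∈ B) →
      TI (A ⧸ center A) →
      ∀ s ∈ (S : Subgroup G) ⊓ N₀, ∃ a ∈ A, ∀ m ∈ A, m * (a⁻¹ * s) = a⁻¹ * s * m := by
    intro A B hA hB hAB hAN hBN hAn hBn hti s hs
    haveI hA0 : (A.subgroupOf N₀).Normal := ⟨fun x hx g => hAn g g.2 x hx⟩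
    haveI hB0 : (B.subgroupOf N₀).Normal := ⟨fun x hx g => hBn g g.2 x hx⟩
    let eA : A.subgroupOf N₀ ≃* A := subgroupOfEquivOfLe hAN
    have hA' : Cfsg.IsComponent (A.subgroupOf N₀) := Comp.component_subgroupOf hA hAN
    have hti' : TI (A.subgroupOf N₀ ⧸ center (A.subgroupOf N₀)) := hti.congr
      (QuotientGroup.congr _ _ eA.symm (by
        ext x
        constructor
        · rintro ⟨c, hc, rfl⟩
          refine mem_center_iff.2 fun w => eA.injective ?_
          rw [map_mul, map_mul]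
          show eA w * eA (eA.symm c) = eA (eA.symm c) * eA w
          rw [eA.apply_symm_apply, mem_center_iff.1 hc]
        · intro hx
          refine ⟨eA x, mem_center_iff.2 fun w => eA.symm.injective ?_, eA.symm_apply_apply x⟩
          rw [map_mul, map_mul, eA.symm_apply_apply, mem_center_iff.1 hx]))
    have hodd := odd_index_sup (A.subgroupOf N₀) hA'.2 (Comp.component_perfect hA') hti' S₀ (by
      intro x hx hc
      rw [hS₀]
      refine mem_subgroupOf.2 ?_
      rcases hPz (x : G) (component_inter_centralizer hO hA hx fun m hm =>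
        congrArg Subtype.val (hc ⟨m, hAN hm⟩ hm)) with e | e <;> rw [e]
      · exact one_mem _
      · exact hzS) (by
      intro m hm hmx
      obtain ⟨RA, hRA⟩ := PushL2.exists_sylow_inf (A.subgroupOf N₀) S₀
      obtain ⟨RB, hRB⟩ := PushL2.exists_sylow_inf (B.subgroupOf N₀) S₀
      have hmove : (m : G) ∈ normalizer ((S : Subgroup G) : Set G) := by
        let fA : Sylow 2 A := RA.mapSurjective (f := eA.toMonoidHom) eA.surjective
        let eB : B.subgroupOf N₀ ≃* B := subgroupOfEquivOfLe hBN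
        let fB : Sylow 2 B := RB.mapSurjective (f := eB.toMonoidHom) eB.surjective
        obtain ⟨-, x, ⟨x', hx', rfl⟩, hxP, hxz⟩ := hquat hA fA
        obtain ⟨-, y, ⟨y', hy', rfl⟩, -, hyz⟩ := hquat hB fB
        rw [hRA] at hx'
        rw [hRB] at hy'
        have hxS0 : (x' : N₀) ∈ (S₀ : Subgroup N₀) := hx'
        have hyS0 : (y' : N₀) ∈ (S₀ : Subgroup N₀) := hy'
        have hxS : ((x' : N₀) : G) ∈ (S : Subgroup G) := by rw [hS₀] at hxS0; exact hxS0
        have hyS : ((y' : N₀) : G) ∈ (S : Subgroup G) := by rw [hS₀] at hyS0; exact hyS0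
        set xg : G := ((x' : N₀) : G)
        set yg : G := ((y' : N₀) : G)
        change xg * xg = z at hxz
        change yg * yg = z at hyz
        change xg ∉ _ at hxP
        have hxA : xg ∈ A := x'.2
        have hyB : yg ∈ B := y'.2
        have hc : xg * yg = yg * xg := component_commute hA hB hAB xg hxA yg hyB
        have hd1 : xg * yg ≠ 1 := fun e => hxP (component_inter_centralizer hO hA hxA fun w hw =>
          component_commute hA hB hAB w hw xg (by rw [mul_eq_one_iff_eq_inv.1 e]; exact inv_mem hyB))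
        have hdz : xg * yg ≠ z := fun e => hxP (component_inter_centralizer hO hA hxA fun w hw =>
          component_commute hA hB hAB w hw xg (by
            rw [eq_mul_inv_of_mul_eq e]; exact mul_mem (hzM hB) (inv_mem hyB)))
        refine h.move hz hz1 hzc hzP (d := xg * yg) (by
          rw [show xg * yg * (xg * yg) = xg * (yg * xg) * yg by group, ← hc,
            show xg * (xg * yg) * yg = xg * xg * (yg * yg) by group, hxz, hyz, hz]) hd1 hdz
          (mul_mem hxS hyS) ?_
        have hmy : (m : G) * yg * (m : G)⁻¹ = yg := by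
          rw [component_commute hA hB hAB m hm yg hyB, mul_inv_cancel_right]
        rw [show (m : G) * (xg * yg) * (m : G)⁻¹ = (m : G) * xg * (m : G)⁻¹ * ((m : G) * yg * (m : G)⁻¹) by group,
          hmy]
        refine mul_mem ?_ hyS
        have h1 := (hmx (x' : N₀) ⟨hxS0, x'.2⟩).1
        rw [hS₀] at h1
        exact h1
      refine mem_normalizer_iff.2 fun w => ?_
      rw [hS₀, mem_subgroupOf, mem_subgroupOf]
      exact mem_normalizer_iff.1 hmove w)
    set C := centralizer ((A.subgroupOf N₀ : Subgroup N₀) : Set N₀) with hC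
    haveI : C.Normal := Subgroup.normal_centralizer
    have hs' : (⟨s, hs.2⟩ : N₀) ∈ A.subgroupOf N₀ ⊔ C := by
      haveI : (A.subgroupOf N₀ ⊔ C).Normal := Subgroup.sup_normal _ _
      obtain ⟨k, hk⟩ := CentralMeet.exists_pow_of_mem S.2 hs.1
      refine (QuotientGroup.eq_one_iff _).1 (Bender.Consumers.eq_one_of_two_of_odd ?_ (i := k) ?_)
      · exact ((A.subgroupOf N₀ ⊔ C).index_eq_card ▸ hodd).of_dvd_nat (orderOf_dvd_natCard _)
      · rw [← QuotientGroup.mk_pow, show (⟨s, hs.2⟩ : N₀) ^ 2 ^ k = 1 from Subtype.ext hk,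
          QuotientGroup.mk_one]
    obtain ⟨a, ha, c, hc, e⟩ := mem_sup_of_normal_left.1 hs'
    refine ⟨a, ha, fun m hm => ?_⟩
    have e' : (a : G) * c = s := congrArg Subtype.val e
    rw [← e', inv_mul_cancel_left]
    exact congrArg Subtype.val (mem_centralizer_iff.1 hc ⟨m, hAN hm⟩ hm)
  have hSG : ∀ s ∈ (S : Subgroup G) ⊓ N₀, s ∈ G₁ := by
    intro s hs
    have hn1 : ∀ g ∈ N₀, ∀ x ∈ M₁, g * x * g⁻¹ ∈ M₁ := fun g hg x hx => (mem_normalizer_iff.1 hg x).1 hx
    obtain ⟨a, ha, hac⟩ := hmain h₁ h₂ hne hM1N hM2N hn1 hN₀2 hti₁ s hs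
    obtain ⟨b, hb, hbc⟩ := hmain h₂ h₁ hne.symm hM2N hM1N hN₀2 hn1 hti₂ s hs
    set w := b⁻¹ * a⁻¹ * s with hw
    have hw1 : ∀ m ∈ M₁, m * w = w * m := fun m hm => by
      rw [hw, mul_assoc]
      exact ((show Commute m b⁻¹ from hc12 m hm _ (inv_mem hb)).mul_right (hac m hm)).eq
    have hw2 : ∀ m ∈ M₂, m * w = w * m := fun m hm => by
      rw [hw, ← hc12 _ (inv_mem ha) _ (inv_mem hb), mul_assoc]
      exact ((show Commute m a⁻¹ from (hc12 _ (inv_mem ha) m hm).symm).mul_right (hbc m hm)).eq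
    have hwF : w ∈ Cfsg.generalizedFittingSubgroup G := by
      refine Comp.centralizer_Fstar_le (mem_centralizer_iff.2 fun x hx => ?_)
      have hlayer : Cfsg.layer G ≤ centralizer ({w} : Set G) := Comp.layer_le fun L hL => fun m hm => by
        refine mem_centralizer_singleton_iff.2 ?_
        rcases honly L hL with rfl | rfl
        · exact hw1 m hm
        · exact hw2 m hm
      have hF : Cfsg.fittingSubgroup G ≤ centralizer ({w} : Set G) := fun p hp => by
        refine mem_centralizer_singleton_iff.2 ?_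
        rw [fitting_eq hO] at hp
        rcases hPz p hp with e | e <;> rw [e]
        · rw [one_mul, mul_one]
        · exact (hzG w).symm
      exact mem_centralizer_singleton_iff.1 ((sup_le hlayer hF) hx)
    have hle : Cfsg.generalizedFittingSubgroup G ≤ G₁ := sup_le
      (Comp.layer_le fun L hL => by rcases honly L hL with rfl | rfl <;> simp [hG₁]) (by
      rw [fitting_eq hO]
      intro p hp
      rcases hPz p hp with e | e <;> rw [e]
      · exact one_mem _
      · exact mem_sup_left (hzM h₁))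
    have h1 := mul_mem (mul_mem (mem_sup_left (T := M₂) ha) (mem_sup_right hb)) (hle hwF)
    rwa [hw, show a * b * (b⁻¹ * a⁻¹ * s) = s by group] at h1
  have hG₁N : G₁ ≤ N₀ := sup_le hM1N hM2N
  have hoddrel : Odd (G₁.relIndex N₀) := by
    refine Nat.not_even_iff_odd.1 fun h2 => S₀.not_dvd_index ((even_iff_two_dvd.1 h2).trans ?_)
    refine index_dvd_of_le fun x hx => ?_
    rw [hS₀] at hx
    exact mem_subgroupOf.2 (hSG x ⟨hx, x.2⟩)
  rcases hidx with e | e
  · exact Or.inl (by rw [← relIndex_mul_index hG₁N, e, mul_one]; exact hoddrel)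
  · exact Or.inr ⟨_, hoddrel, by rw [← relIndex_mul_index hG₁N, e, mul_comm]⟩

end CfsgLib.RankOneMeet
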