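import Cfsg.Agent.RankOneMeet.Reduce
import Cfsg.Agent.RankOneMeet.TrivialTwoCore
import Cfsg.Agent.RankOneMeet.TwoComp
import Cfsg.Agent.RankOneMeet.Quaternion
import Cfsg.Agent.RankOneMeet.CyclicOne

/-!
# Intersections of Sylow 2-subgroups of rank at most one: the theorem
-/

set_option autoImplicit false
set_option linter.unusedSectionVars false
set_option linter.style.haveILetI false

namespace CfsgLib.RankOneMeet

open Subgroup

universe u

variable {G : Type u} [Group G] [Finite G]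

theorem main (h : Rk G) (hO : Cfsg.oddCore G = ⊥) (hns : ¬ Group.IsSolvable G)
    (hnC : ∃ S T : Sylow 2 G, S ≠ T ∧ ¬ IsCyclic ↥((S : Subgroup G) ⊓ (T : Subgroup G)))
    (hnQ : ∀ S : Sylow 2 G, ∀ n : ℕ, IsEmpty (↥(S : Subgroup G) ≃* QuaternionGroup (2 ^ (n + 1)))) :
    ConclA G ∨ ConclB G := by
  by_cases hP : Cfsg.pCore 2 G = ⊥
  · exact (trivial_two_core_false h hO hns hnC hP).elim
  obtain ⟨M, hM⟩ := exists_component h hO hns
  by_cases hu : ∀ N : Subgroup G, Cfsg.IsComponent N → N = M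
  · rcases pCore_type h hns with hc | ⟨n, hn, ⟨e⟩⟩
    · exact (cyclic_one_component_false h hO hns hnC hnQ hM hu hc hP).elim
    · obtain ⟨m, rfl⟩ : ∃ m, n = m + 1 := ⟨n - 1, by omega⟩
      exact Or.inl (quaternion_case h hO hns e)
  · push Not at hu
    obtain ⟨N, hN, hne⟩ := hu
    exact Or.inr (two_comp h hO hns hP hN hM hne)

end CfsgLib.RankOneMeet
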